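import Groth.Agent.MultType.SplitPart
import Mathlib.RingTheory.Spectrum.Prime.Topology
import Mathlib.RingTheory.LocalRing.ResidueField.Fiber

/-!
Connected fibres.
-/

universe u

open TensorProduct SGA3b
open scoped TensorProduct

namespace Groth.Agent.MultType

/-- An idempotent killed by the counit vanishes if the fibres are connected. -/
lemma idempotent_eq_zero_of_connected {A : Type u} [CommRing A] {C : Type u} [CommRing C] [HopfAlgebra A C]
    (hconn : ∀ (p : Ideal A) [p.IsPrime], ConnectedSpace (PrimeSpectrum (p.ResidueField ⊗[A] C))) {e : C}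
    (he : IsIdempotentElem e) (hεe : Coalgebra.counit (R := A) e = 0) : e = 0 := by
  refine he.eq_zero_of_isNilpotent (nilpotent_iff_mem_prime.2 fun P hP => ?_)
  haveI := hP
  set p := P.comap (algebraMap A C) with hp
  let F := p.ResidueField ⊗[A] C
  let u : F := (1 : p.ResidueField) ⊗ₜ[A] e
  have hu : IsIdempotentElem u := he.map (Algebra.TensorProduct.includeRight : C →ₐ[A] F)
  haveI := hconn p
  have hcl : IsClopen (PrimeSpectrum.basicOpen u : Set (PrimeSpectrum F)) :=
    PrimeSpectrum.isClopen_iff.2 ⟨u, hu, rfl⟩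
  have h0 : u = 0 := by
    rcases isClopen_iff.1 hcl with h | h
    · refine hu.eq_zero_of_isNilpotent (PrimeSpectrum.basicOpen_eq_bot_iff u |>.1 ?_)
      exact TopologicalSpace.Opens.ext h
    · exfalso
      have hunit : IsUnit u := by
        by_contra hnu
        obtain ⟨m, hm, hum⟩ := exists_max_ideal_of_mem_nonunits hnu
        have h2 : (⟨m, hm.isPrime⟩ : PrimeSpectrum F) ∈ (PrimeSpectrum.basicOpen u : Set (PrimeSpectrum F)) := by
          rw [h]; trivial
        exact h2 hum
      have h1 : u = 1 := (IsIdempotentElem.iff_eq_one_of_isUnit hunit).1 hu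
      have h2 := congrArg (Coalgebra.counit (R := p.ResidueField)) h1
      rw [TensorProduct.counit_tmul, hεe, zero_smul, Bialgebra.counit_one] at h2
      exact zero_ne_one h2
  -- evaluate at `P`
  let κ := P.ResidueField
  let j : p.ResidueField →ₐ[A] κ := Ideal.ResidueField.liftₐ p (Algebra.ofId A κ)
    (fun r hr => by
      show algebraMap A κ r = 0
      rw [IsScalarTower.algebraMap_apply A C κ, Ideal.algebraMap_residueField_eq_zero]
      exact hr)
    (fun r hr => isUnit_iff_ne_zero.2 fun h => hr (by
      have h' : algebraMap A κ r = 0 := h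
      rw [IsScalarTower.algebraMap_apply A C κ, Ideal.algebraMap_residueField_eq_zero] at h'
      exact h'))
  have h3 := congrArg (Algebra.TensorProduct.lift j (IsScalarTower.toAlgHom A C κ) fun _ _ => Commute.all _ _) h0
  rw [map_zero, Algebra.TensorProduct.lift_tmul, map_one, one_mul, IsScalarTower.coe_toAlgHom',
    Ideal.algebraMap_residueField_eq_zero] at h3
  exact h3

/-- A formally isotrivial group with connected fibres is isotrivial. -/
theorem exists_iso_of_connected {A : Type u} [CommRing A] [IsNoetherianRing A] {I : Ideal A} [IsAdicComplete I A]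
    {C : Type u} [CommRing C] [HopfAlgebra A C] [Module.Flat A C] (hft : Algebra.FiniteType A C)
    (hconn : ∀ (p : Ideal A) [p.IsPrime], ConnectedSpace (PrimeSpectrum (p.ResidueField ⊗[A] C)))
    (h0 : IsIsotrivial (A ⧸ I) ((A ⧸ I) ⊗[A] C)) :
    ∃ (S : Type u) (_ : CommRing S) (_ : Algebra A S) (M : Type u) (_ : CommGroup M),
      Algebra.Etale A S ∧ Module.Finite A S ∧ Module.FaithfullyFlat A S ∧
      Nonempty ((S ⊗[A] C) ≃ₐc[S] MonoidAlgebra S M) := by
  obtain ⟨e, S, _, _, M, _, ψ, h1, h2, h3, h4, he, heI, hψ, hker⟩ :=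
    exists_split_part (I := I) hft (fun k => inferInstance) h0
  have hεe : Coalgebra.counit (R := A) e = 0 := by
    have h := Ideal.mem_map_of_mem (Bialgebra.counitAlgHom A C : C →+* A) heI
    rw [Ideal.map_map, show (Bialgebra.counitAlgHom A C : C →+* A).comp (algebraMap A C) = RingHom.id A from
      (Bialgebra.counitAlgHom A C).comp_algebraMap, Ideal.map_id] at h
    exact Hensel.idempotent_eq_of_sub_mem_jacobson (he.map (Bialgebra.counitAlgHom A C))
      IsIdempotentElem.zero (by rw [sub_zero]; exact IsAdicComplete.le_jacobson_bot I h)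
  rw [idempotent_eq_zero_of_connected hconn he hεe, TensorProduct.tmul_zero, Ideal.span_singleton_zero] at hker
  exact ⟨S, _, _, M, _, h1, h2, h3, ⟨BialgEquiv.ofBijective ψ ⟨(RingHom.injective_iff_ker_eq_bot _).2 hker, hψ⟩⟩⟩

/-- Base change of a diagonalisation. -/
noncomputable def scalarEquiv {S : Type u} [CommRing S] {B : Type u} [CommRing B] [HopfAlgebra S B] (T : Type u)
    [CommRing T] [Algebra S T] {M : Type*} [CommGroup M] (e : B ≃ₐc[S] MonoidAlgebra S M) :
    (T ⊗[S] B) ≃ₐc[T] MonoidAlgebra T M :=
  let θ : M →* T ⊗[S] B := (Algebra.TensorProduct.includeRight : B →ₐ[S] T ⊗[S] B).toMonoidHom.comp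
    (((e.symm : MonoidAlgebra S M →ₐc[S] B) : MonoidAlgebra S M →ₐ[S] B).toMonoidHom.comp (MonoidAlgebra.of S M))
  have hgl : ∀ m, IsGroupLikeElem T (θ m) := fun m => by
    have h := (MonoidAlgebra.isGroupLikeElem_single_one (R := S) (A := S) m).map e.symm
    constructor
    · show Coalgebra.counit (R := T) ((1 : T) ⊗ₜ[S] e.symm (MonoidAlgebra.single m 1)) = 1
      rw [TensorProduct.counit_tmul, h.counit_eq_one, one_smul, CommSemiring.counit_apply]
    · show Coalgebra.comul (R := T) ((1 : T) ⊗ₜ[S] e.symm (MonoidAlgebra.single m 1)) = _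
      rw [TensorProduct.comul_tmul, h.comul_eq_tmul_self, CommSemiring.comul_apply,
        TensorProduct.AlgebraTensorModule.tensorTensorTensorComm_tmul]
      rfl
  let φ : MonoidAlgebra T M →ₐc[T] T ⊗[S] B :=
    BialgHom.ofAlgHom (MonoidAlgebra.lift T (T ⊗[S] B) M θ)
      (by ext m; simp [(hgl m).counit_eq_one]) (by ext m; simp [(hgl m).comul_eq_tmul_self])
  have hb : Function.Bijective φ := by
    let b : Module.Basis M T (T ⊗[S] B) := Algebra.TensorProduct.basis T
      ((MonoidAlgebra.basis M S).map (e : B ≃ₐ[S] MonoidAlgebra S M).toLinearEquiv.symm)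
    have h : ((MonoidAlgebra.basis M T).equiv b (Equiv.refl M)).toLinearMap =
        (MonoidAlgebra.lift T (T ⊗[S] B) M θ).toLinearMap := (MonoidAlgebra.basis M T).ext fun m => by
      simp only [LinearEquiv.coe_coe, Module.Basis.equiv_apply, Equiv.refl_apply]
      simp [b, θ]
      rfl
    have h' : ⇑((MonoidAlgebra.basis M T).equiv b (Equiv.refl M)) = ⇑φ := funext fun z => congr($h z)
    rw [← h']
    exact LinearEquiv.bijective _
  (BialgEquiv.ofBijective φ hb).symm

/-- Group algebras isomorphic over a nontrivial domain have isomorphic groups. -/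
lemma nonempty_mulEquiv {K : Type u} [CommRing K] [IsDomain K] {M : Type u} [CommGroup M] {N : Type*} [CommGroup N]
    (e : MonoidAlgebra K M ≃ₐc[K] MonoidAlgebra K N) : Nonempty (M ≃* N) := by
  have hf : ∀ m, ∃ n, e (MonoidAlgebra.single m 1) = MonoidAlgebra.single n 1 := fun m => by
    obtain ⟨n, hn⟩ := MonoidAlgebra.isGroupLikeElem_iff_mem_range_of.1
      ((MonoidAlgebra.isGroupLikeElem_single_one (R := K) (A := K) m).map e)
    exact ⟨n, hn.symm⟩
  choose f hf using hf
  have hinj : Function.Injective f := fun a b hab =>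
    MonoidAlgebra.single_left_injective one_ne_zero (EquivLike.injective e ((hf a).trans (hab ▸ (hf b).symm)))
  have hsur : Function.Surjective f := fun n => by
    obtain ⟨m, hm⟩ := MonoidAlgebra.isGroupLikeElem_iff_mem_range_of.1
      ((MonoidAlgebra.isGroupLikeElem_single_one (R := K) (A := K) n).map e.symm)
    refine ⟨m, MonoidAlgebra.single_left_injective one_ne_zero ((hf m).symm.trans ?_)⟩
    rw [show (MonoidAlgebra.single m 1 : MonoidAlgebra K M) = e.symm (MonoidAlgebra.single n 1) from hm]
    exact e.apply_symm_apply _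
  refine ⟨MulEquiv.mk' (Equiv.ofBijective f ⟨hinj, hsur⟩) fun a b =>
    MonoidAlgebra.single_left_injective (one_ne_zero (α := K)) ?_⟩
  show MonoidAlgebra.single (f (a * b)) 1 = MonoidAlgebra.single (f a * f b) 1
  rw [← hf, show (MonoidAlgebra.single (f a * f b) 1 : MonoidAlgebra K N) =
    MonoidAlgebra.single (f a) 1 * MonoidAlgebra.single (f b) 1 by simp, ← hf, ← hf, ← map_mul,
    MonoidAlgebra.single_mul_single, one_mul]

end Groth.Agent.MultType
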