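import Groth.Agent.MultType.Deform
import Groth.Agent.Hensel.FiniteEtale

/-!
Flat deformations of isotrivial and quasi-isotrivial groups.
-/

universe u v

open TensorProduct SGA3b
open scoped TensorProduct

namespace Groth.Agent.MultType

/-- Transfer of `IsDiag` along a bialgebra equivalence. -/
lemma isDiag_congr {S : Type u} [CommRing S] {B B' : Type u} [CommRing B] [HopfAlgebra S B] [CommRing B']
    [HopfAlgebra S B'] (e : B ≃ₐc[S] B') (h : IsDiag S B) : IsDiag S B' := by
  obtain ⟨M, _, ⟨e'⟩⟩ := h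
  exact ⟨M, inferInstance, ⟨e.symm.trans e'⟩⟩

/-- An étale ff algebra over `L ⧸ I` splitting `A` lifts to one over `L`. -/
lemma exists_splitting_lift {L : Type u} [CommRing L] (I : Ideal L) (hI : IsNilpotent I)
    (B : Type u) [CommRing B] [HopfAlgebra L B] [Module.Flat L B]
    (R₀ : Type u) [CommRing R₀] [Algebra L R₀] [Algebra (L ⧸ I) R₀] [IsScalarTower L (L ⧸ I) R₀]
    [Algebra.Etale (L ⧸ I) R₀] [Module.FaithfullyFlat (L ⧸ I) R₀]
    (h : IsDiag R₀ (R₀ ⊗[L] B)) :
    ∃ (R' : Type u) (_ : CommRing R') (_ : Algebra L R'), Algebra.Etale L R' ∧ Module.FaithfullyFlat L R' ∧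
      IsDiag R' (R' ⊗[L] B) ∧ (Module.Finite (L ⧸ I) R₀ → Module.Finite L R') := by
  obtain ⟨R', _, _, _, Φ, hΦ, hker⟩ := Hensel.exists_etale_lift_of_quotient (I := I) R₀
  letI : Algebra R' R₀ := Φ.toRingHom.toAlgebra
  haveI : IsScalarTower L R' R₀ := IsScalarTower.of_algebraMap_eq fun r => (Φ.commutes r).symm
  have hn : IsNilpotent (RingHom.ker (algebraMap R' R₀)) := by
    obtain ⟨n, hn⟩ := hI
    refine ⟨n, ?_⟩
    show RingHom.ker Φ.toRingHom ^ n = _
    rw [hker, ← Ideal.map_pow, hn]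
    simp
  have hflat : Module.Flat L R' := Algebra.Smooth.flat L R'
  have hff : Module.FaithfullyFlat L R' := by
    refine { submodule_ne_top := fun {m} hm htop => ?_ }
    have hIm : I ≤ m := by
      obtain ⟨n, hn⟩ := hI
      intro x hx
      refine hm.isPrime.mem_of_pow_mem n ?_
      have := Ideal.pow_mem_pow hx n
      rw [hn] at this
      exact (show (⊥ : Ideal L) ≤ m from bot_le) this
    have hm' : (m.map (Ideal.Quotient.mk I)).IsMaximal := by
      refine Ideal.IsMaximal.map_of_surjective_of_ker_le Ideal.Quotient.mk_surjective ?_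
      rw [Ideal.mk_ker]; exact hIm
    apply Module.FaithfullyFlat.submodule_ne_top (M := R₀) hm'
    rw [Ideal.smul_top_eq_map] at htop ⊢
    have h1 : (1 : R') ∈ (m.map (algebraMap L R') : Ideal R') := by
      have : (1 : R') ∈ (Submodule.restrictScalars L (m.map (algebraMap L R'))) := by rw [htop]; trivial
      exact this
    have h2 := Ideal.mem_map_of_mem Φ.toRingHom h1
    rw [Ideal.map_map, map_one, show Φ.toRingHom.comp (algebraMap L R') = algebraMap L R₀ from Φ.comp_algebraMap,
      IsScalarTower.algebraMap_eq L (L ⧸ I) R₀, ← Ideal.map_map, ← Ideal.eq_top_iff_one] at h2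
    have h3 : Ideal.map (algebraMap (L ⧸ I) R₀) (m.map (Ideal.Quotient.mk I)) = ⊤ := h2
    rw [h3]
    rfl
  refine ⟨R', inferInstance, inferInstance, inferInstance, hff, ?_, fun hfin => ?_⟩
  · exact isDiag_of_nilpotent R₀ hΦ hn (isDiag_congr (cbc (R := L) (A := B) R' R₀).symm h)
  · haveI : Module.Finite L R₀ := Module.Finite.trans (L ⧸ I) R₀
    obtain ⟨G, hG⟩ := (inferInstance : Module.Finite L R₀).fg_top
    choose f hf using hΦ
    classical
    let N : Submodule L R' := Submodule.span L ((G.image f : Finset R') : Set R')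
    have h1 : (⊤ : Submodule L R') ≤ N ⊔ I • ⊤ := by
      intro x _
      have hx : Φ x ∈ Submodule.map Φ.toLinearMap N := by
        rw [Submodule.map_span, Finset.coe_image, ← Set.image_comp]
        have : (Φ.toLinearMap ∘ f) '' (G : Set R₀) = G := by
          rw [show (Φ.toLinearMap ∘ f) = id from funext hf, Set.image_id]
        rw [this, hG]; trivial
      obtain ⟨y, hy, hyx⟩ := hx
      rw [← add_sub_cancel y x]
      refine Submodule.add_mem_sup hy ?_
      rw [Ideal.smul_top_eq_map]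
      show x - y ∈ I.map (algebraMap L R')
      rw [← hker, RingHom.mem_ker]
      show Φ (x - y) = 0
      rw [map_sub, show Φ y = Φ x from hyx, sub_self]
    have h2 : ∀ j : ℕ, (⊤ : Submodule L R') ≤ N ⊔ I ^ j • ⊤ := by
      intro j
      induction j with
      | zero => simp only [pow_zero, one_smul]; exact le_sup_right
      | succ j ih =>
        refine h1.trans (sup_le le_sup_left ?_)
        refine (Submodule.smul_mono le_rfl ih).trans ?_
        rw [Submodule.smul_sup, ← Submodule.smul_assoc, smul_eq_mul, ← pow_succ']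
        exact sup_le (Submodule.smul_le_right.trans le_sup_left) le_sup_right
    obtain ⟨n, hn⟩ := hI
    have h3 := h2 n
    rw [hn] at h3
    exact ⟨⟨G.image f, top_le_iff.1 (h3.trans (sup_le le_rfl (by simp)))⟩⟩

/-- A flat deformation of an isotrivial group is isotrivial. -/
theorem isIsotrivial_of_nilpotent {R : Type u} [CommRing R] {A : Type u} [CommRing A] [HopfAlgebra R A]
    [Module.Flat R A] (I : Ideal R) (hI : IsNilpotent I) (h : IsIsotrivial (R ⧸ I) ((R ⧸ I) ⊗[R] A)) :
    IsIsotrivial R A := by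
  obtain ⟨R₀, _, _, _, _, _, hd⟩ := h
  letI : Algebra R R₀ := ((algebraMap (R ⧸ I) R₀).comp (algebraMap R (R ⧸ I))).toAlgebra
  haveI : IsScalarTower R (R ⧸ I) R₀ := IsScalarTower.of_algebraMap_eq' rfl
  obtain ⟨R', _, _, he, hff, hd', hfin⟩ :=
    exists_splitting_lift I hI A R₀ (isDiag_congr (cbc (R := R) (A := A) (R ⧸ I) R₀) hd)
  exact ⟨R', inferInstance, inferInstance, he, hfin inferInstance, hff, hd'⟩

/-- A flat deformation of a quasi-isotrivial group is quasi-isotrivial. -/
theorem isQuasiIsotrivial_of_nilpotent {R : Type u} [CommRing R] {A : Type u} [CommRing A]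
    [HopfAlgebra R A] [Module.Flat R A] (I : Ideal R) (hI : IsNilpotent I)
    (h : IsQuasiIsotrivial (R ⧸ I) ((R ⧸ I) ⊗[R] A)) : IsQuasiIsotrivial R A := by
  obtain ⟨s, hs, h⟩ := h
  refine ⟨Ideal.Quotient.mk I ⁻¹' s, ?_, fun f hf => ?_⟩
  · rw [Ideal.eq_top_iff_one]
    have h1 : (1 : R ⧸ I) ∈ Ideal.map (Ideal.Quotient.mk I) (Ideal.span (Ideal.Quotient.mk I ⁻¹' s)) := by
      rw [Ideal.map_span, Set.image_preimage_eq s Ideal.Quotient.mk_surjective, hs]; trivial
    obtain ⟨a, ha, ha1⟩ := (Ideal.mem_map_iff_of_surjective _ Ideal.Quotient.mk_surjective).1 h1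
    obtain ⟨n, hn⟩ := hI
    have hu : IsUnit a := by
      have : IsNilpotent (a - 1) := ⟨n, by
        have := Ideal.pow_mem_pow (Ideal.Quotient.eq.1 (ha1.trans (map_one _).symm)) n
        rwa [hn] at this⟩
      simpa using this.isUnit_add_one
    have htop := Ideal.eq_top_of_isUnit_mem _ ha hu
    rw [htop]; trivial
  · obtain ⟨R₀, _, _, _, _, hd⟩ := h (Ideal.Quotient.mk I f) hf
    let L := Localization.Away f
    let L₀ := Localization.Away (Ideal.Quotient.mk I f)
    let K : Ideal L := I.map (algebraMap R L)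
    let ψ : L →+* L₀ := IsLocalization.Away.lift f (g := (algebraMap (R ⧸ I) L₀).comp (Ideal.Quotient.mk I))
      (IsLocalization.Away.algebraMap_isUnit (Ideal.Quotient.mk I f))
    letI : Algebra L L₀ := ψ.toAlgebra
    haveI : IsScalarTower R L L₀ := IsScalarTower.of_algebraMap_eq fun r => by
      show _ = ψ (algebraMap R L r)
      rw [IsLocalization.Away.lift_eq]
      rfl
    have hψ : Function.Surjective ψ := by
      intro x
      obtain ⟨⟨r, ⟨_, k, rfl⟩⟩, hx⟩ := IsLocalization.surj (Submonoid.powers (Ideal.Quotient.mk I f)) x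
      obtain ⟨r, rfl⟩ := Ideal.Quotient.mk_surjective r
      refine ⟨IsLocalization.mk' L r ⟨f ^ k, pow_mem (Submonoid.mem_powers f) k⟩, ?_⟩
      refine ((IsLocalization.Away.algebraMap_isUnit (Ideal.Quotient.mk I f)).pow k).mul_left_injective ?_
      show ψ _ * _ = x * _
      have h1 : algebraMap (R ⧸ I) L₀ (Ideal.Quotient.mk I f) ^ k = ψ (algebraMap R L (f ^ k)) := by
        rw [IsLocalization.Away.lift_eq, map_pow, RingHom.comp_apply]
      rw [h1, ← map_mul, IsLocalization.mk'_spec, IsLocalization.Away.lift_eq, ← h1, ← map_pow]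
      exact hx.symm
    have hker : RingHom.ker ψ = K := by
      refine le_antisymm (fun x hx => ?_) (Ideal.map_le_iff_le_comap.2 fun a ha => ?_)
      · obtain ⟨⟨r, ⟨_, k, rfl⟩⟩, hrx⟩ := IsLocalization.surj (Submonoid.powers f) x
        have h1 : algebraMap (R ⧸ I) L₀ (Ideal.Quotient.mk I r) = 0 := by
          have := congr(ψ $hrx)
          rw [map_mul, show ψ x = 0 from hx, zero_mul, IsLocalization.Away.lift_eq] at this
          exact this.symm
        obtain ⟨⟨_, j, rfl⟩, hj⟩ := (IsLocalization.map_eq_zero_iff (Submonoid.powers (Ideal.Quotient.mk I f)) L₀ _).1 h1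
        have h2 : f ^ j * r ∈ I := Ideal.Quotient.eq_zero_iff_mem.1 (by rw [map_mul, map_pow]; exact hj)
        have hu : IsUnit (algebraMap R L (f ^ j * f ^ k)) := by
          rw [map_mul, map_pow, map_pow]
          exact ((IsLocalization.Away.algebraMap_isUnit f).pow j).mul ((IsLocalization.Away.algebraMap_isUnit f).pow k)
        refine (K.unit_mul_mem_iff_mem hu).1 ?_
        rw [map_mul, mul_assoc, mul_comm (algebraMap R L (f ^ k)) x, hrx, ← map_mul]
        exact Ideal.mem_map_of_mem _ h2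
      · show ψ (algebraMap R L a) = 0
        rw [IsLocalization.Away.lift_eq, RingHom.comp_apply, Ideal.Quotient.eq_zero_iff_mem.2 ha, map_zero]
    let eq : L ⧸ K ≃+* L₀ :=
      (Ideal.quotEquivOfEq hker.symm).trans (RingHom.quotientKerEquivOfSurjective hψ)
    letI : Algebra L R₀ := ((algebraMap L₀ R₀).comp ψ).toAlgebra
    haveI : IsScalarTower L L₀ R₀ := IsScalarTower.of_algebraMap_eq' rfl
    letI : Algebra (L ⧸ K) R₀ := ((algebraMap L₀ R₀).comp eq.toRingHom).toAlgebra
    haveI : IsScalarTower L (L ⧸ K) R₀ := ⟨fun a b z => by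
      obtain ⟨b, rfl⟩ := Ideal.Quotient.mk_surjective b
      change algebraMap L₀ R₀ (eq (Ideal.Quotient.mk K (a * b))) * z =
        algebraMap L₀ R₀ (ψ a) * (algebraMap L₀ R₀ (eq (Ideal.Quotient.mk K b)) * z)
      rw [← mul_assoc, ← map_mul, map_mul (Ideal.Quotient.mk K), map_mul eq]
      rfl⟩
    letI : Algebra (L ⧸ K) L₀ := eq.toRingHom.toAlgebra
    haveI : IsScalarTower (L ⧸ K) L₀ R₀ := IsScalarTower.of_algebraMap_eq' rfl
    haveI : Algebra.Etale (L ⧸ K) R₀ := by
      haveI : Algebra.Etale (L ⧸ K) L₀ :=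
        Algebra.Etale.of_equiv (AlgEquiv.ofRingEquiv (f := eq) (fun _ => rfl))
      exact Algebra.Etale.comp (L ⧸ K) L₀ R₀
    haveI : Module.FaithfullyFlat (L ⧸ K) R₀ := by
      haveI : Module.FaithfullyFlat (L ⧸ K) L₀ := Module.FaithfullyFlat.of_linearEquiv (L ⧸ K) (L ⧸ K)
        (AlgEquiv.ofRingEquiv (f := eq) (fun _ => rfl) : (L ⧸ K) ≃ₐ[L ⧸ K] L₀).toLinearEquiv.symm
      exact Module.FaithfullyFlat.trans (L ⧸ K) L₀ R₀
    letI : Algebra R R₀ := ((algebraMap L₀ R₀).comp (algebraMap R L₀)).toAlgebra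
    haveI : IsScalarTower R L₀ R₀ := IsScalarTower.of_algebraMap_eq' rfl
    haveI : IsScalarTower R L R₀ := IsScalarTower.of_algebraMap_eq fun r => by
      show algebraMap L₀ R₀ (algebraMap R L₀ r) = algebraMap L₀ R₀ (ψ (algebraMap R L r))
      rw [IsScalarTower.algebraMap_apply R L L₀]
      rfl
    letI : Algebra (R ⧸ I) R₀ := ((algebraMap L₀ R₀).comp (algebraMap (R ⧸ I) L₀)).toAlgebra
    haveI : IsScalarTower (R ⧸ I) L₀ R₀ := IsScalarTower.of_algebraMap_eq' rfl
    haveI : IsScalarTower R (R ⧸ I) R₀ := IsScalarTower.of_algebraMap_eq fun r => by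
      show algebraMap L₀ R₀ (algebraMap R L₀ r) = algebraMap L₀ R₀ (algebraMap (R ⧸ I) L₀ (algebraMap R (R ⧸ I) r))
      rw [IsScalarTower.algebraMap_apply R (R ⧸ I) L₀]
    have hd' : IsDiag R₀ (R₀ ⊗[L] (L ⊗[R] A)) := by
      refine isDiag_congr ?_ hd
      exact ((cbc (R := R ⧸ I) (A := (R ⧸ I) ⊗[R] A) L₀ R₀).trans (cbc (R := R) (A := A) (R ⧸ I) R₀)).trans
        (cbc (R := R) (A := A) L R₀).symm
    have hK : IsNilpotent K := by
      obtain ⟨n, hn⟩ := hI
      refine ⟨n, ?_⟩
      rw [← Ideal.map_pow, hn]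
      simp
    obtain ⟨R', _, _, he, hff, hd'', -⟩ := exists_splitting_lift K hK (L ⊗[R] A) R₀ hd'
    exact ⟨R', inferInstance, inferInstance, he, hff, hd''⟩

end Groth.Agent.MultType
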