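import Groth.Agent.MultType.BaseChange
import Groth.Agent.MultType.DeformQI

/-!
Lifting and uniqueness of homomorphisms between groups split on a common cover.
-/

universe u v

open TensorProduct SGA3b
open scoped TensorProduct

namespace Groth.Agent.MultType

/-- A finite family of `R'`-algebras detecting zero in `R'`-modules, over which a bialgebra over `R` splits. -/
structure Cover (R' : Type u) [CommRing R'] where
  ι : Type u
  [fin : Fintype ι]
  T : ι → Type u
  [ring : ∀ i, CommRing (T i)]
  [alg : ∀ i, Algebra R' (T i)]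
  detect : ∀ {N : Type u} [AddCommGroup N] [Module R' N] (x : N), (∀ i, (1 : T i) ⊗ₜ[R'] x = 0) → x = 0

attribute [instance] Cover.fin Cover.ring Cover.alg

/-- A cover from the charts of a group of multiplicative type. -/
lemma exists_cover {R : Type u} [CommRing R] {A : Type u} [CommRing A] [HopfAlgebra R A] (hA : IsMultType R A) :
    ∃ U : Cover R, ∀ i, IsDiag (U.T i) (U.T i ⊗[R] A) := by
  obtain ⟨s, hs, hc⟩ := exists_charts hA
  obtain ⟨t, hts, ht⟩ := Ideal.span_eq_top_iff_finite s |>.1 hs
  choose c hcf using fun f : t => hc f.1 (hts f.2)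
  exact ⟨{ ι := t
           T := fun f => (c f).R'
           detect := fun x hx => eq_zero_of_charts ht fun f hf => by
             obtain ⟨g, rfl⟩ : ∃ g : t, (c g).f = f := ⟨⟨f, hf⟩, hcf ⟨f, hf⟩⟩
             exact (c g).exists_pow_smul_eq_zero (hx g) },
    fun f => ⟨(c f).M, inferInstance, ⟨(c f).e⟩⟩⟩

/-- The product of two covers. -/
noncomputable def Cover.prod {R' : Type u} [CommRing R'] (U V : Cover R') : Cover R' where
  ι := U.ι × V.ι
  T p := U.T p.1 ⊗[R'] V.T p.2
  detect {N} _ _ x hx := by
    refine V.detect x fun j => U.detect _ fun i => ?_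
    apply (TensorProduct.assoc R' (U.T i) (V.T j) N).symm.injective
    rw [map_zero, TensorProduct.assoc_symm_tmul]
    exact hx (i, j)

/-- A diagonalisable algebra stays so on a finer coefficient ring. -/
lemma isDiag_of_algHom {R : Type u} [CommRing R] {A : Type u} [CommRing A] [HopfAlgebra R A]
    {S T : Type u} [CommRing S] [Algebra R S] [CommRing T] [Algebra R T] (f : S →ₐ[R] T)
    (h : IsDiag S (S ⊗[R] A)) : IsDiag T (T ⊗[R] A) := by
  letI : Algebra S T := f.toRingHom.toAlgebra
  haveI : IsScalarTower R S T := IsScalarTower.of_algebraMap_eq fun r => (f.commutes r).symm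
  exact isDiag_congr (cbc (R := R) (A := A) S T) (isDiag_tensor T h)

lemma isDiag_congr' {S : Type u} [CommRing S] {B B' : Type u} [CommRing B] [HopfAlgebra S B] [CommRing B']
    [HopfAlgebra S B'] (e : B ≃ₐc[S] B') (h : IsDiag S B) : IsDiag S B' := isDiag_congr e h

variable {R : Type u} [CommRing R] {B : Type u} [CommRing B] [HopfAlgebra R B]
  {C : Type u} [CommRing C] [HopfAlgebra R C]

lemma Compat.map {S T : Type u} [CommRing S] [Algebra R S] [CommRing T] [Algebra R T] (f : S →ₐ[R] T)
    {g : C →ₐ[R] S ⊗[R] B} (hg : Compat g) :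
    Compat ((Algebra.TensorProduct.map f (AlgHom.id R B)).comp g) := by
  have nat : ∀ (φ : B →ₐ[R] B ⊗[R] B) (x : S ⊗[R] B),
      Algebra.TensorProduct.map (AlgHom.id T T) φ (Algebra.TensorProduct.map f (AlgHom.id R B) x) =
      Algebra.TensorProduct.map f (AlgHom.id R (B ⊗[R] B)) (Algebra.TensorProduct.map (AlgHom.id S S) φ x) := by
    intro φ x
    induction x using TensorProduct.induction_on with
    | zero => simp
    | tmul s a => simp
    | add a b ha hb => simp only [map_add, ha, hb]
  intro c
  have h := congr(Algebra.TensorProduct.map f (AlgHom.id R (B ⊗[R] B)) $(hg c))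
  refine Eq.trans ?_ (h.trans (nat _ _).symm)
  rw [← (Coalgebra.Repr.arbitrary R c).eq]
  simp only [map_sum, Algebra.TensorProduct.lift_tmul, map_mul]
  exact Finset.sum_congr rfl fun i _ => congrArg₂ (· * ·) (nat _ _) (nat _ _)

/-- The bialgebra map of a point of the scheme of homomorphisms. -/
lemma Compat.exists_bialgHom {S : Type u} [CommRing S] [Algebra R S] {g : C →ₐ[R] S ⊗[R] B} (hg : Compat g) :
    ∃ G : S ⊗[R] C →ₐc[S] S ⊗[R] B, ∀ c, G ((1 : S) ⊗ₜ[R] c) = g c := by
  let φ : S ⊗[R] C →ₐ[S] S ⊗[R] B :=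
    Algebra.TensorProduct.lift (Algebra.ofId _ _) g fun _ _ => Commute.all _ _
  have hφ : ∀ c, φ ((1 : S) ⊗ₜ[R] c) = g c := fun c => by simp [φ, ← Algebra.TensorProduct.one_def]
  have hdef : DefectLE (⊥ : Ideal S) φ := by
    intro x
    suffices h : Algebra.TensorProduct.map φ φ (Coalgebra.comul (R := S) x) = Coalgebra.comul (R := S) (φ x) by
      rw [h, sub_self]; exact Submodule.zero_mem _
    induction x using TensorProduct.induction_on with
    | zero => simp
    | add p q hp hq => simp only [map_add, hp, hq]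
    | tmul s c =>
      rw [show s ⊗ₜ[R] c = s • ((1 : S) ⊗ₜ[R] c) by simp [TensorProduct.smul_tmul']]
      simp only [map_smul]
      congr 1
      apply (kap (R := R) (A := B) S).injective
      rw [kap_comul, hφ, ← hg c, TensorProduct.comul_tmul, CommSemiring.comul_apply,
        ← (Coalgebra.Repr.arbitrary R c).eq]
      simp only [TensorProduct.tmul_sum, map_sum, TensorProduct.AlgebraTensorModule.tensorTensorTensorComm_tmul,
        Algebra.TensorProduct.map_tmul, kap_tmul, Algebra.TensorProduct.lift_tmul, hφ]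
      rfl
  obtain ⟨G, hG⟩ := exists_bialgHom_of_defect hdef
  exact ⟨G, fun c => by rw [hG, hφ]⟩

/-- Two points congruent modulo a nil ideal agree, over a ring where both groups split. -/
lemma compat_eq_of_diag {T : Type u} [CommRing T] [Algebra R T] (hB : IsDiag T (T ⊗[R] B))
    (hC : IsDiag T (T ⊗[R] C)) {g g' : C →ₐ[R] T ⊗[R] B} (hg : Compat g) (hg' : Compat g')
    (K : Ideal T) (hK : K ≤ nilradical T)
    (h : ∀ c, g c - g' c ∈ Ideal.map (algebraMap T (T ⊗[R] B)) K) : g = g' := by
  obtain ⟨G, hG⟩ := hg.exists_bialgHom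
  obtain ⟨G', hG'⟩ := hg'.exists_bialgHom
  have hd : ∀ z, G z - G' z ∈ Ideal.map (algebraMap T (T ⊗[R] B)) K := by
    intro z
    induction z using TensorProduct.induction_on with
    | zero => simp
    | tmul s c =>
      rw [show s ⊗ₜ[R] c = s • ((1 : T) ⊗ₜ[R] c) by simp [TensorProduct.smul_tmul'], map_smul, map_smul,
        ← smul_sub, hG, hG']
      exact Submodule.smul_of_tower_mem _ s (h c)
    | add p q hp hq =>
      rw [map_add, map_add, add_sub_add_comm]
      exact Ideal.add_mem _ hp hq
  obtain ⟨N, _, ⟨e⟩⟩ := hC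
  have heq : ((G : T ⊗[R] C →ₐ[T] T ⊗[R] B).comp
      (e.symm : MonoidAlgebra T N →ₐc[T] T ⊗[R] C).toAlgHom) =
      ((G' : T ⊗[R] C →ₐ[T] T ⊗[R] B).comp (e.symm : MonoidAlgebra T N →ₐc[T] T ⊗[R] C).toAlgHom) := by
    refine MonoidAlgebra.algHom_ext' (MonoidHom.ext fun n => ?_) (by ext)
    have hgl := (MonoidAlgebra.isGroupLikeElem_single_one (R := T) (A := T) n).map
      (e.symm : MonoidAlgebra T N →ₐc[T] T ⊗[R] C)
    exact groupLike_eq_of_nil hB (hgl.map G) (hgl.map G') K hK (hd _)
  refine AlgHom.ext fun c => ?_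
  rw [← hG, ← hG']
  have := congr($heq (e ((1 : T) ⊗ₜ[R] c)))
  simpa using this

/-- Lifting of a point along a nilpotent thickening, over a ring where both groups split. -/
lemma exists_compat_lift_diag {T T₀ : Type u} [CommRing T] [Algebra R T] [CommRing T₀] [Algebra R T₀]
    (π : T →ₐ[R] T₀) (hπ : Function.Surjective π) (hn : IsNilpotent (RingHom.ker π))
    (hB : IsDiag T (T ⊗[R] B)) (hC : IsDiag T (T ⊗[R] C))
    (g : C →ₐ[R] T₀ ⊗[R] B) (hg : Compat g) :
    ∃ g' : C →ₐ[R] T ⊗[R] B, Compat g' ∧ (Algebra.TensorProduct.map π (AlgHom.id R B)).comp g' = g := by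
  classical
  letI : Algebra T T₀ := π.toRingHom.toAlgebra
  haveI : IsScalarTower R T T₀ := IsScalarTower.of_algebraMap_eq fun r => (π.commutes r).symm
  obtain ⟨G, hG⟩ := hg.exists_bialgHom
  obtain ⟨M, _, ⟨eB⟩⟩ := hB
  obtain ⟨N, _, ⟨eC⟩⟩ := hC
  let q := Algebra.TensorProduct.map π (AlgHom.id R B)
  let qC := Algebra.TensorProduct.map π (AlgHom.id R C)
  let xC : N → T ⊗[R] C := fun n => eC.symm (MonoidAlgebra.single n 1)
  let γM : M → T ⊗[R] B := fun m => eB.symm (MonoidAlgebra.single m 1)
  have hlift : ∀ n, ∃ y : T ⊗[R] B, IsGroupLikeElem T y ∧ q y = G (qC (xC n)) := by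
    intro n
    have hgl : IsGroupLikeElem T₀ (G (qC (xC n))) := (isGroupLikeElem_map π
      ((MonoidAlgebra.isGroupLikeElem_single_one n).map (eC.symm : MonoidAlgebra T N →ₐc[T] T ⊗[R] C))).map G
    obtain ⟨u, hu⟩ : ∃ u : T ⊗[R] B, q u = G (qC (xC n)) := by
      induction G (qC (xC n)) using TensorProduct.induction_on with
      | zero => exact ⟨0, map_zero _⟩
      | tmul s a => obtain ⟨s, rfl⟩ := hπ s; exact ⟨s ⊗ₜ a, by simp [q]⟩
      | add p r hp hr =>
        obtain ⟨p, rfl⟩ := hp
        obtain ⟨r, rfl⟩ := hr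
        exact ⟨p + r, map_add _ _ _⟩
    -- the coefficients of the image are orthogonal idempotents
    have hγ₀ : ∀ m, IsGroupLikeElem T₀ (q (γM m)) := fun m => isGroupLikeElem_map π
      ((MonoidAlgebra.isGroupLikeElem_single_one m).map (eB.symm : MonoidAlgebra T M →ₐc[T] T ⊗[R] B))
    let e' : T ⊗[R] B ≃ₐ[T] MonoidAlgebra T M := (eB : (T ⊗[R] B) ≃ₐ[T] MonoidAlgebra T M)
    let b₀ : Module.Basis M T₀ (T₀ ⊗[R] B) :=
      (Algebra.TensorProduct.basis T₀ ((MonoidAlgebra.basis M T).map e'.toLinearEquiv.symm)).map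
        (Algebra.TensorProduct.cancelBaseChange R T T₀ T₀ B).toLinearEquiv
    have hb₀ : ∀ m, b₀ m = q (γM m) := fun m => by
      simp only [b₀, Module.Basis.map_apply, Algebra.TensorProduct.basis_apply, MonoidAlgebra.basis_apply]
      show Algebra.TensorProduct.cancelBaseChange R T T₀ T₀ B ((1 : T₀) ⊗ₜ[T] γM m) = q (γM m)
      induction γM m using TensorProduct.induction_on with
      | zero => simp
      | tmul s a =>
        rw [Algebra.TensorProduct.cancelBaseChange_tmul]
        simp [q, Algebra.smul_def]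
        rfl
      | add p r hp hr => rw [TensorProduct.tmul_add, map_add, map_add, hp, hr]
    let a : M → T₀ := fun m => b₀.repr (G (qC (xC n))) m
    have horth : ∀ i j, a i * a j = if i = j then a i else 0 := by
      intro i j
      let F : (T₀ ⊗[R] B) ⊗[T₀] (T₀ ⊗[R] B) →ₗ[T₀] T₀ :=
        LinearMap.mul' T₀ T₀ ∘ₗ TensorProduct.map (b₀.coord i) (b₀.coord j)
      have hF : F ∘ₗ Coalgebra.comul = (if i = j then (1 : T₀) else 0) • b₀.coord i := b₀.ext fun k => by
        have hc : Coalgebra.comul (b₀ k) = b₀ k ⊗ₜ[T₀] b₀ k := by rw [hb₀]; exact (hγ₀ k).comul_eq_tmul_self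
        simp only [F, LinearMap.comp_apply, hc, TensorProduct.map_tmul, LinearMap.mul'_apply,
          LinearMap.smul_apply, smul_eq_mul, Module.Basis.coord_apply, Module.Basis.repr_self,
          Finsupp.single_apply]
        split_ifs <;> simp_all
      have h := congr($hF (G (qC (xC n))))
      rw [LinearMap.comp_apply, hgl.comul_eq_tmul_self] at h
      simp [F] at h
      rw [h]
      split_ifs <;> simp [a]
    set S := (b₀.repr (G (qC (xC n)))).support with hS
    have hsum : ∑ m : S, a m = 1 := by
      have h1 : Coalgebra.counit (R := T₀) (G (qC (xC n))) = 1 := hgl.counit_eq_one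
      conv_lhs at h1 => rw [← b₀.linearCombination_repr (G (qC (xC n)))]
      rw [Finsupp.linearCombination_apply, Finsupp.sum, map_sum, ← Finset.sum_coe_sort] at h1
      simpa [hb₀, (hγ₀ _).counit_eq_one, a] using h1
    have hco : CompleteOrthogonalIdempotents fun m : S => a m :=
      { idem := fun m => by show a m * a m = a m; rw [horth, if_pos rfl]
        ortho := fun m m' hne => by
          show a m * a m' = 0
          rw [horth, if_neg fun he => hne (Subtype.ext he)]
        complete := hsum }
    obtain ⟨ε, hε, hεa⟩ := hco.lift_of_isNilpotent_ker π.toRingHom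
      (fun x hx => by obtain ⟨k, hk⟩ := hn; exact ⟨k, by
        have h := Ideal.pow_mem_pow (show x ∈ RingHom.ker π from hx) k
        rwa [hk] at h⟩) (fun m => hπ _)
    refine ⟨∑ m : S, ε m • γM m, ?_, ?_⟩
    · have hγ : ∀ m, IsGroupLikeElem T (γM m) := fun m =>
        (MonoidAlgebra.isGroupLikeElem_single_one m).map (eB.symm : MonoidAlgebra T M →ₐc[T] T ⊗[R] B)
      constructor
      · simp [map_sum, (hγ _).counit_eq_one]
        simpa using hε.complete
      · simp only [map_sum, map_smul, (hγ _).comul_eq_tmul_self, TensorProduct.sum_tmul]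
        refine Finset.sum_congr rfl fun m _ => ?_
        rw [TensorProduct.tmul_sum, Finset.sum_eq_single m (fun b _ hb => by
          rw [TensorProduct.smul_tmul_smul, hε.ortho (Ne.symm hb), zero_smul])
          (fun h => absurd (Finset.mem_univ m) h), TensorProduct.smul_tmul_smul, (hε.idem m).eq]
    · have hqs : ∀ (t : T) (z : T ⊗[R] B), q (t • z) = π t • q z := by
        intro t z
        induction z using TensorProduct.induction_on with
        | zero => simp
        | tmul s a => simp [q, TensorProduct.smul_tmul']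
        | add p r hp hr => simp only [smul_add, map_add, hp, hr]
      rw [map_sum]
      simp only [hqs]
      conv_rhs => rw [← b₀.linearCombination_repr (G (qC (xC n))), Finsupp.linearCombination_apply, Finsupp.sum,
        ← Finset.sum_coe_sort]
      refine Finset.sum_congr rfl fun m _ => ?_
      rw [hb₀]
      congr 1
      exact congrFun hεa m
  choose y hy hyq using hlift
  have hBd : IsDiag T (T ⊗[R] B) := ⟨M, inferInstance, ⟨eB⟩⟩
  have hker : ∀ z, q z = 0 → z ∈ Ideal.map (algebraMap T (T ⊗[R] B)) (RingHom.ker π) := fun z hz =>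
    mem_map_ker π hπ z hz
  have hle : RingHom.ker π ≤ nilradical T := fun x hx => by
    obtain ⟨k, hk⟩ := hn
    refine mem_nilradical.2 ⟨k, ?_⟩
    have h := Ideal.pow_mem_pow hx k
    rwa [hk] at h
  let θ : N →* T ⊗[R] B :=
    { toFun := y
      map_one' := groupLike_eq_of_nil hBd (hy 1) IsGroupLikeElem.one _ hle (hker _ (by
        rw [map_sub, hyq, map_one, sub_eq_zero]
        show G (qC (eC.symm (MonoidAlgebra.single 1 1))) = 1
        rw [← MonoidAlgebra.one_def, map_one, map_one, map_one]))
      map_mul' := fun a b => groupLike_eq_of_nil hBd (hy (a * b)) ((hy a).mul (hy b)) _ hle (hker _ (by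
        rw [map_sub, map_mul, hyq, hyq, hyq, sub_eq_zero, ← map_mul, ← map_mul]
        simp only [xC]
        rw [← map_mul, MonoidAlgebra.single_mul_single, _root_.mul_one])) }
  let Φ' : MonoidAlgebra T N →ₐc[T] T ⊗[R] B :=
    BialgHom.ofAlgHom (MonoidAlgebra.lift T (T ⊗[R] B) N θ)
      (by ext n; simp [θ, (hy n).counit_eq_one])
      (by ext n; simp [θ, (hy n).comul_eq_tmul_self])
  let Φ : T ⊗[R] C →ₐc[T] T ⊗[R] B := Φ'.comp (eC : T ⊗[R] C →ₐc[T] MonoidAlgebra T N)
  let g' : C →ₐ[R] T ⊗[R] B :=
    ((Φ : T ⊗[R] C →ₐ[T] T ⊗[R] B).restrictScalars R).comp Algebra.TensorProduct.includeRight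
  refine ⟨g', ?_, ?_⟩
  · intro c
    have h := CoalgHomClass.map_comp_comul_apply Φ ((1 : T) ⊗ₜ[R] c)
    have h' := congr(kap (R := R) (A := B) T $h)
    rw [kap_comul, TensorProduct.comul_tmul, CommSemiring.comul_apply, ← (Coalgebra.Repr.arbitrary R c).eq] at h'
    simp only [TensorProduct.tmul_sum, map_sum, TensorProduct.AlgebraTensorModule.tensorTensorTensorComm_tmul,
      TensorProduct.map_tmul] at h'
    refine Eq.trans ?_ h'
    rw [← (Coalgebra.Repr.arbitrary R c).eq, map_sum]
    exact Finset.sum_congr rfl fun i _ => by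
      rw [Algebra.TensorProduct.lift_tmul]
      exact (kap_tmul _ _ _).symm
  · have hall : ∀ z : MonoidAlgebra T N, q (Φ' z) = G (qC (eC.symm z)) := by
      intro z
      induction z using MonoidAlgebra.induction_linear with
      | zero => simp
      | add p r hp hr => simp only [map_add, hp, hr]
      | single n t =>
        rw [show (MonoidAlgebra.single n t : MonoidAlgebra T N) =
          algebraMap T _ t * MonoidAlgebra.single n 1 by simp]
        simp only [map_mul]
        congr 1
        · rw [AlgHomClass.commutes Φ', show eC.symm (algebraMap T (MonoidAlgebra T N) t) = algebraMap T _ t from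
            AlgHomClass.commutes eC.symm t]
          have hqC : qC (algebraMap T (T ⊗[R] C) t) = algebraMap T₀ (T₀ ⊗[R] C) (π t) := by simp [qC]
          rw [hqC, AlgHomClass.commutes G]
          simp [q]
        · show q (Φ' (MonoidAlgebra.single n 1)) = G (qC (xC n))
          rw [← hyq n]
          congr 1
          simp [Φ', θ]
    refine AlgHom.ext fun c => ?_
    show q (Φ' (eC ((1 : T) ⊗ₜ[R] c))) = g c
    rw [hall]
    have h2 : eC.symm (eC ((1 : T) ⊗ₜ[R] c)) = (1 : T) ⊗ₜ[R] c := eC.symm_apply_apply _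
    rw [h2]
    simp [qC, hG]

set_option synthInstance.maxHeartbeats 100000 in
set_option maxHeartbeats 1000000 in
theorem exists_compat_lift_cover {S S₀ : Type u} [CommRing S] [Algebra R S] [CommRing S₀] [Algebra R S₀]
    (π : S →ₐ[R] S₀) (hπ : Function.Surjective π) (hn : IsNilpotent (RingHom.ker π))
    (U : Cover S) [∀ i, Algebra R (U.T i)] [∀ i, IsScalarTower R S (U.T i)]
    (hB : ∀ i, IsDiag (U.T i) (U.T i ⊗[R] B)) (hC : ∀ i, IsDiag (U.T i) (U.T i ⊗[R] C))
    (g : C →ₐ[R] S₀ ⊗[R] B) (hg : Compat g) :
    ∃ g' : C →ₐ[R] S ⊗[R] B, Compat g' ∧ (Algebra.TensorProduct.map π (AlgHom.id R B)).comp g' = g := by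
  classical
  set J := RingHom.ker π with hJ
  let K : ∀ i, Ideal (U.T i) := fun i => J.map (algebraMap S (U.T i))
  let p : ∀ i, U.T i →ₐ[R] U.T i ⧸ K i := fun i => Ideal.Quotient.mkₐ R (K i)
  have hex : ∀ i, ∃ σ : S₀ →ₐ[R] U.T i ⧸ K i, ∀ s, σ (π s) = p i (algebraMap S (U.T i) s) := by
    intro i
    let f : S →ₐ[R] U.T i ⧸ K i := (p i).comp (IsScalarTower.toAlgHom R S (U.T i))
    have hf : J ≤ RingHom.ker f := fun x hx =>
      Ideal.Quotient.eq_zero_iff_mem.2 (Ideal.mem_map_of_mem _ hx)
    let eπ := Ideal.quotientKerAlgEquivOfSurjective hπ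
    refine ⟨(Ideal.Quotient.liftₐ _ f hf).comp eπ.symm.toAlgHom, fun s => ?_⟩
    show Ideal.Quotient.liftₐ _ f hf (eπ.symm (π s)) = f s
    rw [show eπ.symm (π s) = Ideal.Quotient.mk _ s from eπ.symm_apply_eq.2 rfl]
    rfl
  choose σ hσ using hex
  have hKn : ∀ i, IsNilpotent (RingHom.ker (p i)) := fun i => by
    obtain ⟨k, hk⟩ := hn
    refine ⟨k, ?_⟩
    rw [show RingHom.ker (p i) = K i from Ideal.Quotient.mkₐ_ker R _, ← Ideal.map_pow, hk]
    simp
  have hlift : ∀ i, ∃ g' : C →ₐ[R] U.T i ⊗[R] B, Compat g' ∧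
      (Algebra.TensorProduct.map (p i) (AlgHom.id R B)).comp g' =
        (Algebra.TensorProduct.map (σ i) (AlgHom.id R B)).comp g := fun i =>
    exists_compat_lift_diag (p i) Ideal.Quotient.mk_surjective (hKn i) (hB i) (hC i) _ (hg.map (σ i))
  choose gi hgi hgip using hlift
  let W := ∀ i, U.T i
  let prj : ∀ i, W →ₐ[R] U.T i := fun i => Pi.evalAlgHom R U.T i
  let sgl : ∀ i, U.T i →ₗ[S] W := fun i => LinearMap.single S U.T i
  have hsum : ∀ w : W, ∑ i, sgl i (w i) = w := fun w => by
    exact Finset.univ_sum_single w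
  have hprj : ∀ k (w : W), prj k w = w k := fun k w => rfl
  have hsgl : ∀ i t, (sgl i t : W) = Pi.single i t := fun i t => rfl
  -- the compatibility on overlaps
  have hov : ∀ i j c,
      Algebra.TensorProduct.map ((Algebra.TensorProduct.includeLeft : U.T i →ₐ[S] U.T i ⊗[S] U.T j).restrictScalars R)
        (AlgHom.id R B) (gi i c) =
      Algebra.TensorProduct.map ((Algebra.TensorProduct.includeRight : U.T j →ₐ[S] U.T i ⊗[S] U.T j).restrictScalars R)
        (AlgHom.id R B) (gi j c) := by
    intro i j
    set T2 := U.T i ⊗[S] U.T j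
    let l1 : U.T i →ₐ[R] T2 := (Algebra.TensorProduct.includeLeft : U.T i →ₐ[S] T2).restrictScalars R
    let l2 : U.T j →ₐ[R] T2 := (Algebra.TensorProduct.includeRight : U.T j →ₐ[S] T2).restrictScalars R
    let K2 : Ideal T2 := J.map (algebraMap S T2)
    let p2 : T2 →ₐ[R] T2 ⧸ K2 := Ideal.Quotient.mkₐ R K2
    have hq : ∀ (i' : U.ι) (l : U.T i' →ₐ[R] T2), (∀ s, l (algebraMap S (U.T i') s) = algebraMap S T2 s) →
        ∀ c, Algebra.TensorProduct.map p2 (AlgHom.id R B) (Algebra.TensorProduct.map l (AlgHom.id R B) (gi i' c)) =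
          Algebra.TensorProduct.map ((Ideal.Quotient.liftₐ _ (p2.comp (IsScalarTower.toAlgHom R S T2))
            (fun x hx => Ideal.Quotient.eq_zero_iff_mem.2 (Ideal.mem_map_of_mem _ hx)) : (S ⧸ J) →ₐ[R] _).comp
              (Ideal.quotientKerAlgEquivOfSurjective hπ).symm.toAlgHom) (AlgHom.id R B) (g c) := by
      intro i' l hl c
      have hK' : ∀ x ∈ K i', (p2.comp l) x = 0 := by
        intro x hx
        refine Ideal.Quotient.eq_zero_iff_mem.2 ?_
        have : Ideal.map l (K i') ≤ K2 := by
          refine Ideal.map_le_iff_le_comap.2 (Ideal.map_le_iff_le_comap.2 fun r hr => ?_)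
          show l (algebraMap S _ r) ∈ K2
          rw [hl]
          exact Ideal.mem_map_of_mem _ hr
        exact this (Ideal.mem_map_of_mem _ hx)
      let lb : (U.T i' ⧸ K i') →ₐ[R] T2 ⧸ K2 := Ideal.Quotient.liftₐ _ (p2.comp l) hK'
      have h1 := congr(Algebra.TensorProduct.map lb (AlgHom.id R B) ($(hgip i') c))
      have comp2 : ∀ {X Y Z : Type u} [CommRing X] [Algebra R X] [CommRing Y] [Algebra R Y] [CommRing Z]
          [Algebra R Z] (f₁ : X →ₐ[R] Y) (f₂ : Y →ₐ[R] Z) (z : X ⊗[R] B),
          Algebra.TensorProduct.map f₂ (AlgHom.id R B) (Algebra.TensorProduct.map f₁ (AlgHom.id R B) z) =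
            Algebra.TensorProduct.map (f₂.comp f₁) (AlgHom.id R B) z := by
        intro X Y Z _ _ _ _ _ _ f₁ f₂ z
        induction z using TensorProduct.induction_on with
        | zero => simp
        | tmul a b => simp
        | add a b ha hb => simp only [map_add, ha, hb]
      simp only [AlgHom.comp_apply, comp2] at h1
      rw [comp2]
      rw [show lb.comp (p i') = p2.comp l from AlgHom.ext fun x => rfl] at h1
      rw [h1]
      congr 2
      refine AlgHom.ext fun x => ?_
      obtain ⟨s, rfl⟩ := hπ x
      show lb (σ i' (π s)) = _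
      rw [hσ]
      show p2 (l (algebraMap S _ s)) = _
      rw [hl]
      rw [AlgHom.comp_apply]
      refine Eq.trans ?_ (congrArg _ ((Ideal.quotientKerAlgEquivOfSurjective hπ).symm_apply_eq.2
        (show π s = Ideal.quotientKerAlgEquivOfSurjective hπ (Ideal.Quotient.mk _ s) from rfl))).symm
      rfl
    have hl1 : ∀ s, l1 (algebraMap S (U.T i) s) = algebraMap S T2 s := fun s =>
      (Algebra.TensorProduct.includeLeft : U.T i →ₐ[S] T2).commutes s
    have hl2 : ∀ s, l2 (algebraMap S (U.T j) s) = algebraMap S T2 s := fun s =>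
      (Algebra.TensorProduct.includeRight : U.T j →ₐ[S] T2).commutes s
    have hnil : K2 ≤ nilradical T2 := by
      refine Ideal.map_le_iff_le_comap.2 fun x hx => ?_
      obtain ⟨k, hk⟩ := hn
      refine mem_nilradical.2 ⟨k, ?_⟩
      have h := Ideal.pow_mem_pow hx k
      rw [hk] at h
      rw [← map_pow, show x ^ k = 0 from h, map_zero]
    have h := compat_eq_of_diag (isDiag_of_algHom l1 (hB i)) (isDiag_of_algHom l1 (hC i))
      ((hgi i).map l1) ((hgi j).map l2) K2 hnil fun c => by
        have hm := mem_map_ker p2 Ideal.Quotient.mk_surjective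
          (Algebra.TensorProduct.map l1 (AlgHom.id R B) (gi i c) -
            Algebra.TensorProduct.map l2 (AlgHom.id R B) (gi j c))
          (by rw [map_sub, hq i l1 hl1, hq j l2 hl2, sub_self])
        rw [show RingHom.ker p2 = K2 from Ideal.Quotient.mkₐ_ker R _] at hm
        exact hm
    exact fun c => congr($h c)
  -- descend
  let z : C → W ⊗[R] B := fun c => ∑ i, ((sgl i).restrictScalars R).rTensor B (gi i c)
  let N0 : Submodule S (W ⊗[R] B) := LinearMap.range
    (TensorProduct.AlgebraTensorModule.map (Algebra.linearMap S W) (LinearMap.id : B →ₗ[R] B))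
  have hzmem : ∀ c, z c ∈ N0 := by
    intro c
    rw [← Submodule.Quotient.mk_eq_zero]
    refine U.detect _ fun k => ?_
    have h2 : ∀ i, (1 : U.T k) ⊗ₜ[S] Submodule.Quotient.mk (p := N0) (((sgl i).restrictScalars R).rTensor B (gi i c)) =
        ((TensorProduct.AlgebraTensorModule.map (LinearMap.id : U.T k →ₗ[S] U.T k)
          (N0.mkQ)) ∘ₗ (TensorProduct.AlgebraTensorModule.assoc R S S (U.T k) W B).toLinearMap ∘ₗ
          TensorProduct.AlgebraTensorModule.map (TensorProduct.AlgebraTensorModule.map LinearMap.id (sgl i))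
            (LinearMap.id : B →ₗ[R] B))
          (Algebra.TensorProduct.map ((Algebra.TensorProduct.includeRight : U.T i →ₐ[S] U.T k ⊗[S] U.T i).restrictScalars R)
            (AlgHom.id R B) (gi i c)) := by
      intro i
      induction gi i c using TensorProduct.induction_on with
      | zero => simp
      | tmul t b => simp
      | add a b ha hb => simp only [map_add, Submodule.Quotient.mk_add, TensorProduct.tmul_add, ha, hb]
    rw [show Submodule.Quotient.mk (p := N0) (z c) = N0.mkQ (z c) from rfl, map_sum, TensorProduct.tmul_sum]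
    simp only [Submodule.mkQ_apply, h2, ← hov k _ c]
    induction gi k c using TensorProduct.induction_on with
    | zero => simp
    | add a b ha hb => simp only [map_add, Finset.sum_add_distrib, ha, hb, add_zero]
    | tmul t b =>
      simp only [LinearMap.comp_apply, Algebra.TensorProduct.map_tmul, AlgHom.id_apply,
        AlgHom.restrictScalars_apply, Algebra.TensorProduct.includeLeft_apply,
        TensorProduct.AlgebraTensorModule.map_tmul, LinearMap.id_apply, LinearEquiv.coe_coe,
        TensorProduct.AlgebraTensorModule.assoc_tmul, Submodule.mkQ_apply]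
      rw [← TensorProduct.tmul_sum]
      have : ∑ i, Submodule.Quotient.mk (p := N0) ((sgl i (1 : U.T i)) ⊗ₜ[R] b) = 0 := by
        simp only [← Submodule.mkQ_apply, ← map_sum, ← TensorProduct.sum_tmul]
        rw [show ∑ i, sgl i (1 : U.T i) = (1 : W) from hsum 1, Submodule.mkQ_apply, Submodule.Quotient.mk_eq_zero]
        exact ⟨(1 : S) ⊗ₜ[R] b, by simp⟩
      rw [this, TensorProduct.tmul_zero]
  have hev : ∀ k c, Algebra.TensorProduct.map (prj k) (AlgHom.id R B) (z c) = gi k c := by
    intro k c
    rw [map_sum, Finset.sum_eq_single k (fun i _ hik => ?_) (fun h => absurd (Finset.mem_univ k) h)]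
    · induction gi k c using TensorProduct.induction_on with
      | zero => simp
      | tmul t b => simp [hprj, hsgl]
      | add a b ha hb => simp only [map_add, ha, hb]
    · induction gi i c using TensorProduct.induction_on with
      | zero => simp
      | tmul t b => simp [hprj, hsgl, Pi.single_eq_of_ne (Ne.symm hik)]
      | add a b ha hb => simp only [map_add, ha, hb, add_zero]
  choose f hf using hzmem
  let ev : ∀ k, S ⊗[R] B →ₐ[R] U.T k ⊗[R] B := fun k =>
    Algebra.TensorProduct.map (IsScalarTower.toAlgHom R S (U.T k)) (AlgHom.id R B)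
  have hevf : ∀ k c, ev k (f c) = gi k c := by
    intro k c
    rw [← hev k c, ← hf c]
    induction f c using TensorProduct.induction_on with
    | zero => simp
    | tmul s b => simp [ev, hprj]; rfl
    | add a b ha hb => simp only [map_add, ha, hb]
  have hinj : ∀ {N : Type u} [CommRing N] [Algebra R N] (x y : S ⊗[R] N),
      (∀ k, Algebra.TensorProduct.map (IsScalarTower.toAlgHom R S (U.T k)) (AlgHom.id R N) x =
        Algebra.TensorProduct.map (IsScalarTower.toAlgHom R S (U.T k)) (AlgHom.id R N) y) → x = y := by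
    intro N _ _ x y hxy
    rw [← sub_eq_zero]
    refine U.detect _ fun k => ?_
    apply (TensorProduct.AlgebraTensorModule.cancelBaseChange R S S (U.T k) N).injective
    have : ∀ w : S ⊗[R] N, TensorProduct.AlgebraTensorModule.cancelBaseChange R S S (U.T k) N ((1 : U.T k) ⊗ₜ[S] w) =
        Algebra.TensorProduct.map (IsScalarTower.toAlgHom R S (U.T k)) (AlgHom.id R N) w := by
      intro w
      induction w using TensorProduct.induction_on with
      | zero => simp
      | tmul s b => simp [Algebra.smul_def]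
      | add a b ha hb => simp only [TensorProduct.tmul_add, map_add, ha, hb]
    rw [map_zero, this, map_sub, hxy, sub_self]
  let g' : C →ₐ[R] S ⊗[R] B :=
    { toFun := f
      map_one' := hinj _ _ fun k => by
        show ev k _ = ev k _
        rw [hevf, map_one, map_one]
      map_mul' := fun a b => hinj _ _ fun k => by
        show ev k _ = ev k _
        rw [map_mul, hevf, hevf, hevf, map_mul]
      map_zero' := hinj _ _ fun k => by
        show ev k _ = ev k _
        rw [hevf, map_zero, map_zero]
      map_add' := fun a b => hinj _ _ fun k => by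
        show ev k _ = ev k _
        rw [map_add, hevf, hevf, hevf, map_add]
      commutes' := fun r => hinj _ _ fun k => by
        show ev k _ = ev k _
        rw [hevf, AlgHom.commutes, AlgHom.commutes] }
  refine ⟨g', fun c => hinj _ _ fun k => ?_, AlgHom.ext fun c => ?_⟩
  · have h := hgi k c
    have hgk : gi k = (ev k).comp g' := AlgHom.ext fun x => (hevf k x).symm
    rw [hgk] at h
    have nat : ∀ (φ : B →ₐ[R] B ⊗[R] B) (x : S ⊗[R] B),
        Algebra.TensorProduct.map (IsScalarTower.toAlgHom R S (U.T k)) (AlgHom.id R (B ⊗[R] B))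
          (Algebra.TensorProduct.map (AlgHom.id S S) φ x) =
        Algebra.TensorProduct.map (AlgHom.id (U.T k) (U.T k)) φ (ev k x) := by
      intro φ x
      induction x using TensorProduct.induction_on with
      | zero => simp
      | tmul s a => simp [ev]
      | add a b ha hb => simp only [map_add, ha, hb]
    refine Eq.trans ?_ (h.trans (nat _ _).symm)
    rw [← (Coalgebra.Repr.arbitrary R c).eq]
    simp only [map_sum, Algebra.TensorProduct.lift_tmul, map_mul]
    exact Finset.sum_congr rfl fun i _ => congrArg₂ (· * ·) (nat _ _) (nat _ _)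
  · obtain ⟨y, hy⟩ : ∃ y : S ⊗[R] B, Algebra.TensorProduct.map π (AlgHom.id R B) y = g c := by
      induction g c using TensorProduct.induction_on with
      | zero => exact ⟨0, map_zero _⟩
      | tmul s a => obtain ⟨s, rfl⟩ := hπ s; exact ⟨s ⊗ₜ a, by simp⟩
      | add p r hp hr =>
        obtain ⟨p, rfl⟩ := hp
        obtain ⟨r, rfl⟩ := hr
        exact ⟨p + r, map_add _ _ _⟩
    show Algebra.TensorProduct.map π (AlgHom.id R B) (f c) = g c
    rw [← hy, ← sub_eq_zero, ← map_sub]
    set d := f c - y with hd
    let J1 : Submodule S (S ⊗[R] B) := J • ⊤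
    have hd0 : Submodule.Quotient.mk (p := J1) d = 0 := by
      refine U.detect _ fun k => ?_
      have h1 : Algebra.TensorProduct.map (p k) (AlgHom.id R B) (ev k d) = 0 := by
        rw [hd, map_sub, map_sub, hevf, sub_eq_zero]
        refine (congr($(hgip k) c)).trans ?_
        show Algebra.TensorProduct.map (σ k) (AlgHom.id R B) (g c) = _
        rw [← hy]
        clear hy hd
        induction y using TensorProduct.induction_on with
        | zero => simp
        | tmul s a => simp [ev, hσ]
        | add a b ha hb => simp only [map_add, ha, hb]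
      have hm := mem_map_ker (p k) Ideal.Quotient.mk_surjective _ h1
      rw [show RingHom.ker (p k) = K k from Ideal.Quotient.mkₐ_ker R _] at hm
      have hm' : ev k d ∈ K k • (⊤ : Submodule (U.T k) (U.T k ⊗[R] B)) := by
        rw [Ideal.smul_top_eq_map]; exact hm
      let L : U.T k ⊗[R] B →ₗ[U.T k] U.T k ⊗[S] ((S ⊗[R] B) ⧸ J1) :=
        (TensorProduct.AlgebraTensorModule.map (LinearMap.id : U.T k →ₗ[U.T k] U.T k) J1.mkQ) ∘ₗ
          (TensorProduct.AlgebraTensorModule.cancelBaseChange R S (U.T k) (U.T k) B).symm.toLinearMap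
      have hLev : ∀ w, L (ev k w) = (1 : U.T k) ⊗ₜ[S] Submodule.Quotient.mk w := by
        intro w
        induction w using TensorProduct.induction_on with
        | zero => simp
        | tmul s b =>
          simp only [L, ev, LinearMap.comp_apply, Algebra.TensorProduct.map_tmul, AlgHom.id_apply,
            LinearEquiv.coe_coe, TensorProduct.AlgebraTensorModule.cancelBaseChange_symm_tmul,
            TensorProduct.AlgebraTensorModule.map_tmul, LinearMap.id_apply, Submodule.mkQ_apply,
            IsScalarTower.coe_toAlgHom']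
          rw [Algebra.algebraMap_eq_smul_one, TensorProduct.smul_tmul, ← Submodule.Quotient.mk_smul,
            TensorProduct.smul_tmul', smul_eq_mul, _root_.mul_one]
        | add a b ha hb => simp only [map_add, ha, hb, Submodule.Quotient.mk_add, TensorProduct.tmul_add]
      rw [← hLev]
      refine Submodule.smul_induction_on hm' (fun r hr w _ => ?_) (fun a b ha hb => by rw [map_add, ha, hb, add_zero])
      rw [map_smul]
      induction L w using TensorProduct.induction_on with
      | zero => simp
      | add a b ha hb => rw [smul_add, ha, hb, add_zero]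
      | tmul t q =>
        obtain ⟨q, rfl⟩ := Submodule.Quotient.mk_surjective J1 q
        refine Submodule.span_induction (p := fun r _ => r • (t ⊗ₜ[S] Submodule.Quotient.mk (p := J1) q) = 0)
          ?_ (zero_smul _ _) (fun a b _ _ ha hb => by rw [add_smul, ha, hb, add_zero])
          (fun a b _ hb => by rw [smul_eq_mul, mul_smul, hb, smul_zero]) hr
        rintro _ ⟨j, hj, rfl⟩
        rw [algebraMap_smul, ← TensorProduct.tmul_smul, ← Submodule.Quotient.mk_smul,
          (Submodule.Quotient.mk_eq_zero J1).2 (Submodule.smul_mem_smul hj Submodule.mem_top),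
          TensorProduct.tmul_zero]
    have hmem := (Submodule.Quotient.mk_eq_zero J1).1 hd0
    refine Submodule.smul_induction_on hmem (fun j hj w _ => ?_) (fun a b ha hb => by rw [map_add, ha, hb, add_zero])
    rw [Algebra.smul_def, map_mul]
    simp [show π j = 0 from hj]

/-- Uniqueness of lifts over a cover. -/
theorem compat_eq_of_cover {S : Type u} [CommRing S] [Algebra R S]
    (U : Cover S) [∀ i, Algebra R (U.T i)] [∀ i, IsScalarTower R S (U.T i)]
    (hB : ∀ i, IsDiag (U.T i) (U.T i ⊗[R] B)) (hC : ∀ i, IsDiag (U.T i) (U.T i ⊗[R] C))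
    (K : Ideal S) (hK : K ≤ nilradical S) {g g' : C →ₐ[R] S ⊗[R] B} (hg : Compat g) (hg' : Compat g')
    (h : ∀ c, g c - g' c ∈ Ideal.map (algebraMap S (S ⊗[R] B)) K) : g = g' := by
  refine AlgHom.ext fun c => ?_
  rw [← sub_eq_zero]
  refine U.detect _ fun k => ?_
  let l : S →ₐ[R] U.T k := IsScalarTower.toAlgHom R S (U.T k)
  have heq := compat_eq_of_diag (hB k) (hC k) (hg.map l) (hg'.map l) (K.map (algebraMap S (U.T k)))
    (Ideal.map_le_iff_le_comap.2 fun x hx => by
      obtain ⟨n, hn⟩ := mem_nilradical.1 (hK hx)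
      exact mem_nilradical.2 ⟨n, by rw [← map_pow, hn, map_zero]⟩)
    fun c => by
      show Algebra.TensorProduct.map l _ (g c) - Algebra.TensorProduct.map l _ (g' c) ∈ _
      rw [← map_sub]
      have h2 := Ideal.mem_map_of_mem (Algebra.TensorProduct.map l (AlgHom.id R B)).toRingHom (h c)
      have h3 : ((Algebra.TensorProduct.map l (AlgHom.id R B)).toRingHom).comp (algebraMap S (S ⊗[R] B)) =
          (algebraMap (U.T k) (U.T k ⊗[R] B)).comp (algebraMap S (U.T k)) := RingHom.ext fun s => by simp [l]
      rw [Ideal.map_map, h3, ← Ideal.map_map] at h2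
      exact h2
  apply (TensorProduct.AlgebraTensorModule.cancelBaseChange R S S (U.T k) B).injective
  have : ∀ w : S ⊗[R] B, TensorProduct.AlgebraTensorModule.cancelBaseChange R S S (U.T k) B ((1 : U.T k) ⊗ₜ[S] w) =
      Algebra.TensorProduct.map l (AlgHom.id R B) w := by
    intro w
    induction w using TensorProduct.induction_on with
    | zero => simp
    | tmul s b => simp [Algebra.smul_def, l]
    | add a b ha hb => simp only [TensorProduct.tmul_add, map_add, ha, hb]
  rw [map_zero, this, map_sub, sub_eq_zero]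
  exact congr($heq c)

end Groth.Agent.MultType
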