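import Groth.Agent.MultType.BaseChange

/-!
Groups of multiplicative type of finite type over a field split over a finite separable extension.
-/

universe u v

open TensorProduct SGA3b
open scoped TensorProduct

namespace Groth.Agent.MultType

variable {k : Type u} [Field k] {A : Type u} [CommRing A] [HopfAlgebra k A]

lemma map_id_injective {S T : Type u} [CommRing S] [Algebra k S] [CommRing T] [Algebra k T]
    (f : S →ₐ[k] T) (hf : Function.Injective f) (N : Type u) [CommRing N] [Algebra k N] :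
    Function.Injective (Algebra.TensorProduct.map f (AlgHom.id k N)) :=
  Module.Flat.rTensor_preserves_injective_linearMap (M := N) f.toLinearMap hf

/-- Splitting over a finite extension. -/
lemma exists_finite_split (hft : Algebra.FiniteType k A) {K : Type u} [Field K] [Algebra k K]
    (h : IsDiag K (K ⊗[k] A)) :
    ∃ (k₁ : Type u) (_ : Field k₁) (_ : Algebra k k₁), Module.Finite k k₁ ∧ IsDiag k₁ (k₁ ⊗[k] A) := by
  classical
  obtain ⟨M, _, ⟨e⟩⟩ := h
  obtain ⟨G, hG⟩ := hft.1
  let ee : (K ⊗[k] A) ≃ₐ[K] MonoidAlgebra K M := (e : (K ⊗[k] A) ≃ₐ[K] MonoidAlgebra K M)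
  let γ : M → K ⊗[k] A := fun m => e.symm (MonoidAlgebra.single m 1)
  let S : Finset M := G.biUnion fun a => (ee ((1 : K) ⊗ₜ[k] a)).coeff.support
  let cs : Finset K := G.biUnion fun a => S.image fun m => (ee ((1 : K) ⊗ₜ[k] a)).coeff m
  have hsplit : ∀ x : K ⊗[k] A, ∃ F : Finset K,
      ∀ T : Subalgebra k K, ↑F ⊆ (T : Set K) → x ∈ Set.range (Algebra.TensorProduct.map T.val (AlgHom.id k A)) := by
    intro x
    induction x using TensorProduct.induction_on with
    | zero => exact ⟨∅, fun T _ => ⟨0, map_zero _⟩⟩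
    | tmul c a => exact ⟨{c}, fun T hT => ⟨(⟨c, hT (Finset.mem_singleton_self c)⟩ : T) ⊗ₜ a, rfl⟩⟩
    | add x y hx hy =>
      obtain ⟨F, hF⟩ := hx
      obtain ⟨F', hF'⟩ := hy
      refine ⟨F ∪ F', fun T hT => ?_⟩
      obtain ⟨x', hx'⟩ := hF T (fun c hc => hT (Finset.mem_union_left _ hc))
      obtain ⟨y', hy'⟩ := hF' T (fun c hc => hT (Finset.mem_union_right _ hc))
      exact ⟨x' + y', by rw [map_add, hx', hy']⟩
  choose F hF using fun m : M => hsplit (γ m)
  let T := Algebra.adjoin k ((S.biUnion F ∪ cs : Finset K) : Set K)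
  have hTft : Algebra.FiniteType k T :=
    ⟨(Subalgebra.fg_top _).2 ⟨_, rfl⟩⟩
  have hFT : ∀ m ∈ S, ↑(F m) ⊆ (T : Set K) := fun m hm c hc =>
    Algebra.subset_adjoin (Finset.mem_union_left _ (Finset.mem_biUnion.2 ⟨m, hm, hc⟩))
  let ι : T ⊗[k] A →ₐ[k] K ⊗[k] A := Algebra.TensorProduct.map T.val (AlgHom.id k A)
  have hι : Function.Injective ι := map_id_injective T.val Subtype.val_injective A
  choose x hx using fun m : S => hF m.1 T (hFT m.1 m.2)
  have hxgl : ∀ m, IsGroupLikeElem T (x m) := fun m => by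
    refine isGroupLikeElem_of_map T.val Subtype.val_injective (map_id_injective T.val Subtype.val_injective _) ?_
    rw [hx m]
    exact (MonoidAlgebra.isGroupLikeElem_single_one m.1).map (e.symm : MonoidAlgebra K M →ₐc[K] K ⊗[k] A)
  have hgen : ∀ a ∈ G, (1 : T) ⊗ₜ[k] a ∈ Submodule.span T (Set.range x) := by
    intro a ha
    have hc : ∀ m : S, (ee ((1 : K) ⊗ₜ[k] a)).coeff m.1 ∈ T := fun m =>
      Algebra.subset_adjoin (Finset.mem_union_right _ (Finset.mem_biUnion.2 ⟨a, ha,
        Finset.mem_image.2 ⟨m.1, m.2, rfl⟩⟩))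
    have e1 : (1 : T) ⊗ₜ[k] a = ∑ m : S, (⟨_, hc m⟩ : T) • x m := by
      apply hι
      rw [map_sum]
      have hsmul : ∀ (t : T) (z : T ⊗[k] A), ι (t • z) = (t : K) • ι z := by
        intro t z
        induction z using TensorProduct.induction_on with
        | zero => simp
        | tmul p q => simp [ι, TensorProduct.smul_tmul']
        | add p q hp hq => simp only [smul_add, map_add, hp, hq]
      simp only [hsmul]
      refine Eq.trans (show ι ((1 : T) ⊗ₜ[k] a) = (1 : K) ⊗ₜ[k] a by simp [ι]) ?_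
      rw [show (∑ m : S, (ee ((1 : K) ⊗ₜ[k] a)).coeff m.1 • ι (x m)) =
          ∑ m : S, (ee ((1 : K) ⊗ₜ[k] a)).coeff m.1 • γ m.1 from Finset.sum_congr rfl fun m _ => by rw [← hx m]]
      rw [Finset.sum_coe_sort S (fun m => (ee ((1 : K) ⊗ₜ[k] a)).coeff m • γ m)]
      apply ee.injective
      simp only [map_sum, map_smul]
      have hγ : ∀ m, ee (γ m) = MonoidAlgebra.single m 1 := fun m => e.apply_symm_apply _
      refine MonoidAlgebra.ext (Finsupp.ext fun n => ?_)
      simp only [hγ, MonoidAlgebra.coeff_sum, Finsupp.coe_finsetSum, Finset.sum_apply,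
        MonoidAlgebra.coeff_smul, Finsupp.smul_apply, MonoidAlgebra.coeff_single, smul_eq_mul]
      rw [Finset.sum_eq_single n (fun b _ hb => by rw [Finsupp.single_eq_of_ne (Ne.symm hb), mul_zero])
        (fun hn => by
          have : (ee ((1 : K) ⊗ₜ[k] a)).coeff n = 0 := Finsupp.notMem_support_iff.1 fun h' =>
            hn (Finset.mem_biUnion.2 ⟨a, ha, h'⟩)
          rw [this, zero_mul])]
      simp
    rw [e1]
    exact Submodule.sum_mem _ fun m _ => Submodule.smul_mem _ _ (Submodule.subset_span ⟨m, rfl⟩)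
  obtain ⟨P, hP⟩ := Ideal.exists_maximal T
  let k₁ := T ⧸ P
  letI : Field k₁ := Ideal.Quotient.field P
  haveI : Algebra.FiniteType k k₁ := hTft.trans inferInstance
  haveI : Module.Finite k k₁ := finite_of_finite_type_of_isJacobsonRing k k₁
  refine ⟨k₁, inferInstance, inferInstance, inferInstance, isDiag_of_adjoin_groupLike ?_⟩
  let q : T →ₐ[k] k₁ := Ideal.Quotient.mkₐ k P
  let π : T ⊗[k] A →ₐ[k] k₁ ⊗[k] A := Algebra.TensorProduct.map q (AlgHom.id k A)
  set V := Algebra.adjoin k₁ {y : k₁ ⊗[k] A | IsGroupLikeElem k₁ y} with hV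
  have hπV : ∀ a ∈ G, (1 : k₁) ⊗ₜ[k] a ∈ V := by
    intro a ha
    rw [show (1 : k₁) ⊗ₜ[k] a = π ((1 : T) ⊗ₜ[k] a) by simp [π]]
    refine Submodule.span_induction ?_ ?_ ?_ ?_ (hgen a ha)
    · rintro _ ⟨m, rfl⟩
      exact Algebra.subset_adjoin (isGroupLikeElem_map q (hxgl m))
    · rw [map_zero]; exact zero_mem V
    · intro p r _ _ hp hr; rw [map_add]; exact add_mem hp hr
    · intro t p _ hp
      have hsm : ∀ z : T ⊗[k] A, π (t • z) = q t • π z := by
        intro z
        induction z using TensorProduct.induction_on with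
        | zero => simp
        | tmul a b => simp [π, TensorProduct.smul_tmul']
        | add a b ha hb => simp only [smul_add, map_add, ha, hb]
      rw [hsm]
      exact Subalgebra.smul_mem V hp _
  rw [eq_top_iff]
  rintro z -
  induction z using TensorProduct.induction_on with
  | zero => exact zero_mem V
  | add p r hp hr => exact add_mem hp hr
  | tmul c a =>
    rw [show c ⊗ₜ[k] a = c • ((1 : k₁) ⊗ₜ[k] a) by simp [TensorProduct.smul_tmul']]
    refine Subalgebra.smul_mem V ?_ c
    induction (show a ∈ Algebra.adjoin k (G : Set A) by rw [hG]; trivial) using Algebra.adjoin_induction with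
    | mem y hy => exact hπV y hy
    | algebraMap r =>
      rw [show (1 : k₁) ⊗ₜ[k] algebraMap k A r = algebraMap k₁ (k₁ ⊗[k] A) (algebraMap k k₁ r) from
        ((Algebra.TensorProduct.includeRight : A →ₐ[k] k₁ ⊗[k] A).commutes r).trans
          (IsScalarTower.algebraMap_apply k k₁ (k₁ ⊗[k] A) r)]
      exact Subalgebra.algebraMap_mem V _
    | add y y' _ _ hy hy' => rw [TensorProduct.tmul_add]; exact add_mem hy hy'
    | mul y y' _ _ hy hy' =>
      rw [show (1 : k₁) ⊗ₜ[k] (y * y') = ((1 : k₁) ⊗ₜ[k] y) * ((1 : k₁) ⊗ₜ[k] y') by simp]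
      exact mul_mem hy hy'

/-- The splitting descends to the separable closure. -/
lemma isDiag_separableClosure {k₁ : Type u} [Field k₁] [Algebra k k₁] [Module.Finite k k₁]
    (h : IsDiag k₁ (k₁ ⊗[k] A)) :
    IsDiag (separableClosure k k₁) ((separableClosure k k₁) ⊗[k] A) := by
  let k₂ := separableClosure k k₁
  haveI : IsPurelyInseparable k₂ k₁ := separableClosure.isPurelyInseparable k k₁
  let T := k₁ ⊗[k₂] k₁
  let i₁ : k₁ →ₐ[k] T := (Algebra.TensorProduct.includeLeft : k₁ →ₐ[k₂] T).restrictScalars k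
  let i₂ : k₁ →ₐ[k] T := (Algebra.TensorProduct.includeRight : k₁ →ₐ[k₂] T).restrictScalars k
  let μ : T →ₐ[k] k₁ := (Algebra.TensorProduct.lmul' k₂ (S := k₁)).restrictScalars k
  have hnil : RingHom.ker μ ≤ nilradical T := by
    have hs : RingHom.ker μ = Ideal.span (Set.range fun s : k₁ => (1 : k₁) ⊗ₜ[k₂] s - s ⊗ₜ[k₂] (1 : k₁)) :=
      (KaehlerDifferential.span_range_eq_ideal k₂ k₁).symm
    rw [hs, Ideal.span_le]
    rintro _ ⟨s, rfl⟩
    obtain ⟨q, hq⟩ := ExpChar.exists k₂
    haveI : ExpChar T q := expChar_of_injective_algebraMap (FaithfulSMul.algebraMap_injective k₂ T) q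
    obtain ⟨n, r, hr⟩ := IsPurelyInseparable.pow_mem k₂ q s
    refine mem_nilradical.2 ⟨q ^ n, ?_⟩
    rw [sub_pow_expChar_pow, Algebra.TensorProduct.tmul_pow, Algebra.TensorProduct.tmul_pow, one_pow, ← hr,
      Algebra.algebraMap_eq_smul_one, ← TensorProduct.smul_tmul, sub_self]
  have hμ₁ : ∀ s : k₁, μ (i₁ s) = s := fun s => by
    show Algebra.TensorProduct.lmul' k₂ (S := k₁) (s ⊗ₜ[k₂] (1 : k₁)) = s
    rw [Algebra.TensorProduct.lmul'_apply_tmul, _root_.mul_one]
  have hμ₂ : ∀ s : k₁, μ (i₂ s) = s := fun s => by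
    show Algebra.TensorProduct.lmul' k₂ (S := k₁) ((1 : k₁) ⊗ₜ[k₂] s) = s
    rw [Algebra.TensorProduct.lmul'_apply_tmul, _root_.one_mul]
  let f₁ := Algebra.TensorProduct.map i₁ (AlgHom.id k A)
  let f₂ := Algebra.TensorProduct.map i₂ (AlgHom.id k A)
  have hT : IsDiag T (T ⊗[k] A) := by
    obtain ⟨N, _, ⟨e⟩⟩ := isDiag_tensor T h
    exact ⟨N, inferInstance, ⟨(cbc (R := k) (A := A) k₁ T).symm.trans e⟩⟩
  obtain ⟨ρ, hρ⟩ : ∃ ρ : k₁ →ₗ[k₂] k₂, ρ 1 = 1 := by
    obtain ⟨ρ, hρ⟩ := LinearMap.exists_leftInverse_of_injective (Algebra.linearMap k₂ k₁)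
      (LinearMap.ker_eq_bot.2 (algebraMap k₂ k₁).injective)
    exact ⟨ρ, by simpa using congr($hρ 1)⟩
  have hdesc : ∀ g : k₁ ⊗[k] A, IsGroupLikeElem k₁ g →
      ∃ g' : k₂ ⊗[k] A, IsGroupLikeElem k₂ g' ∧
        Algebra.TensorProduct.map (IsScalarTower.toAlgHom k k₂ k₁) (AlgHom.id k A) g' = g := by
    intro g hg
    have heq : f₁ g = f₂ g := by
      refine groupLike_eq_of_nil hT (isGroupLikeElem_map i₁ hg) (isGroupLikeElem_map i₂ hg) _ hnil ?_
      refine mem_map_ker μ (fun s => ⟨i₁ s, hμ₁ s⟩) _ ?_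
      have : ∀ (i : k₁ →ₐ[k] T), μ.comp i = AlgHom.id k k₁ →
          ∀ z, Algebra.TensorProduct.map μ (AlgHom.id k A) (Algebra.TensorProduct.map i (AlgHom.id k A) z) = z := by
        intro i hi z
        induction z using TensorProduct.induction_on with
        | zero => simp
        | tmul c a =>
          simp only [Algebra.TensorProduct.map_tmul, AlgHom.id_apply]
          rw [show μ (i c) = c from congr($hi c)]
        | add a b ha hb => simp only [map_add, ha, hb]
      rw [map_sub, this i₁ (AlgHom.ext hμ₁), this i₂ (AlgHom.ext hμ₂),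
        sub_self]
    let ρk : k₁ →ₗ[k] k₂ := ρ.restrictScalars k
    let g' := (ρk.rTensor A) g
    have hg' : Algebra.TensorProduct.map (IsScalarTower.toAlgHom k k₂ k₁) (AlgHom.id k A) g' = g := by
      let P : T →ₗ[k] k₁ := (TensorProduct.lift ((LinearMap.lsmul k₂ k₁).comp ρ)).restrictScalars k
      have e1 : ∀ z, P.rTensor A (f₁ z) =
          Algebra.TensorProduct.map (IsScalarTower.toAlgHom k k₂ k₁) (AlgHom.id k A) (ρk.rTensor A z) := by
        intro z
        induction z using TensorProduct.induction_on with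
        | zero => simp
        | tmul c a =>
          show (P (c ⊗ₜ[k₂] (1 : k₁))) ⊗ₜ[k] a = (algebraMap k₂ k₁ (ρ c)) ⊗ₜ[k] a
          congr 1
          show ρ c • (1 : k₁) = _
          rw [Algebra.algebraMap_eq_smul_one]
        | add a b ha hb => simp only [map_add, ha, hb]
      have e2 : ∀ z, P.rTensor A (f₂ z) = z := by
        intro z
        induction z using TensorProduct.induction_on with
        | zero => simp
        | tmul c a =>
          show (P ((1 : k₁) ⊗ₜ[k₂] c)) ⊗ₜ[k] a = c ⊗ₜ[k] a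
          congr 1
          show ρ 1 • c = c
          rw [hρ, one_smul]
        | add a b ha hb => simp only [map_add, ha, hb]
      show Algebra.TensorProduct.map (IsScalarTower.toAlgHom k k₂ k₁) (AlgHom.id k A) (ρk.rTensor A g) = g
      rw [← e1, heq, e2]
    refine ⟨g', ?_, hg'⟩
    refine isGroupLikeElem_of_map (IsScalarTower.toAlgHom k k₂ k₁) (algebraMap k₂ k₁).injective
      (map_id_injective _ (algebraMap k₂ k₁).injective _) ?_
    rw [hg']; exact hg
  obtain ⟨M, _, ⟨e⟩⟩ := h
  choose γ hγ hγe using fun m : M => hdesc (e.symm (MonoidAlgebra.single m 1))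
    ((MonoidAlgebra.isGroupLikeElem_single_one m).map (e.symm : MonoidAlgebra k₁ M →ₐc[k₁] k₁ ⊗[k] A))
  apply isDiag_of_adjoin_groupLike
  rw [eq_top_iff]
  intro z _
  set j := Algebra.TensorProduct.map (IsScalarTower.toAlgHom k k₂ k₁) (AlgHom.id k A) with hj
  let V : Submodule k₂ (k₂ ⊗[k] A) := Submodule.span k₂ (Set.range γ)
  let ee : (k₁ ⊗[k] A) ≃ₐ[k₁] MonoidAlgebra k₁ M := (e : (k₁ ⊗[k] A) ≃ₐ[k₁] MonoidAlgebra k₁ M)
  have hz : z ∈ V := by
    let ρk : k₁ →ₗ[k] k₂ := ρ.restrictScalars k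
    have hsm : ∀ (c : k₁) (w : k₂ ⊗[k] A), ρk.rTensor A (c • j w) = ρ c • w := by
      intro c w
      induction w using TensorProduct.induction_on with
      | zero => simp
      | tmul p a =>
        rw [hj, Algebra.TensorProduct.map_tmul, TensorProduct.smul_tmul', LinearMap.rTensor_tmul,
          TensorProduct.smul_tmul', AlgHom.id_apply]
        show ρ (c * algebraMap k₂ k₁ p) ⊗ₜ[k] a = _
        rw [mul_comm, ← Algebra.smul_def, map_smul, smul_eq_mul, smul_eq_mul, mul_comm]
      | add p q hp hq => simp only [map_add, smul_add, hp, hq]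
    have hretr : ρk.rTensor A (j z) = z := by
      have h1 := hsm 1 z
      rwa [one_smul, hρ, one_smul] at h1
    rw [← hretr, ← ee.symm_apply_apply (j z), ← MonoidAlgebra.sum_single (ee (j z)), Finsupp.sum, map_sum,
      map_sum]
    refine Submodule.sum_mem _ fun m _ => ?_
    have e3 : ee.symm (MonoidAlgebra.single m ((ee (j z)).coeff m)) = (ee (j z)).coeff m • j (γ m) := by
      rw [show (MonoidAlgebra.single m ((ee (j z)).coeff m) : MonoidAlgebra k₁ M) =
        (ee (j z)).coeff m • MonoidAlgebra.single m 1 by simp, map_smul, hγe]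
      rfl
    rw [e3, hsm]
    exact Submodule.smul_mem _ _ (Submodule.subset_span ⟨m, rfl⟩)
  have hle : V ≤ Subalgebra.toSubmodule
      (Algebra.adjoin k₂ {x : k₂ ⊗[k] A | IsGroupLikeElem k₂ x}) := Submodule.span_le.2 (by
    rintro _ ⟨m, rfl⟩
    exact Algebra.subset_adjoin (hγ m))
  exact hle hz

/-- Over a field, a group of multiplicative type and finite type splits over a finite separable extension. -/
theorem exists_separable_split (hft : Algebra.FiniteType k A) (h : IsMultType k A) :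
    ∃ (k' : Type u) (_ : Field k') (_ : Algebra k k'), Module.Finite k k' ∧ Algebra.IsSeparable k k' ∧
      IsDiagFT k' (k' ⊗[k] A) := by
  obtain ⟨c, hu⟩ := exists_ff_chart h
  haveI : Nontrivial c.R' := nontrivial_of_ne (1 : c.R') 0 fun h1 => by
    haveI : Subsingleton c.R' := subsingleton_of_zero_eq_one h1.symm
    haveI : Subsingleton (c.R' ⊗[k] k) := Module.subsingleton c.R' _
    exact one_ne_zero (α := k) (c.eq_zero_of_isUnit hu (N := k) (x := 1) (Subsingleton.elim _ _))
  obtain ⟨P, hP⟩ := Ideal.exists_maximal c.R'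
  letI : Field (c.R' ⧸ P) := Ideal.Quotient.field P
  obtain ⟨N, _, ⟨e⟩⟩ := isDiag_tensor (c.R' ⧸ P) (S := c.R') (B := c.R' ⊗[k] A) ⟨c.M, inferInstance, ⟨c.e⟩⟩
  obtain ⟨k₁, _, _, _, h₁⟩ := exists_finite_split hft
    (K := c.R' ⧸ P) ⟨N, inferInstance, ⟨(cbc (R := k) (A := A) c.R' (c.R' ⧸ P)).symm.trans e⟩⟩
  obtain ⟨M, _, ⟨e'⟩⟩ := isDiag_separableClosure h₁
  exact ⟨separableClosure k k₁, inferInstance, inferInstance, inferInstance, inferInstance, M, inferInstance,
    fg_of_finiteType hft e', ⟨e'⟩⟩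

end Groth.Agent.MultType
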