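import Groth.Agent.MultType.Spread
import Groth.Agent.MultType.Field
import Groth.Agent.Henselization.Properties
import Mathlib.RingTheory.Spectrum.Prime.Chevalley
import Mathlib.RingTheory.Finiteness.Descent
import Mathlib.RingTheory.Flat.FaithfullyFlat.Algebra

/-!
Groups of multiplicative type and of finite type are split by étale covers.
-/

universe u

open TensorProduct SGA3b MonoidAlgebra IsLocalRing Polynomial Groth.Agent.Henselization
open scoped TensorProduct

namespace Groth.Agent.MultType

variable {R : Type u} [CommRing R]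

/-- The point of the henselization at a separable extension of a residue field is surjective. -/
lemma εH_surjective_of_separable (p : Ideal R) [p.IsPrime] (K : Type u) [Field K] [Algebra R K]
    [Algebra p.ResidueField K] [IsScalarTower R p.ResidueField K] [Algebra.IsSeparable p.ResidueField K] :
    Function.Surjective (εH R K) := by
  classical
  intro x
  let F := minpoly p.ResidueField x
  obtain ⟨b, hb⟩ := IsLocalization.exist_integer_multiples_of_finset (nonZeroDivisors (R ⧸ p)) F.coeffs
  obtain ⟨b₀, hb₀⟩ := Ideal.Quotient.mk_surjective (b : R ⧸ p)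
  have hb₀p : algebraMap R p.ResidueField b₀ ≠ 0 := by
    rw [IsScalarTower.algebraMap_apply R (R ⧸ p) p.ResidueField, Ideal.Quotient.algebraMap_eq, hb₀]
    exact IsFractionRing.to_map_ne_zero_of_mem_nonZeroDivisors b.2
  let A₁ := Localization.Away b₀
  let φ : A₁ →ₐ[R] p.ResidueField := IsLocalization.liftAlgHom (M := Submonoid.powers b₀)
    (f := Algebra.ofId R p.ResidueField) (fun ⟨_, k, hk⟩ => by
      subst hk
      simpa using (isUnit_iff_ne_zero.2 hb₀p).pow k)
  have hφ : ∀ r, φ (algebraMap R A₁ r) = algebraMap R p.ResidueField r := φ.commutes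
  have hlift : F ∈ lifts φ.toRingHom := by
    rw [lifts_iff_coeff_lifts]
    intro k
    by_cases hk : F.coeff k = 0
    · exact ⟨0, by rw [hk]; exact map_zero _⟩
    obtain ⟨a, ha⟩ := hb _ (coeff_mem_coeffs hk)
    obtain ⟨a₀, rfl⟩ := Ideal.Quotient.mk_surjective a
    refine ⟨algebraMap R A₁ a₀ * IsLocalization.Away.invSelf b₀, (isUnit_iff_ne_zero.2 hb₀p).mul_left_cancel ?_⟩
    show algebraMap R p.ResidueField b₀ * φ _ = _
    rw [← hφ b₀, ← map_mul, mul_left_comm, IsLocalization.Away.mul_invSelf, _root_.mul_one, hφ, hφ,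
      IsScalarTower.algebraMap_apply R (R ⧸ p) p.ResidueField a₀,
      IsScalarTower.algebraMap_apply R (R ⧸ p) p.ResidueField b₀, Ideal.Quotient.algebraMap_eq, hb₀]
    exact ha.trans (Algebra.smul_def _ _)
  have hFm : F.Monic := minpoly.monic (Algebra.IsSeparable.isIntegral p.ResidueField x)
  obtain ⟨G, hG, -, hGm⟩ := lifts_and_natDegree_eq_and_monic hlift hFm
  let σ₁ : A₁ →ₐ[R] K := (IsScalarTower.toAlgHom R p.ResidueField K).comp φ
  let P : StandardEtalePair A₁ := ⟨G, hGm, derivative G, ⟨1, 0, 1, by simp⟩⟩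
  let _ : Algebra R P.Ring := ((algebraMap A₁ P.Ring).comp (algebraMap R A₁)).toAlgebra
  have : IsScalarTower R A₁ P.Ring := .of_algebraMap_eq fun _ => rfl
  have : Algebra.Etale R A₁ := Algebra.Etale.of_isLocalizationAway b₀
  have : Algebra.Etale R P.Ring := Algebra.Etale.comp R A₁ _
  let _ : Algebra A₁ K := σ₁.toRingHom.toAlgebra
  have : IsScalarTower R A₁ K := .of_algebraMap_eq fun r => (σ₁.commutes r).symm
  have haev : ∀ q : A₁[X], aeval x q = aeval x (q.map φ.toRingHom) := fun q => by
    rw [aeval_def, aeval_def, eval₂_map]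
    rfl
  have hmap : P.HasMap x := by
    refine ⟨?_, ?_⟩
    · show aeval x G = 0
      rw [haev, hG, minpoly.aeval]
    · show IsUnit (aeval x (derivative G))
      rw [haev, ← derivative_map, hG]
      exact isUnit_iff_ne_zero.2
        ((Algebra.IsSeparable.isSeparable p.ResidueField x).aeval_derivative_ne_zero (minpoly.aeval _ _))
  obtain ⟨j, e, he⟩ := exists_idx P.Ring ((P.lift x hmap).restrictScalars R)
  refine ⟨ι j (e P.X), ?_⟩
  rw [εH_ι, ← AlgHom.comp_apply, he]
  exact P.lift_X x hmap

/-- The residue field of the henselization receives the field of the point. -/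
lemma exists_toResidue (p : Ideal R) [p.IsPrime] (K : Type u) [Field K] [Algebra R K]
    [Algebra p.ResidueField K] [IsScalarTower R p.ResidueField K] [Algebra.IsSeparable p.ResidueField K] :
    Nonempty (K →ₐ[R] ResidueField (Hz R K)) := by
  let f : ResidueField (Hz R K) →ₐ[R] K :=
    Ideal.Quotient.liftₐ (maximalIdeal (Hz R K)) (εH R K) fun a ha => (mem_maximalIdeal_iff a).1 ha
  have hf : Function.Bijective f := ⟨f.toRingHom.injective, fun x => by
    obtain ⟨z, hz⟩ := εH_surjective_of_separable p K x
    exact ⟨residue _ z, hz⟩⟩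
  exact ⟨(AlgEquiv.ofBijective f hf).symm.toAlgHom⟩

variable {A : Type u} [CommRing A] [HopfAlgebra R A] {K : Type u} [Field K] [Algebra R K]

/-- Finitely many elements come from a stage. -/
lemma exists_lift_tensor (F : Finset (Hz R K ⊗[R] A)) :
    ∃ i : Idx R K, ∀ z ∈ F, ∃ x : i.L ⊗[R] A, Algebra.TensorProduct.map (ι i) (AlgHom.id R A) x = z := by
  classical
  choose S hS using fun z : Hz R K ⊗[R] A => TensorProduct.exists_finset z
  obtain ⟨i, hi⟩ := exists_lift_finset (F.biUnion fun z => (S z).image Prod.fst)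
  refine ⟨i, fun z hz => ?_⟩
  choose x hx using fun j : {j // j ∈ S z} =>
    hi j.1.1 (Finset.mem_biUnion.2 ⟨z, hz, Finset.mem_image.2 ⟨j.1, j.2, rfl⟩⟩)
  refine ⟨∑ j : {j // j ∈ S z}, x j ⊗ₜ j.1.2, ?_⟩
  rw [map_sum]
  simp only [Algebra.TensorProduct.map_tmul, hx, AlgHom.id_apply]
  exact (Finset.sum_coe_sort (S z) fun j => j.1 ⊗ₜ[R] j.2).trans (hS z).symm

/-- A splitting over the henselization comes from a stage. -/
lemma exists_isDiag_stage [Module.Flat R A] [Algebra.FiniteType (Hz R K) (Hz R K ⊗[R] A)]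
    (h : IsDiag (Hz R K) (Hz R K ⊗[R] A)) : ∃ i : Idx R K, IsDiag i.L (i.L ⊗[R] A) := by
  classical
  obtain ⟨M, _, ⟨e⟩⟩ := h
  let H := Hz R K
  haveI : Monoid.FG M := MonoidAlgebra.finiteType_iff_fg.1
    ((inferInstance : Algebra.FiniteType H (H ⊗[R] A)).equiv (e : (H ⊗[R] A) ≃ₐ[H] MonoidAlgebra H M))
  obtain ⟨G, hG⟩ := Monoid.FG.fg_top (M := M)
  let γ : M → H ⊗[R] A := fun m => e.symm (single m 1)
  have hγ : ∀ m, IsGroupLikeElem H (γ m) := fun m => (MonoidAlgebra.isGroupLikeElem_single_one m).map e.symm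
  have hγmul : ∀ a b, γ (a * b) = γ a * γ b := fun a b => by simp [γ, ← map_mul]
  have hγone : γ 1 = 1 := by simp [γ, ← MonoidAlgebra.one_def]
  obtain ⟨i, hi⟩ := exists_lift_tensor (G.image γ)
  letI := algebraStage i
  let q : i.L ⊗[R] A →ₐ[R] H ⊗[R] A := Algebra.TensorProduct.map (ι i) (AlgHom.id R A)
  have hqinj : Function.Injective q :=
    Module.Flat.rTensor_preserves_injective_linearMap (M := A) (ι i).toLinearMap (ι_injective i)
  have hq'inj : Function.Injective (Algebra.TensorProduct.map (ι i) (AlgHom.id R (A ⊗[R] A))) :=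
    Module.Flat.rTensor_preserves_injective_linearMap (M := A ⊗[R] A) (ι i).toLinearMap (ι_injective i)
  have hall : ∀ m, ∃ x, q x = γ m := by
    intro m
    have hm : m ∈ Submonoid.closure (G : Set M) := hG ▸ Submonoid.mem_top m
    induction hm using Submonoid.closure_induction with
    | mem y hy => exact hi _ (Finset.mem_image_of_mem γ hy)
    | one => exact ⟨1, by rw [map_one, hγone]⟩
    | mul a b _ _ ha hb =>
      obtain ⟨a', ha⟩ := ha
      obtain ⟨b', hb⟩ := hb
      exact ⟨a' * b', by rw [map_mul, ha, hb, hγmul]⟩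
  choose x hx using hall
  let θ : M →* i.L ⊗[R] A :=
    { toFun := x
      map_one' := hqinj (by rw [hx, map_one, hγone])
      map_mul' := fun a b => hqinj (by rw [map_mul, hx, hx, hx, hγmul]) }
  have natj : ∀ (φ : A →ₐ[R] A ⊗[R] A) (z : i.L ⊗[R] A),
      Algebra.TensorProduct.map (AlgHom.id H H) φ (q z) =
        Algebra.TensorProduct.map (ι i) (AlgHom.id R (A ⊗[R] A))
          (Algebra.TensorProduct.map (AlgHom.id i.L i.L) φ z) := by
    intro φ z
    induction z using TensorProduct.induction_on with
    | zero => simp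
    | tmul a b => simp [q]
    | add p n hp hn => simp only [map_add, hp, hn]
  have natε : ∀ z : i.L ⊗[R] A, jε (R := R) (A := A) H (q z) = ι i (jε (R := R) (A := A) i.L z) := by
    intro z
    induction z using TensorProduct.induction_on with
    | zero => simp
    | tmul a b => simp [q, jε, H]
    | add p n hp hn => simp only [map_add, hp, hn]
  have hθ : ∀ m, IsGroupLikeElem i.L (θ m) := by
    intro m
    rw [isGroupLikeElem_iff]
    have hm := (isGroupLikeElem_iff _).1 (hγ m)
    rw [← hx m] at hm
    refine ⟨ι_injective i ?_, hq'inj ?_⟩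
    · rw [map_one, ← natε]
      exact hm.1
    · rw [map_mul]
      unfold jΔ j₁ j₂ at hm ⊢
      rw [← natj, ← natj, ← natj]
      exact hm.2
  let φ : MonoidAlgebra i.L M →ₐc[i.L] i.L ⊗[R] A :=
    BialgHom.ofAlgHom (MonoidAlgebra.lift i.L (i.L ⊗[R] A) M θ)
      (by ext m; simp [(hθ m).counit_eq_one]) (by ext m; simp [(hθ m).comul_eq_tmul_self])
  let f : MonoidAlgebra i.L M →ₐ[i.L] i.L ⊗[R] A := MonoidAlgebra.lift i.L (i.L ⊗[R] A) M θ
  have hfq : ∀ z, q (f z) = e.symm (mapAlgHom M (ι i) z) := by
    intro z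
    induction z using MonoidAlgebra.induction_linear with
    | zero => simp
    | add p r hp hr => simp only [map_add, hp, hr]
    | single m t =>
      rw [show mapAlgHom M (ι i) (single m t) = single m (ι i t) from mapRingHom_single (ι i : i.L →+* H) m t,
        show (single m t : MonoidAlgebra i.L M) = algebraMap i.L _ t * single m 1 by simp,
        show (single m (ι i t) : MonoidAlgebra H M) = algebraMap H _ (ι i t) * single m 1 by simp,
        map_mul f, AlgHom.commutes, map_mul q, map_mul e.symm, AlgHomClass.commutes e.symm,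
        show q (f (single m 1)) = γ m by simp [f, θ, hx]]
      rw [show algebraMap i.L (i.L ⊗[R] A) t = t ⊗ₜ[R] (1 : A) from rfl]
      simp [q, γ]
  have hinj : Function.Injective f := by
    intro a b hab
    have h1 := EquivLike.injective e.symm ((hfq a).symm.trans ((congrArg q hab).trans (hfq b)))
    refine MonoidAlgebra.ext (Finsupp.ext fun m => ι_injective i ?_)
    have h2 := congrArg (fun z : MonoidAlgebra H M => z.coeff m) h1
    exact (coeff_mapRingHom (ι i : i.L →+* H) a m).symm.trans (h2.trans (coeff_mapRingHom _ b m))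
  have hsurj : Function.Surjective f := by
    let C := Algebra.TensorProduct.cancelBaseChange R i.L H H A
    have hC : ∀ y : i.L ⊗[R] A, C ((1 : H) ⊗ₜ[i.L] y) = q y := by
      intro y
      induction y using TensorProduct.induction_on with
      | zero => simp
      | tmul l a =>
        simp [C, q, Algebra.smul_def]
        rfl
      | add p r hp hr => simp only [TensorProduct.tmul_add, map_add, hp, hr]
    let g : H ⊗[i.L] MonoidAlgebra i.L M →ₗ[H] H ⊗[R] A :=
      C.toLinearEquiv.toLinearMap ∘ₗ f.toLinearMap.baseChange H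
    have hg : Function.Surjective g := by
      intro z
      obtain ⟨w, rfl⟩ : ∃ w, e.symm w = z := ⟨e z, e.symm_apply_apply z⟩
      induction w using MonoidAlgebra.induction_linear with
      | zero => exact ⟨0, by simp⟩
      | add p r hp hr =>
        obtain ⟨p', hp⟩ := hp
        obtain ⟨r', hr⟩ := hr
        exact ⟨p' + r', by rw [map_add, map_add, hp, hr]⟩
      | single m r =>
        refine ⟨r • ((1 : H) ⊗ₜ[i.L] single m 1), ?_⟩
        rw [map_smul, show (single m r : MonoidAlgebra H M) = r • single m 1 by simp, map_smul e.symm]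
        congr 1
        show C ((1 : H) ⊗ₜ[i.L] f (single m 1)) = γ m
        rw [hC]
        simp [f, θ, hx]
    refine (Module.FaithfullyFlat.lTensor_surjective_iff_surjective i.L H f.toLinearMap).1 ?_
    intro z
    obtain ⟨w, hw⟩ := hg (C z)
    exact ⟨w, C.injective ((congrArg C (congrFun (LinearMap.baseChange_eq_ltensor (A := H) f.toLinearMap) w).symm).trans hw)⟩
  exact ⟨i, M, inferInstance, ⟨(BialgEquiv.ofBijective φ ⟨hinj, hsurj⟩).symm⟩⟩

/-- Finite presentation of a group of multiplicative type and of finite type. -/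
lemma finitePresentation_of_split [Nontrivial R] (R' : Type u) [CommRing R'] [Algebra R R'] [Module.FaithfullyFlat R R']
    (hd : IsDiag R' (R' ⊗[R] A)) (hft : Algebra.FiniteType R A) :
    Algebra.FinitePresentation R A ∧ Module.Flat R A := by
  haveI := hft
  obtain ⟨M, _, ⟨e⟩⟩ := hd
  haveI : Nontrivial R' := (FaithfulSMul.algebraMap_injective R R').nontrivial
  let e' : (R' ⊗[R] A) ≃ₐ[R'] MonoidAlgebra R' M := e
  haveI : Group.FG M := Group.fg_iff_monoid_fg.2 (MonoidAlgebra.finiteType_iff_fg.1
    ((inferInstance : Algebra.FiniteType R' (R' ⊗[R] A)).equiv e'))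
  haveI := finitePresentation_monoidAlgebra R' M
  haveI : Algebra.FinitePresentation R' (R' ⊗[R] A) := Algebra.FinitePresentation.equiv e'.symm
  haveI : Module.Free R' (R' ⊗[R] A) := Module.Free.of_equiv
    ((MonoidAlgebra.coeffLinearEquiv (M := M) R').symm.trans e'.toLinearEquiv.symm)
  exact ⟨Algebra.FinitePresentation.of_finitePresentation_tensorProduct_of_faithfullyFlat R',
    Module.Flat.of_flat_tensorProduct R A R'⟩

/-- A group split by a faithfully flat algebra is split, near each point, by an étale algebra. -/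
lemma exists_etale_split (R' : Type u) [CommRing R'] [Algebra R R'] [Module.FaithfullyFlat R R']
    (hd : IsDiag R' (R' ⊗[R] A)) (hft : Algebra.FiniteType R A) (p : Ideal R) [p.IsPrime] :
    ∃ (S : Type u) (_ : CommRing S) (_ : Algebra R S) (P : Ideal S),
      Algebra.Etale R S ∧ P.IsPrime ∧ P.comap (algebraMap R S) = p ∧ IsDiag S (S ⊗[R] A) := by
  haveI := hft
  haveI : Nontrivial R := ⟨0, 1, fun h => ‹p.IsPrime›.ne_top
    ((Ideal.eq_top_iff_one p).2 (h ▸ p.zero_mem))⟩
  obtain ⟨hfp, hflat⟩ := finitePresentation_of_split R' hd hft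
  obtain ⟨k', _, _, _, hsep, M₀, _, -, ⟨e₀⟩⟩ := exists_separable_split (k := p.ResidueField)
    (A := p.ResidueField ⊗[R] A) inferInstance (isMultType_base p.ResidueField R' hd)
  letI : Algebra R k' := ((algebraMap p.ResidueField k').comp (algebraMap R p.ResidueField)).toAlgebra
  haveI : IsScalarTower R p.ResidueField k' := IsScalarTower.of_algebraMap_eq' rfl
  have hk : IsDiag k' (k' ⊗[R] A) := isDiag_congr (cbc (R := R) (A := A) p.ResidueField k') ⟨M₀, inferInstance, ⟨e₀⟩⟩
  let H := Hz R k'
  obtain ⟨σ⟩ := exists_toResidue p k'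
  have h0 : IsDiag (ResidueField H) (ResidueField H ⊗[H] (H ⊗[R] A)) :=
    isDiag_congr (cbc (R := R) (A := A) H (ResidueField H)).symm (isDiag_of_algHom σ hk)
  have hH : IsDiag H (H ⊗[R] A) := isDiag_of_henselian (isMultType_base H R' hd) inferInstance h0
  obtain ⟨i, hi⟩ := exists_isDiag_stage hH
  obtain ⟨s, hs, hsd⟩ := exists_isDiag_away (R := R) (S := i.S) (q := i.q) (A := A) hi
  have hpt : i.pt s ≠ 0 := hs
  let φ : Localization.Away s →ₐ[R] k' := IsLocalization.liftAlgHom (M := Submonoid.powers s) (f := i.pt)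
    fun ⟨_, k, hk⟩ => by
      subst hk
      simpa using (isUnit_iff_ne_zero.2 hpt).pow k
  haveI : Algebra.Etale i.S (Localization.Away s) := Algebra.Etale.of_isLocalizationAway s
  refine ⟨Localization.Away s, inferInstance, inferInstance, RingHom.ker φ.toRingHom,
    Algebra.Etale.comp R i.S _, RingHom.ker_isPrime _, ?_, hsd⟩
  rw [RingHom.comap_ker, show φ.toRingHom.comp (algebraMap R _) = algebraMap R k' from φ.comp_algebraMap,
    show algebraMap R k' = (algebraMap p.ResidueField k').comp (algebraMap R p.ResidueField) from rfl,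
    RingHom.ker_comp_of_injective _ (RingHom.injective _), Ideal.ker_algebraMap_residueField]

end Groth.Agent.MultType
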