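import Groth.Agent.MultType.Power

/-!
Criteria for being diagonalisable, of multiplicative type, finite.
-/

universe u v

open TensorProduct WithConv MonoidAlgebra SGA3b
open scoped TensorProduct

namespace Groth.Agent.MultType

/-- A bialgebra spanned by the values of a homomorphism to its group-likes, distinct values
being linearly independent, is diagonalisable. -/
lemma isDiag_of_hom {K : Type u} [CommRing K] {B : Type u} [CommRing B] [HopfAlgebra K B]
    {M : Type u} [CommGroup M] (θ : M →* B) (hgl : ∀ m, IsGroupLikeElem K (θ m))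
    (hspan : Submodule.span K (Set.range θ) = ⊤)
    (hli : LinearIndepOn K id (Set.range θ)) : IsDiag K B := by
  let H : Subgroup M := θ.toHomUnits.ker
  let θ' : M ⧸ H →* B := (Units.coeHom B).comp (QuotientGroup.kerLift θ.toHomUnits)
  have hθ' : ∀ m : M, θ' (m : M ⧸ H) = θ m := fun m => rfl
  have hgl' : ∀ n, IsGroupLikeElem K (θ' n) := fun n => by
    induction n using QuotientGroup.induction_on with
    | H m => rw [hθ']; exact hgl m
  let g : MonoidAlgebra K (M ⧸ H) →ₐc[K] B :=
    BialgHom.ofAlgHom (MonoidAlgebra.lift K B (M ⧸ H) θ')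
      (by ext n; simp [(hgl' n).counit_eq_one])
      (by ext n; simp [(hgl' n).comul_eq_tmul_self])
  have hg : ∀ n, g (single n 1) = θ' n := fun n => by simp [g]
  have hinj : Function.Injective θ' := fun a b hab =>
    QuotientGroup.kerLift_injective θ.toHomUnits (Units.ext hab)
  have hrange : Set.range θ' = Set.range θ := by
    refine Set.ext fun x => ⟨?_, ?_⟩
    · rintro ⟨n, rfl⟩
      induction n using QuotientGroup.induction_on with
      | H m => exact ⟨m, (hθ' m).symm⟩
    · rintro ⟨m, rfl⟩; exact ⟨m, hθ' m⟩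
  have hli' : LinearIndependent K θ' := by
    rw [← hrange] at hli
    exact hli.comp (Set.rangeFactorization θ') (fun a b h => hinj congr(Subtype.val $h))
  let b : Module.Basis (M ⧸ H) K B := Module.Basis.mk hli' (by rw [hrange, hspan])
  have hgb : (g : MonoidAlgebra K (M ⧸ H) →ₐ[K] B).toLinearMap =
      ((MonoidAlgebra.basis (M ⧸ H) K).equiv b (Equiv.refl _)).toLinearMap :=
    (MonoidAlgebra.basis (M ⧸ H) K).ext fun n => by
      rw [LinearEquiv.coe_coe, Module.Basis.equiv_apply]
      simp [b, hg]
  have hbij : Function.Bijective g := by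
    show Function.Bijective (g : MonoidAlgebra K (M ⧸ H) →ₐ[K] B).toLinearMap
    rw [hgb]
    exact ((MonoidAlgebra.basis (M ⧸ H) K).equiv b (Equiv.refl _)).bijective
  exact ⟨M ⧸ H, inferInstance, ⟨(BialgEquiv.ofBijective g hbij).symm⟩⟩

variable {R : Type u} [CommRing R] {A : Type u} [CommRing A] [HopfAlgebra R A]

/-- Being of multiplicative type can be checked on the charts of another algebra. -/
lemma isMultType_of_charts (hA : IsMultType R A) {B : Type u} [CommRing B] [HopfAlgebra R B]
    (h : ∀ c : Chart R A, IsDiag c.R' (c.R' ⊗[R] B)) : IsMultType R B := by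
  obtain ⟨s, hs, hc⟩ := exists_charts hA
  refine ⟨s, hs, fun f hf => ?_⟩
  obtain ⟨c, rfl⟩ := hc f hf
  obtain ⟨N, _, ⟨e⟩⟩ := h c
  exact ⟨c.R', inferInstance, c.algebraL, c.ff, N, _,
    ⟨(cbc (R := R) (A := B) (Localization.Away c.f) c.R').trans e⟩⟩

/-- Finiteness can be checked on charts. -/
lemma finite_of_charts (hA : IsMultType R A) {N : Type u} [AddCommGroup N] [Module R N]
    (h : ∀ c : Chart R A, Module.Finite c.R' (c.R' ⊗[R] N)) : Module.Finite R N := by
  obtain ⟨s, hs, hc⟩ := exists_charts hA
  refine Module.Finite.of_localizationSpan' (M := N) s hs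
    (Mₚ := fun f : s => Localization.Away f.1 ⊗[R] N) (Rₚ := fun f : s => Localization.Away f.1)
    (fun f => TensorProduct.mk R (Localization.Away f.1) N 1) ?_
  rintro ⟨f, hf⟩
  obtain ⟨c, rfl⟩ := hc f hf
  haveI := h c
  haveI : Module.Finite c.R' (c.R' ⊗[Localization.Away c.f] (Localization.Away c.f ⊗[R] N)) :=
    Module.Finite.equiv (TensorProduct.AlgebraTensorModule.cancelBaseChange R (Localization.Away c.f)
      c.R' c.R' N).symm
  exact Module.Finite.of_finite_tensorProduct_of_faithfullyFlat c.R'

/-- A monoid algebra of a finite type algebra comes from a finitely generated group. -/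
lemma fg_of_finiteType (hA : Algebra.FiniteType R A) {R' : Type u} [CommRing R'] [Nontrivial R']
    [Algebra R R'] {M : Type u} [CommGroup M] (e : (R' ⊗[R] A) ≃ₐc[R'] MonoidAlgebra R' M) :
    Group.FG M := by
  haveI := hA
  have : Algebra.FiniteType R' (MonoidAlgebra R' M) :=
    (inferInstance : Algebra.FiniteType R' (R' ⊗[R] A)).equiv
      (e : (R' ⊗[R] A) ≃ₐ[R'] MonoidAlgebra R' M)
  exact Group.fg_iff_monoid_fg.2 (MonoidAlgebra.finiteType_iff_fg.1 this)

end Groth.Agent.MultType
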