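import Groth.Agent.MultType.LiftBase
import Groth.Agent.MultType.Quot

/-!
Base change of diagonalisable groups; group-like elements with coefficients in an algebra.
-/

universe u v

open TensorProduct SGA3b
open scoped TensorProduct

namespace Groth.Agent.MultType

/-- Base change of a diagonalisable bialgebra. -/
lemma isDiag_tensor {S : Type u} [CommRing S] {B : Type u} [CommRing B] [HopfAlgebra S B]
    (T : Type u) [CommRing T] [Algebra S T] (h : IsDiag S B) : IsDiag T (T ⊗[S] B) := by
  obtain ⟨M, _, ⟨e⟩⟩ := h
  let e' : MonoidAlgebra S M →ₐc[S] B := (e.symm : MonoidAlgebra S M →ₐc[S] B)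
  let θ : M →* T ⊗[S] B :=
    { toFun := fun m => (1 : T) ⊗ₜ[S] e' (MonoidAlgebra.single m 1)
      map_one' := by rw [← MonoidAlgebra.one_def, map_one, ← Algebra.TensorProduct.one_def]
      map_mul' := fun a b => by
        rw [Algebra.TensorProduct.tmul_mul_tmul, _root_.one_mul, ← map_mul, MonoidAlgebra.single_mul_single,
          _root_.one_mul] }
  have hgl : ∀ m, IsGroupLikeElem T (θ m) := fun m => by
    have h := (MonoidAlgebra.isGroupLikeElem_single_one (R := S) (A := S) m).map e'
    constructor
    · show Coalgebra.counit (R := T) ((1 : T) ⊗ₜ[S] e' _) = 1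
      rw [TensorProduct.counit_tmul, h.counit_eq_one, one_smul, CommSemiring.counit_apply]
    · show Coalgebra.comul (R := T) ((1 : T) ⊗ₜ[S] e' _) = _
      rw [TensorProduct.comul_tmul, h.comul_eq_tmul_self, CommSemiring.comul_apply,
        TensorProduct.AlgebraTensorModule.tensorTensorTensorComm_tmul]
      rfl
  let b : Module.Basis M T (T ⊗[S] B) := Algebra.TensorProduct.basis T
    ((MonoidAlgebra.basis M S).map (e : B ≃ₐ[S] MonoidAlgebra S M).toLinearEquiv.symm)
  have hb : ⇑b = ⇑θ := funext fun m => by
    show b m = (1 : T) ⊗ₜ[S] e' (MonoidAlgebra.single m 1)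
    simp [b, e']
    rfl
  exact isDiag_of_hom θ hgl (by rw [← hb]; exact b.span_eq)
    (by rw [← hb]; exact b.linearIndependent.linearIndepOn_id)

/-- Group-like elements of a Hopf algebra are invertible. -/
lemma isUnit_of_isGroupLikeElem {K : Type*} [CommRing K] {B : Type*} [CommRing B] [HopfAlgebra K B] {g : B}
    (hg : IsGroupLikeElem K g) : IsUnit g := by
  have h := HopfAlgebra.mul_antipode_rTensor_comul_apply (R := K) g
  rw [hg.comul_eq_tmul_self, hg.counit_eq_one, map_one, LinearMap.rTensor_tmul, LinearMap.mul'_apply] at h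
  exact IsUnit.of_mul_eq_one_right _ h

/-- Over a field, a Hopf algebra generated by group-like elements is diagonalisable. -/
lemma isDiag_of_adjoin_groupLike {K : Type u} [Field K] {B : Type u} [CommRing B] [HopfAlgebra K B]
    (h : Algebra.adjoin K {x : B | IsGroupLikeElem K x} = ⊤) : IsDiag K B := by
  let H : Subgroup Bˣ :=
    { carrier := {u | IsGroupLikeElem K (u : B)}
      one_mem' := IsGroupLikeElem.one
      mul_mem' := fun ha hb => by simpa using ha.mul hb
      inv_mem' := fun ha => IsGroupLikeElem.unitsInv ha }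
  let θ : H →* B := (Units.coeHom B).comp H.subtype
  refine isDiag_of_hom θ (fun m => m.2) ?_
    (linearIndepOn_isGroupLikeElem.mono (by rintro _ ⟨m, rfl⟩; exact m.2))
  have hle : Subalgebra.toSubmodule (Algebra.adjoin K {x : B | IsGroupLikeElem K x}) ≤
      Submodule.span K (Set.range θ) := by
    rw [Algebra.adjoin_eq_span]
    refine Submodule.span_mono fun x hx => ?_
    have hx' : IsGroupLikeElem K x := by
      induction hx using Submonoid.closure_induction with
      | mem y hy => exact hy
      | one => exact IsGroupLikeElem.one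
      | mul a b _ _ ha hb => exact ha.mul hb
    exact ⟨⟨(isUnit_of_isGroupLikeElem hx').unit, by
      show IsGroupLikeElem K ((isUnit_of_isGroupLikeElem hx').unit : B)
      rw [IsUnit.unit_spec]; exact hx'⟩, (isUnit_of_isGroupLikeElem hx').unit_spec⟩
  rw [h, Algebra.top_toSubmodule, top_le_iff] at hle
  exact hle

variable {R : Type u} [CommRing R] {A : Type u} [CommRing A] [Bialgebra R A]

/-- The counit with coefficients in `S`. -/
noncomputable def jε (S : Type u) [CommRing S] [Algebra R S] : S ⊗[R] A →ₐ[S] S :=
  Algebra.TensorProduct.lift (AlgHom.id S S) ((Algebra.ofId R S).comp (Bialgebra.counitAlgHom R A))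
    fun _ _ => Commute.all _ _

lemma jε_eq (S : Type u) [CommRing S] [Algebra R S] (x : S ⊗[R] A) :
    jε S x = Coalgebra.counit (R := S) x := by
  induction x using TensorProduct.induction_on with
  | zero => simp
  | tmul s a => simp [jε, Algebra.smul_def, mul_comm]
  | add a b ha hb => rw [map_add, map_add, ha, hb]

lemma isGroupLikeElem_iff {S : Type u} [CommRing S] [Algebra R S] (x : S ⊗[R] A) :
    IsGroupLikeElem S x ↔ jε S x = 1 ∧ jΔ S x = j₁ S x * j₂ S x := by
  rw [_root_.isGroupLikeElem_iff, jε_eq, ← kap_comul, ← kap_tmul, (kap S).injective.eq_iff]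

/-- Group-like elements are preserved by change of coefficients, and reflected by injective ones. -/
lemma isGroupLikeElem_map {S T : Type u} [CommRing S] [Algebra R S] [CommRing T] [Algebra R T]
    (f : S →ₐ[R] T) {x : S ⊗[R] A} (hx : IsGroupLikeElem S x) :
    IsGroupLikeElem T (Algebra.TensorProduct.map f (AlgHom.id R A) x) := by
  rw [isGroupLikeElem_iff] at hx ⊢
  have nat : ∀ (g : A →ₐ[R] A ⊗[R] A) (x : S ⊗[R] A),
      Algebra.TensorProduct.map (AlgHom.id T T) g (Algebra.TensorProduct.map f (AlgHom.id R A) x) =
      Algebra.TensorProduct.map f (AlgHom.id R (A ⊗[R] A)) (Algebra.TensorProduct.map (AlgHom.id S S) g x) := by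
    intro g x
    induction x using TensorProduct.induction_on with
    | zero => simp
    | tmul s a => simp
    | add a b ha hb => simp only [map_add, ha, hb]
  have natε : ∀ x : S ⊗[R] A, jε T (Algebra.TensorProduct.map f (AlgHom.id R A) x) = f (jε S x) := by
    intro x
    induction x using TensorProduct.induction_on with
    | zero => simp
    | tmul s a => simp [jε]
    | add a b ha hb => simp only [map_add, ha, hb]
  refine ⟨by rw [natε, hx.1, map_one], ?_⟩
  unfold jΔ j₁ j₂ at hx ⊢
  rw [nat, nat, nat, hx.2, map_mul]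

lemma isGroupLikeElem_of_map {S T : Type u} [CommRing S] [Algebra R S] [CommRing T] [Algebra R T]
    (f : S →ₐ[R] T) (hf : Function.Injective f)
    (hf2 : Function.Injective (Algebra.TensorProduct.map f (AlgHom.id R (A ⊗[R] A))))
    {x : S ⊗[R] A} (hx : IsGroupLikeElem T (Algebra.TensorProduct.map f (AlgHom.id R A) x)) :
    IsGroupLikeElem S x := by
  rw [isGroupLikeElem_iff] at hx ⊢
  have nat : ∀ (g : A →ₐ[R] A ⊗[R] A) (x : S ⊗[R] A),
      Algebra.TensorProduct.map (AlgHom.id T T) g (Algebra.TensorProduct.map f (AlgHom.id R A) x) =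
      Algebra.TensorProduct.map f (AlgHom.id R (A ⊗[R] A)) (Algebra.TensorProduct.map (AlgHom.id S S) g x) := by
    intro g x
    induction x using TensorProduct.induction_on with
    | zero => simp
    | tmul s a => simp
    | add a b ha hb => simp only [map_add, ha, hb]
  have natε : ∀ x : S ⊗[R] A, jε T (Algebra.TensorProduct.map f (AlgHom.id R A) x) = f (jε S x) := by
    intro x
    induction x using TensorProduct.induction_on with
    | zero => simp
    | tmul s a => simp [jε]
    | add a b ha hb => simp only [map_add, ha, hb]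
  refine ⟨hf (by rw [← natε, hx.1, map_one]), hf2 ?_⟩
  unfold jΔ j₁ j₂ at hx ⊢
  rw [map_mul, ← nat, ← nat, ← nat, hx.2]

/-- Congruent group-like elements of a diagonalisable bialgebra are equal. -/
lemma groupLike_eq_of_nil {T : Type u} [CommRing T] {B : Type u} [CommRing B] [HopfAlgebra T B]
    (hB : IsDiag T B) {x y : B} (hx : IsGroupLikeElem T x) (hy : IsGroupLikeElem T y)
    (K : Ideal T) (hK : K ≤ nilradical T) (h : x - y ∈ Ideal.map (algebraMap T B) K) : x = y := by
  classical
  obtain ⟨M, _, ⟨e⟩⟩ := hB
  have hid : ∀ z : B, IsGroupLikeElem T z → ∀ m, (e z).coeff m * (e z).coeff m = (e z).coeff m := by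
    intro z hz m
    let c := (MonoidAlgebra.basis M T).coord m
    have hT : LinearMap.mul' T T ∘ₗ TensorProduct.map c c ∘ₗ Coalgebra.comul = c :=
      (MonoidAlgebra.basis M T).ext fun k => by
        simp [c, coord_single, -Module.Basis.coord_apply]
        tauto
    have h1 := congr($hT (e z))
    rw [LinearMap.comp_apply, LinearMap.comp_apply, (hz.map e).comul_eq_tmul_self, TensorProduct.map_tmul,
      LinearMap.mul'_apply] at h1
    exact h1
  apply EquivLike.injective e
  refine MonoidAlgebra.ext (Finsupp.ext fun m => ?_)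
  have h2 := Ideal.mem_map_of_mem (e : B →ₐc[T] MonoidAlgebra T M) h
  have hle : Ideal.map (e : B →ₐc[T] MonoidAlgebra T M) (Ideal.map (algebraMap T B) K) ≤
      Ideal.map (algebraMap T (MonoidAlgebra T M)) K :=
    Ideal.map_le_iff_le_comap.2 (Ideal.map_le_iff_le_comap.2 fun r hr => by
      show e (algebraMap T B r) ∈ Ideal.map (algebraMap T (MonoidAlgebra T M)) K
      rw [AlgHomClass.commutes]
      exact Ideal.mem_map_of_mem _ hr)
  have h3' := mem_map_single_iff.1 (hle h2) m
  rw [map_sub, MonoidAlgebra.coeff_sub, Finsupp.sub_apply] at h3'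
  have h3 : (e x).coeff m - (e y).coeff m ∈ K := h3'
  obtain ⟨n, hn⟩ := mem_nilradical.1 (hK h3)
  set a := (e x).coeff m
  set b := (e y).coeff m
  have ha := hid x hx m
  have hb := hid y hy m
  have hcube : (a - b) ^ 3 = a - b := by
    linear_combination (a + 1 - 3 * b) * ha - (b + 1 - 3 * a) * hb
  have hp : ∀ k : ℕ, a - b = (a - b) ^ (2 * k + 1) := by
    intro k
    induction k with
    | zero => simp
    | succ k ih =>
      rw [show 2 * (k + 1) + 1 = 2 * k + 1 + 2 by ring, pow_add, ← ih, ← pow_succ']
      exact hcube.symm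
  have h4 := hp n
  rw [show 2 * n + 1 = n + (n + 1) by ring, pow_add, hn, zero_mul, sub_eq_zero] at h4
  exact h4

end Groth.Agent.MultType
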