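import Groth.Agent.MultType.Coef

/-!
Charts of a Hopf algebra of multiplicative type.
-/

universe u

open TensorProduct SGA3b
open scoped TensorProduct

namespace Groth.Agent.MultType

variable (R : Type u) [CommRing R] (A : Type u) [CommRing A] [HopfAlgebra R A]

/-- A diagonalisation of `A` over a faithfully flat algebra over `Localization.Away f`. -/
structure Chart where
  f : R
  R' : Type u
  [ring : CommRing R']
  [algebra : Algebra R R']
  [algebraL : Algebra (Localization.Away f) R']
  [tower : IsScalarTower R (Localization.Away f) R']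
  [ff : Module.FaithfullyFlat (Localization.Away f) R']
  M : Type u
  [grp : CommGroup M]
  e : (R' ⊗[R] A) ≃ₐc[R'] MonoidAlgebra R' M

attribute [instance] Chart.ring Chart.algebra Chart.algebraL Chart.tower Chart.ff Chart.grp

variable {R A}

/-- Iterated base change of a bialgebra. -/
noncomputable def cbc {A : Type u} [CommRing A] [Bialgebra R A] (L R' : Type u) [CommRing L]
    [CommRing R'] [Algebra R L] [Algebra R R'] [Algebra L R'] [IsScalarTower R L R'] :
    R' ⊗[L] (L ⊗[R] A) ≃ₐc[R'] R' ⊗[R] A :=
  BialgEquiv.ofAlgEquiv (Algebra.TensorProduct.cancelBaseChange R L R' R' A)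
    (by
      ext a
      simp [← Algebra.algebraMap_eq_smul_one, ← IsScalarTower.algebraMap_apply])
    (by
      ext a
      simp [← (Coalgebra.Repr.arbitrary R a).eq, TensorProduct.tmul_sum,
        Algebra.TensorProduct.one_def])

/-- The data of `IsMultType`, as charts. -/
lemma exists_charts (hA : IsMultType R A) :
    ∃ s : Set R, Ideal.span s = ⊤ ∧ ∀ f ∈ s, ∃ c : Chart R A, c.f = f := by
  obtain ⟨s, hs, h⟩ := hA
  refine ⟨s, hs, fun f hf => ?_⟩
  obtain ⟨R', _, _, hff, M, _, ⟨e⟩⟩ := h f hf
  letI : Algebra R R' :=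
    ((algebraMap (Localization.Away f) R').comp (algebraMap R (Localization.Away f))).toAlgebra
  haveI : IsScalarTower R (Localization.Away f) R' := IsScalarTower.of_algebraMap_eq' rfl
  exact ⟨{ f := f, R' := R', M := M, e := (cbc (R := R) (A := A) (Localization.Away f) R').symm.trans e }, rfl⟩

namespace Chart

variable (c : Chart R A)

instance flat : Module.Flat R c.R' :=
  haveI : Module.Flat R (Localization.Away c.f) := IsLocalization.flat _ (Submonoid.powers c.f)
  Module.Flat.trans R (Localization.Away c.f) c.R'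

/-- An element killed by `c.R' ⊗ -` is killed by a power of `c.f`. -/
lemma exists_pow_smul_eq_zero {N : Type*} [AddCommGroup N] [Module R N] {x : N}
    (h : (1 : c.R') ⊗ₜ[R] x = 0) : ∃ n : ℕ, c.f ^ n • x = 0 := by
  let L := Localization.Away c.f
  have h1 : (1 : c.R') ⊗ₜ[L] ((1 : L) ⊗ₜ[R] x) = 0 := by
    apply (TensorProduct.AlgebraTensorModule.cancelBaseChange R L c.R' c.R' N).injective
    simpa using h
  have h2 : (1 : L) ⊗ₜ[R] x = 0 := by
    refine Module.FaithfullyFlat.tensorProduct_mk_injective (A := L) (B := c.R') (L ⊗[R] N) ?_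
    simpa using h1
  obtain ⟨⟨_, n, rfl⟩, hn⟩ := (IsLocalizedModule.eq_zero_iff (Submonoid.powers c.f)
    (TensorProduct.mk R L N 1)).1 h2
  exact ⟨n, hn⟩

lemma eq_zero_of_isUnit (hu : IsUnit c.f) {N : Type*} [AddCommGroup N] [Module R N] {x : N}
    (h : (1 : c.R') ⊗ₜ[R] x = 0) : x = 0 := by
  obtain ⟨n, hn⟩ := c.exists_pow_smul_eq_zero h
  exact (hu.pow n).smul_eq_zero.1 hn

lemma faithfullyFlat (hu : IsUnit c.f) : Module.FaithfullyFlat R c.R' := by
  haveI : Module.FaithfullyFlat R (Localization.Away c.f) := by
    have hb : Function.Bijective (algebraMap R (Localization.Away c.f)) :=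
      (IsLocalization.atUnits R (Submonoid.powers c.f)
        (by rintro x ⟨n, rfl⟩; exact hu.pow n)).bijective
    exact Module.FaithfullyFlat.of_linearEquiv R R
      (LinearEquiv.ofBijective (Algebra.linearMap R (Localization.Away c.f)) hb).symm
  exact Module.FaithfullyFlat.trans R (Localization.Away c.f) c.R'

/-- Coefficients of the chart. -/
noncomputable abbrev coef (m : c.M) : A →ₗ[R] c.R' := MultType.coef c.e m

end Chart

lemma eq_zero_of_charts {s : Set R} (hs : Ideal.span s = ⊤)
    {N : Type*} [AddCommGroup N] [Module R N] {x : N}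
    (h : ∀ f ∈ s, ∃ n : ℕ, f ^ n • x = 0) : x = 0 := by
  have hann : (Ideal.span s : Ideal R) ≤ (Submodule.span R {x}).annihilator.radical :=
    Ideal.span_le.2 fun f hf => by
      obtain ⟨n, hn⟩ := h f hf
      exact ⟨n, (Submodule.mem_annihilator_span_singleton _ _).2 hn⟩
  rw [hs, top_le_iff, Ideal.radical_eq_top, Ideal.eq_top_iff_one,
    Submodule.mem_annihilator_span_singleton, one_smul] at hann
  exact hann

/-- An element of a module vanishes as soon as it vanishes on every chart. -/
lemma eq_zero_of_forall_chart (hA : IsMultType R A) {N : Type*} [AddCommGroup N] [Module R N] {x : N}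
    (h : ∀ c : Chart R A, (1 : c.R') ⊗ₜ[R] x = 0) : x = 0 := by
  obtain ⟨s, hs, hc⟩ := exists_charts hA
  refine eq_zero_of_charts hs fun f hf => ?_
  obtain ⟨c, rfl⟩ := hc f hf
  exact c.exists_pow_smul_eq_zero (h c)

/-- An element of `A` vanishes as soon as all its coefficients in all charts vanish. -/
lemma eq_zero_of_coef (hA : IsMultType R A) {x : A}
    (h : ∀ (c : Chart R A) (m : c.M), c.coef m x = 0) : x = 0 :=
  eq_zero_of_forall_chart hA fun c => tmul_eq_zero c.e (h c)

/-- Over a local ring there is a chart faithfully flat over the base. -/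
lemma exists_ff_chart [IsLocalRing R] (hA : IsMultType R A) :
    ∃ c : Chart R A, IsUnit c.f := by
  obtain ⟨s, hs, hc⟩ := exists_charts hA
  obtain ⟨f, hf, hfu⟩ : ∃ f ∈ s, IsUnit f := by
    by_contra! hn
    have : Ideal.span s ≤ IsLocalRing.maximalIdeal R :=
      Ideal.span_le.2 fun f hf => by simpa using hn f hf
    rw [hs, top_le_iff] at this
    exact (IsLocalRing.maximalIdeal.isMaximal R).ne_top this
  obtain ⟨c, rfl⟩ := hc f hf
  exact ⟨c, hfu⟩

/-- Over a ring which is one chart. -/
lemma isMultType_of_ff (R' : Type u) [CommRing R'] [Algebra R R'] [Module.FaithfullyFlat R R']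
    (hd : IsDiag R' (R' ⊗[R] A)) : IsMultType R A := by
  refine ⟨{1}, Ideal.span_singleton_one, fun f hf => ?_⟩
  obtain rfl : f = 1 := hf
  let L := Localization.Away (1 : R)
  let φ : L →+* R' :=
    IsLocalization.Away.lift (1 : R) (g := algebraMap R R') (by rw [map_one]; exact isUnit_one)
  letI : Algebra L R' := φ.toAlgebra
  haveI : IsScalarTower R L R' := IsScalarTower.of_algebraMap_eq' (IsLocalization.Away.lift_comp _ _).symm
  have hb : Function.Bijective (algebraMap R L) :=
    (IsLocalization.atUnits R (Submonoid.powers (1 : R))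
      (by rintro x ⟨n, rfl⟩; simp)).bijective
  have hff : Module.FaithfullyFlat L R' := by
    haveI : Module.Flat L R' := by
      rw [Module.flat_iff_of_isLocalization L (Submonoid.powers (1 : R))]
      exact inferInstance
    refine { submodule_ne_top := fun {m} hm h => ?_ }
    have hm' : (m.comap (algebraMap R L)).IsMaximal :=
      Ideal.comap_isMaximal_of_surjective _ hb.2
    apply Module.FaithfullyFlat.submodule_ne_top (M := R') hm'
    have he : ((m.comap (algebraMap R L)) • (⊤ : Submodule R R') : Submodule R R') =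
        ((m • (⊤ : Submodule L R')).restrictScalars R) := by
      rw [Ideal.smul_top_eq_map, Ideal.smul_top_eq_map, IsScalarTower.algebraMap_eq R L R',
        ← Ideal.map_map, Ideal.map_comap_of_surjective _ hb.2]
      rfl
    rw [he, h]
    rfl
  obtain ⟨M, _, ⟨e⟩⟩ := hd
  exact ⟨R', _, _, hff, M, _, ⟨(cbc (R := R) (A := A) L R').trans e⟩⟩

end Groth.Agent.MultType
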