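import Groth.Agent.MultType.BaseChange

/-!
Groups of multiplicative type are commutative and flat.
-/

universe u

open TensorProduct SGA3b
open scoped TensorProduct

namespace Groth.Agent.MultType

variable {R : Type u} [CommRing R] {A : Type u} [CommRing A] [HopfAlgebra R A]

/-- A group of multiplicative type is commutative. -/
theorem isCocomm_of_isMultType (h : IsMultType R A) : Coalgebra.IsCocomm R A := by
  refine ⟨LinearMap.ext fun a => ?_⟩
  show TensorProduct.comm R A A (Coalgebra.comul a) = Coalgebra.comul a
  refine sub_eq_zero.1 (eq_zero_of_forall_chart h fun c => ?_)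
  let S := c.R'
  let T : S ⊗[R] (A ⊗[R] A) →ₐ[S] S ⊗[R] (A ⊗[R] A) :=
    Algebra.TensorProduct.map (AlgHom.id S S) (Algebra.TensorProduct.comm R A A).toAlgHom
  have h1 : ∀ z, T (j₁ (R := R) (A := A) S z) = j₂ S z := by
    intro z
    induction z using TensorProduct.induction_on with
    | zero => simp
    | tmul s b => simp [T, j₁, j₂]
    | add p q hp hq => simp only [map_add, hp, hq]
  have h2 : ∀ z, T (j₂ (R := R) (A := A) S z) = j₁ S z := by
    intro z
    induction z using TensorProduct.induction_on with
    | zero => simp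
    | tmul s b => simp [T, j₁, j₂]
    | add p q hp hq => simp only [map_add, hp, hq]
  have h3 : ∀ z, T (jΔ (R := R) (A := A) S z) = jΔ S z := by
    intro z
    obtain ⟨w, rfl⟩ : ∃ w, c.e.symm w = z := ⟨c.e z, c.e.symm_apply_apply z⟩
    induction w using MonoidAlgebra.induction_linear with
    | zero => simp
    | add p q hp hq => simp only [map_add, hp, hq]
    | single m r =>
      rw [show (MonoidAlgebra.single m r : MonoidAlgebra c.R' c.M) = r • MonoidAlgebra.single m 1 by simp,
        map_smul, map_smul, map_smul]
      congr 1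
      rw [((isGroupLikeElem_iff _).1 ((MonoidAlgebra.isGroupLikeElem_single_one m).map c.e.symm)).2, map_mul, h1, h2,
        mul_comm]
  rw [TensorProduct.tmul_sub, sub_eq_zero]
  have h4 := h3 ((1 : S) ⊗ₜ[R] a)
  simp [T, jΔ] at h4
  exact h4

/-- A group of multiplicative type is flat. -/
theorem flat_of_isMultType (h : IsMultType R A) : Module.Flat R A := by
  rw [Module.Flat.iff_lTensor_preserves_injective_linearMap]
  intro N N' _ _ _ _ f hf
  rw [injective_iff_map_eq_zero]
  intro z hz
  refine eq_zero_of_forall_chart h fun c => ?_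
  haveI : Module.Free c.R' (c.R' ⊗[R] A) := Module.Free.of_basis ((MonoidAlgebra.basis c.M c.R').map
    (c.e : (c.R' ⊗[R] A) ≃ₐ[c.R'] MonoidAlgebra c.R' c.M).toLinearEquiv.symm)
  let L := Localization.Away c.f
  haveI : Module.Flat R L := IsLocalization.flat L (Submonoid.powers c.f)
  haveI : Module.Flat R c.R' := Module.Flat.trans R L c.R'
  haveI : Module.Flat R (c.R' ⊗[R] A) := Module.Flat.trans R c.R' (c.R' ⊗[R] A)
  have hinj : Function.Injective (f.lTensor (c.R' ⊗[R] A)) :=
    Module.Flat.lTensor_preserves_injective_linearMap f hf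
  apply (TensorProduct.assoc R c.R' A N).symm.injective
  rw [map_zero]
  apply hinj
  rw [map_zero]
  have key : ∀ w : A ⊗[R] N, f.lTensor (c.R' ⊗[R] A) ((TensorProduct.assoc R c.R' A N).symm ((1 : c.R') ⊗ₜ w)) =
      (TensorProduct.assoc R c.R' A N').symm ((1 : c.R') ⊗ₜ f.lTensor A w) := by
    intro w
    induction w using TensorProduct.induction_on with
    | zero => simp
    | tmul b n => simp
    | add p q hp hq => simp only [TensorProduct.tmul_add, map_add, hp, hq]
  rw [key, hz, TensorProduct.tmul_zero, map_zero]

end Groth.Agent.MultType
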