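import Groth.Agent.MultType.Torsion

/-!
Fibres of closed subgroups of groups of multiplicative type.
-/

universe u v

open TensorProduct WithConv MonoidAlgebra SGA3b
open scoped TensorProduct

namespace Groth.Agent.MultType

variable {R : Type u} [CommRing R] {A : Type u} [CommRing A] [HopfAlgebra R A]

/-- A closed subgroup of a group of multiplicative type is diagonalisable at each field-valued
point of a chart. -/
lemma isDiag_baseChange_quot (c : Chart R A) (K : Type u) [Field K] [Algebra R K] [Algebra c.R' K]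
    [IsScalarTower R c.R' K] (J : Ideal A) [J.IsHopfIdeal R] : IsDiag K (K ⊗[R] (A ⧸ J)) := by
  let e' : K ⊗[c.R'] (c.R' ⊗[R] A) ≃ₐc[K] K ⊗[R] A := cbc (R := R) (A := A) c.R' K
  let π : K ⊗[R] A →ₐc[K] K ⊗[R] (A ⧸ J) :=
    Bialgebra.TensorProduct.map (BialgHom.id K K) (Bialgebra.Quotient.mkBialgHom J)
  let G : K ⊗[c.R'] MonoidAlgebra c.R' c.M →ₐc[K] K ⊗[R] (A ⧸ J) :=
    (π.comp (e' : K ⊗[c.R'] (c.R' ⊗[R] A) →ₐc[K] K ⊗[R] A)).comp
      (Bialgebra.TensorProduct.map (BialgHom.id K K)
        (c.e.symm : MonoidAlgebra c.R' c.M →ₐc[c.R'] c.R' ⊗[R] A))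
  let θ : c.M →* K ⊗[R] (A ⧸ J) :=
    { toFun := fun m => G (1 ⊗ₜ MonoidAlgebra.single m 1)
      map_one' := by rw [← MonoidAlgebra.one_def, ← Algebra.TensorProduct.one_def, map_one]
      map_mul' := fun a b => by
        rw [← map_mul, Algebra.TensorProduct.tmul_mul_tmul, MonoidAlgebra.single_mul_single]
        simp }
  have hgl : ∀ m, IsGroupLikeElem K (θ m) := fun m =>
    IsGroupLikeElem.map G ⟨by simp, by simp⟩
  refine isDiag_of_hom θ hgl (eq_top_iff.2 fun z _ => ?_)
    (linearIndepOn_isGroupLikeElem.mono (by rintro _ ⟨m, rfl⟩; exact hgl m))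
  have key : ∀ y, G (1 ⊗ₜ y) ∈ Submodule.span K (Set.range θ) := by
    intro y
    induction y using MonoidAlgebra.induction_linear with
    | zero => simp
    | add a b ha hb => rw [TensorProduct.tmul_add, map_add]; exact Submodule.add_mem _ ha hb
    | single m r =>
      have : (1 : K) ⊗ₜ[c.R'] (MonoidAlgebra.single m r : MonoidAlgebra c.R' c.M) =
          (algebraMap c.R' K r) • ((1 : K) ⊗ₜ[c.R'] MonoidAlgebra.single m 1) := by
        rw [show (MonoidAlgebra.single m r : MonoidAlgebra c.R' c.M) = r • MonoidAlgebra.single m 1 by simp,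
          TensorProduct.tmul_smul, algebraMap_smul]
      rw [this, map_smul]
      exact Submodule.smul_mem _ _ (Submodule.subset_span ⟨m, rfl⟩)
  induction z using TensorProduct.induction_on with
  | zero => exact Submodule.zero_mem _
  | add a b ha hb => exact Submodule.add_mem _ (ha trivial) (hb trivial)
  | tmul x a =>
    obtain ⟨a, rfl⟩ := Ideal.Quotient.mk_surjective a
    have h1 : G (1 ⊗ₜ c.e (1 ⊗ₜ a)) = (1 : K) ⊗ₜ[R] Ideal.Quotient.mk J a := by
      have h2 : c.e.symm (c.e ((1 : c.R') ⊗ₜ[R] a)) = (1 : c.R') ⊗ₜ[R] a := c.e.symm_apply_apply _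
      show π (e' ((1 : K) ⊗ₜ c.e.symm (c.e ((1 : c.R') ⊗ₜ[R] a)))) = _
      rw [h2]
      simp [e', π, cbc]
    rw [show x ⊗ₜ[R] Ideal.Quotient.mk J a = x • ((1 : K) ⊗ₜ[R] Ideal.Quotient.mk J a) by
      simp [TensorProduct.smul_tmul'], ← h1]
    exact Submodule.smul_mem _ _ (key _)

/-- The kernel of the `n`-th power map is finite over the base. -/
lemma finite_quot_torsionIdeal (hA : IsMultType R A) (hft : Algebra.FiniteType R A) (n : ℕ) (hn : 0 < n) :
    Module.Finite R (A ⧸ torsionIdeal R A n) := by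
  refine finite_of_charts hA fun c => ?_
  rcases subsingleton_or_nontrivial c.R' with _ | _
  · haveI : Subsingleton (c.R' ⊗[R] (A ⧸ torsionIdeal R A n)) := Module.subsingleton c.R' _
    infer_instance
  set T := c.R' ⊗[R] (A ⧸ torsionIdeal R A n)
  let ee : (c.R' ⊗[R] A) ≃ₐ[c.R'] MonoidAlgebra c.R' c.M :=
    (c.e : (c.R' ⊗[R] A) ≃ₐ[c.R'] MonoidAlgebra c.R' c.M)
  let G : MonoidAlgebra c.R' c.M →ₐ[c.R'] T :=
    (Algebra.TensorProduct.map (AlgHom.id c.R' c.R') (Ideal.Quotient.mkₐ R (torsionIdeal R A n))).comp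
      ee.symm.toAlgHom
  have hG : ∀ a, G (emb c.e a) = (1 : c.R') ⊗ₜ Ideal.Quotient.mk _ a := fun a => by
    show Algebra.TensorProduct.map _ _ (ee.symm (ee ((1 : c.R') ⊗ₜ a))) = _
    rw [ee.symm_apply_apply]
    simp
  have hGs : Function.Surjective G :=
    (LinearMap.lTensor_surjective c.R' (g := (Ideal.Quotient.mkₐ R (torsionIdeal R A n)).toLinearMap)
      Ideal.Quotient.mk_surjective).comp ee.symm.surjective
  have h : G.comp (pw n) = (Algebra.ofId c.R' T).comp (Bialgebra.counitAlgHom c.R' _) :=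
    algHom_ext_emb c.e fun a => by
      show G (pw n (emb c.e a)) = algebraMap c.R' T (Coalgebra.counit (R := c.R') (emb c.e a))
      rw [← emb_powConv, hG, counit_emb, ← IsScalarTower.algebraMap_apply,
        Ideal.Quotient.eq.2 (powConv_sub_mem n a), Ideal.Quotient.mk_algebraMap,
        ← Algebra.TensorProduct.includeRight_apply, AlgHom.commutes]
  haveI := fg_of_finiteType hft c.e
  let P : Subgroup c.M := (powMonoidHom n : c.M →* c.M).range
  haveI : Group.FG (c.M ⧸ P) := QuotientGroup.fg P
  haveI : Finite (c.M ⧸ P) := CommGroup.finite_of_fg_torsion _ fun x => by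
    induction x using QuotientGroup.induction_on with
    | H k => exact isOfFinOrder_iff_pow_eq_one.2 ⟨n, hn, (QuotientGroup.eq_one_iff _).2 ⟨k, rfl⟩⟩
  refine ⟨(Set.finite_range fun x : c.M ⧸ P => G (single x.out 1)).toFinset, ?_⟩
  rw [Set.Finite.coe_toFinset, eq_top_iff]
  rintro z -
  obtain ⟨y, rfl⟩ := hGs z
  induction y using MonoidAlgebra.induction_linear with
  | zero => simp
  | add a b ha hb => rw [map_add]; exact Submodule.add_mem _ ha hb
  | single m r =>
    rw [show (single m r : MonoidAlgebra c.R' c.M) = r • single m 1 by simp, map_smul]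
    refine Submodule.smul_mem _ _ (Submodule.subset_span ⟨(m : c.M ⧸ P), ?_⟩)
    obtain ⟨⟨_, k, rfl⟩, hk⟩ := QuotientGroup.mk_out_eq_mul P m
    show G (single (Quotient.out (m : c.M ⧸ P)) 1) = _
    have h1 : G (single (k ^ n) 1) = 1 := by simpa using congr($h (single k 1))
    rw [hk, show (m : c.M) * powMonoidHom n k = m * k ^ n from rfl,
      show (single (m * k ^ n) 1 : MonoidAlgebra c.R' c.M) = single m 1 * single (k ^ n) 1 by simp,
      map_mul, h1, _root_.mul_one]

lemma map_powConv {B : Type u} [CommRing B] [HopfAlgebra R B] (π : A →ₐc[R] B) (n : ℕ) (a : A) :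
    π (powConv R A n a) = powConv R B n (π a) := by
  induction n generalizing a with
  | zero =>
    have e0 : ∀ {B : Type u} [CommRing B] [HopfAlgebra R B] (b : B),
        powConv R B 0 b = algebraMap R B (Coalgebra.counit b) := by
      intro B _ _ b; rw [powConv, pow_zero, AlgHom.convOne_apply]
    rw [e0, e0, AlgHomClass.commutes, CoalgHomClass.counit_comp_apply]
  | succ n ih =>
    have h1 : ∀ {B : Type u} [CommRing B] [HopfAlgebra R B] (b : B), powConv R B (n + 1) b =
        ∑ i ∈ (Coalgebra.Repr.arbitrary R b).index,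
          powConv R B n ((Coalgebra.Repr.arbitrary R b).left i) * (Coalgebra.Repr.arbitrary R b).right i := by
      intro B _ _ b
      rw [powConv, pow_succ, AlgHom.convMul_apply, ← (Coalgebra.Repr.arbitrary R b).eq, map_sum]
      rfl
    have h2 : powConv R B (n + 1) (π a) =
        ∑ i ∈ (Coalgebra.Repr.arbitrary R a).index,
          powConv R B n (π ((Coalgebra.Repr.arbitrary R a).left i)) * π ((Coalgebra.Repr.arbitrary R a).right i) := by
      have hr : ∑ i ∈ (Coalgebra.Repr.arbitrary R a).index,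
          π ((Coalgebra.Repr.arbitrary R a).left i) ⊗ₜ[R] π ((Coalgebra.Repr.arbitrary R a).right i) =
            Coalgebra.comul (π a) :=
        ((Coalgebra.Repr.arbitrary R a).induced (π : A →ₗc[R] B)).eq
      rw [powConv, pow_succ, AlgHom.convMul_apply, ← hr, map_sum]
      rfl
    rw [h1, map_sum, h2]
    exact Finset.sum_congr rfl fun i _ => by rw [map_mul, ih]

/-- A finitely generated group with no nonzero additive character into a field is finite. -/
lemma finite_of_hom_eq_zero {N : Type*} [CommGroup N] [Group.FG N] (K : Type*) [Field K]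
    (h : ∀ θ : N →* Multiplicative K, θ = 1) : Finite N := by
  haveI : AddGroup.FG (Additive N) := inferInstance
  haveI : Module.Finite ℤ (Additive N) := Module.Finite.iff_addGroup_fg.2 inferInstance
  by_contra hN
  have hnt : ¬ Module.IsTorsion ℤ (Additive N) := fun ht => by
    haveI := Module.finite_of_fg_torsion (Additive N) ht
    exact hN (Finite.of_equiv _ Additive.toMul)
  let Q := Additive N ⧸ Submodule.torsion ℤ (Additive N)
  haveI : Module.Free ℤ Q := inferInstance
  have : Nontrivial Q := Submodule.Quotient.nontrivial_iff.2 fun htop =>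
    hnt fun {x} => by
      have hx : x ∈ Submodule.torsion ℤ (Additive N) := by rw [htop]; trivial
      exact hx
  let b := Module.Free.chooseBasis ℤ Q
  obtain ⟨i⟩ := b.index_nonempty
  let ψ : Additive N →+ K :=
    ((Int.castAddHom K).comp (b.coord i).toAddMonoidHom).comp (Submodule.mkQ _).toAddMonoidHom
  obtain ⟨x, hx⟩ := Submodule.Quotient.mk_surjective _ (b i)
  have h1 := congr($(h (AddMonoidHom.toMultiplicativeRight ψ)) x.toMul)
  have : ψ x = 1 := by simp [ψ, hx]
  rw [show AddMonoidHom.toMultiplicativeRight ψ x.toMul = Multiplicative.ofAdd (ψ x) from rfl, this] at h1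
  exact one_ne_zero (α := K) h1

end Groth.Agent.MultType
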