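import Groth.Agent.MultType.Cover
import Groth.Agent.Hensel.Idempotent

/-!
Homomorphisms of diagonalisable groups over a base where idempotents lift.
-/

universe u

open TensorProduct SGA3b
open scoped TensorProduct

namespace Groth.Agent.MultType

variable {R : Type u} [CommRing R] {A : Type u} [CommRing A] [HopfAlgebra R A]

/-- Group-like elements of a diagonalisable bialgebra are equal. -/
lemma groupLike_eq_of_jacobson {T : Type u} [CommRing T] {B : Type u} [CommRing B] [HopfAlgebra T B]
    (hB : IsDiag T B) {x y : B} (hx : IsGroupLikeElem T x) (hy : IsGroupLikeElem T y)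
    (K : Ideal T) (hK : K ≤ Ideal.jacobson ⊥) (h : x - y ∈ Ideal.map (algebraMap T B) K) : x = y := by
  classical
  obtain ⟨M, _, ⟨e⟩⟩ := hB
  have hid : ∀ z : B, IsGroupLikeElem T z → ∀ m, (e z).coeff m * (e z).coeff m = (e z).coeff m := by
    intro z hz m
    let c := (MonoidAlgebra.basis M T).coord m
    have hT : LinearMap.mul' T T ∘ₗ TensorProduct.map c c ∘ₗ Coalgebra.comul = c :=
      (MonoidAlgebra.basis M T).ext fun k => by
        simp [c, coord_single, -Module.Basis.coord_apply]
        tauto
    have h1 := congr($hT (e z))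
    rw [LinearMap.comp_apply, LinearMap.comp_apply, (hz.map e).comul_eq_tmul_self, TensorProduct.map_tmul,
      LinearMap.mul'_apply] at h1
    exact h1
  apply EquivLike.injective e
  refine MonoidAlgebra.ext (Finsupp.ext fun m => ?_)
  have h2 := Ideal.mem_map_of_mem (e : B →ₐc[T] MonoidAlgebra T M) h
  have hle : Ideal.map (e : B →ₐc[T] MonoidAlgebra T M) (Ideal.map (algebraMap T B) K) ≤
      Ideal.map (algebraMap T (MonoidAlgebra T M)) K :=
    Ideal.map_le_iff_le_comap.2 (Ideal.map_le_iff_le_comap.2 fun r hr => by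
      show e (algebraMap T B r) ∈ Ideal.map (algebraMap T (MonoidAlgebra T M)) K
      rw [AlgHomClass.commutes]
      exact Ideal.mem_map_of_mem _ hr)
  have h3' := mem_map_single_iff.1 (hle h2) m
  rw [map_sub, MonoidAlgebra.coeff_sub, Finsupp.sub_apply] at h3'
  have h3 : (e x).coeff m - (e y).coeff m ∈ K := h3'
  exact Hensel.idempotent_eq_of_sub_mem_jacobson (hid x hx m) (hid y hy m) (hK h3)

variable {B : Type u} [CommRing B] [HopfAlgebra R B] {C : Type u} [CommRing C] [HopfAlgebra R C]

/-- Two points congruent modulo an ideal in the radical agree, over a ring where both groups split. -/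
lemma compat_eq_of_jacobson {T : Type u} [CommRing T] [Algebra R T] (hB : IsDiag T (T ⊗[R] B))
    (hC : IsDiag T (T ⊗[R] C)) {g g' : C →ₐ[R] T ⊗[R] B} (hg : Compat g) (hg' : Compat g')
    (K : Ideal T) (hK : K ≤ Ideal.jacobson ⊥)
    (h : ∀ c, g c - g' c ∈ Ideal.map (algebraMap T (T ⊗[R] B)) K) : g = g' := by
  obtain ⟨G, hG⟩ := hg.exists_bialgHom
  obtain ⟨G', hG'⟩ := hg'.exists_bialgHom
  have hd : ∀ z, G z - G' z ∈ Ideal.map (algebraMap T (T ⊗[R] B)) K := by
    intro z
    induction z using TensorProduct.induction_on with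
    | zero => simp
    | tmul s c =>
      rw [show s ⊗ₜ[R] c = s • ((1 : T) ⊗ₜ[R] c) by simp [TensorProduct.smul_tmul'], map_smul, map_smul,
        ← smul_sub, hG, hG']
      exact Submodule.smul_of_tower_mem _ s (h c)
    | add p q hp hq =>
      rw [map_add, map_add, add_sub_add_comm]
      exact Ideal.add_mem _ hp hq
  obtain ⟨N, _, ⟨e⟩⟩ := hC
  have heq : ((G : T ⊗[R] C →ₐ[T] T ⊗[R] B).comp
      (e.symm : MonoidAlgebra T N →ₐc[T] T ⊗[R] C).toAlgHom) =
      ((G' : T ⊗[R] C →ₐ[T] T ⊗[R] B).comp (e.symm : MonoidAlgebra T N →ₐc[T] T ⊗[R] C).toAlgHom) := by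
    refine MonoidAlgebra.algHom_ext' (MonoidHom.ext fun n => ?_) (by ext)
    have hgl := (MonoidAlgebra.isGroupLikeElem_single_one (R := T) (A := T) n).map
      (e.symm : MonoidAlgebra T N →ₐc[T] T ⊗[R] C)
    exact groupLike_eq_of_jacobson hB (hgl.map G) (hgl.map G') K hK (hd _)
  refine AlgHom.ext fun c => ?_
  rw [← hG, ← hG']
  have := congr($heq (e ((1 : T) ⊗ₜ[R] c)))
  simpa using this

/-- Lifting of a point along a map lifting idempotents, over a ring where both groups split. -/
lemma exists_compat_lift_idem {T T₀ : Type u} [CommRing T] [Algebra R T] [CommRing T₀] [Algebra R T₀]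
    (π : T →ₐ[R] T₀) (hπ : Function.Surjective π) (hle : RingHom.ker π ≤ Ideal.jacobson ⊥)
    (hidem : ∀ b : T₀, IsIdempotentElem b → ∃ e : T, IsIdempotentElem e ∧ π e = b)
    (hB : IsDiag T (T ⊗[R] B)) (hC : IsDiag T (T ⊗[R] C))
    (g : C →ₐ[R] T₀ ⊗[R] B) (hg : Compat g) :
    ∃ g' : C →ₐ[R] T ⊗[R] B, Compat g' ∧ (Algebra.TensorProduct.map π (AlgHom.id R B)).comp g' = g := by
  classical
  letI : Algebra T T₀ := π.toRingHom.toAlgebra
  haveI : IsScalarTower R T T₀ := IsScalarTower.of_algebraMap_eq fun r => (π.commutes r).symm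
  obtain ⟨G, hG⟩ := hg.exists_bialgHom
  obtain ⟨M, _, ⟨eB⟩⟩ := hB
  obtain ⟨N, _, ⟨eC⟩⟩ := hC
  let q := Algebra.TensorProduct.map π (AlgHom.id R B)
  let qC := Algebra.TensorProduct.map π (AlgHom.id R C)
  let xC : N → T ⊗[R] C := fun n => eC.symm (MonoidAlgebra.single n 1)
  let γM : M → T ⊗[R] B := fun m => eB.symm (MonoidAlgebra.single m 1)
  have hlift : ∀ n, ∃ y : T ⊗[R] B, IsGroupLikeElem T y ∧ q y = G (qC (xC n)) := by
    intro n
    have hgl : IsGroupLikeElem T₀ (G (qC (xC n))) := (isGroupLikeElem_map π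
      ((MonoidAlgebra.isGroupLikeElem_single_one n).map (eC.symm : MonoidAlgebra T N →ₐc[T] T ⊗[R] C))).map G
    obtain ⟨u, hu⟩ : ∃ u : T ⊗[R] B, q u = G (qC (xC n)) := by
      induction G (qC (xC n)) using TensorProduct.induction_on with
      | zero => exact ⟨0, map_zero _⟩
      | tmul s a => obtain ⟨s, rfl⟩ := hπ s; exact ⟨s ⊗ₜ a, by simp [q]⟩
      | add p r hp hr =>
        obtain ⟨p, rfl⟩ := hp
        obtain ⟨r, rfl⟩ := hr
        exact ⟨p + r, map_add _ _ _⟩
    -- the coefficients of the image are orthogonal idempotents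
    have hγ₀ : ∀ m, IsGroupLikeElem T₀ (q (γM m)) := fun m => isGroupLikeElem_map π
      ((MonoidAlgebra.isGroupLikeElem_single_one m).map (eB.symm : MonoidAlgebra T M →ₐc[T] T ⊗[R] B))
    let e' : T ⊗[R] B ≃ₐ[T] MonoidAlgebra T M := (eB : (T ⊗[R] B) ≃ₐ[T] MonoidAlgebra T M)
    let b₀ : Module.Basis M T₀ (T₀ ⊗[R] B) :=
      (Algebra.TensorProduct.basis T₀ ((MonoidAlgebra.basis M T).map e'.toLinearEquiv.symm)).map
        (Algebra.TensorProduct.cancelBaseChange R T T₀ T₀ B).toLinearEquiv
    have hb₀ : ∀ m, b₀ m = q (γM m) := fun m => by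
      simp only [b₀, Module.Basis.map_apply, Algebra.TensorProduct.basis_apply, MonoidAlgebra.basis_apply]
      show Algebra.TensorProduct.cancelBaseChange R T T₀ T₀ B ((1 : T₀) ⊗ₜ[T] γM m) = q (γM m)
      induction γM m using TensorProduct.induction_on with
      | zero => simp
      | tmul s a =>
        rw [Algebra.TensorProduct.cancelBaseChange_tmul]
        simp [q, Algebra.smul_def]
        rfl
      | add p r hp hr => rw [TensorProduct.tmul_add, map_add, map_add, hp, hr]
    let a : M → T₀ := fun m => b₀.repr (G (qC (xC n))) m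
    have horth : ∀ i j, a i * a j = if i = j then a i else 0 := by
      intro i j
      let F : (T₀ ⊗[R] B) ⊗[T₀] (T₀ ⊗[R] B) →ₗ[T₀] T₀ :=
        LinearMap.mul' T₀ T₀ ∘ₗ TensorProduct.map (b₀.coord i) (b₀.coord j)
      have hF : F ∘ₗ Coalgebra.comul = (if i = j then (1 : T₀) else 0) • b₀.coord i := b₀.ext fun k => by
        have hc : Coalgebra.comul (b₀ k) = b₀ k ⊗ₜ[T₀] b₀ k := by rw [hb₀]; exact (hγ₀ k).comul_eq_tmul_self
        simp only [F, LinearMap.comp_apply, hc, TensorProduct.map_tmul, LinearMap.mul'_apply,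
          LinearMap.smul_apply, smul_eq_mul, Module.Basis.coord_apply, Module.Basis.repr_self,
          Finsupp.single_apply]
        split_ifs <;> simp_all
      have h := congr($hF (G (qC (xC n))))
      rw [LinearMap.comp_apply, hgl.comul_eq_tmul_self] at h
      simp [F] at h
      rw [h]
      split_ifs <;> simp [a]
    set S := (b₀.repr (G (qC (xC n)))).support with hS
    have hsum : ∑ m : S, a m = 1 := by
      have h1 : Coalgebra.counit (R := T₀) (G (qC (xC n))) = 1 := hgl.counit_eq_one
      conv_lhs at h1 => rw [← b₀.linearCombination_repr (G (qC (xC n)))]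
      rw [Finsupp.linearCombination_apply, Finsupp.sum, map_sum, ← Finset.sum_coe_sort] at h1
      simpa [hb₀, (hγ₀ _).counit_eq_one, a] using h1
    have hco : CompleteOrthogonalIdempotents fun m : S => a m :=
      { idem := fun m => by show a m * a m = a m; rw [horth, if_pos rfl]
        ortho := fun m m' hne => by
          show a m * a m' = 0
          rw [horth, if_neg fun he => hne (Subtype.ext he)]
        complete := hsum }
    choose ε hεi hεe using fun m : S => hidem (a m) (hco.idem m)
    have hεa : π.toRingHom ∘ ε = fun m : S => a m := funext hεe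
    have hε : CompleteOrthogonalIdempotents ε :=
      { idem := hεi
        ortho := fun m m' hne => by
          show ε m * ε m' = 0
          refine Hensel.idempotent_eq_of_sub_mem_jacobson ((hεi m).mul (hεi m')) IsIdempotentElem.zero
            (hle ?_)
          rw [RingHom.mem_ker, sub_zero, map_mul, hεe, hεe]
          exact hco.ortho hne
        complete := by
          refine Hensel.idempotent_eq_of_sub_mem_jacobson ?_ IsIdempotentElem.one (hle ?_)
          · exact OrthogonalIdempotents.isIdempotentElem_sum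
              ⟨hεi, fun m m' hne => Hensel.idempotent_eq_of_sub_mem_jacobson ((hεi m).mul (hεi m'))
                IsIdempotentElem.zero (hle (by
                  rw [RingHom.mem_ker, sub_zero, map_mul, hεe, hεe]
                  exact hco.ortho hne))⟩
          · rw [RingHom.mem_ker, map_sub, map_sum, map_one, Finset.sum_congr rfl fun m _ => hεe m, hsum, sub_self] }
    refine ⟨∑ m : S, ε m • γM m, ?_, ?_⟩
    · have hγ : ∀ m, IsGroupLikeElem T (γM m) := fun m =>
        (MonoidAlgebra.isGroupLikeElem_single_one m).map (eB.symm : MonoidAlgebra T M →ₐc[T] T ⊗[R] B)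
      constructor
      · simp [map_sum, (hγ _).counit_eq_one]
        simpa using hε.complete
      · simp only [map_sum, map_smul, (hγ _).comul_eq_tmul_self, TensorProduct.sum_tmul]
        refine Finset.sum_congr rfl fun m _ => ?_
        rw [TensorProduct.tmul_sum, Finset.sum_eq_single m (fun b _ hb => by
          rw [TensorProduct.smul_tmul_smul, hε.ortho (Ne.symm hb), zero_smul])
          (fun h => absurd (Finset.mem_univ m) h), TensorProduct.smul_tmul_smul, (hε.idem m).eq]
    · have hqs : ∀ (t : T) (z : T ⊗[R] B), q (t • z) = π t • q z := by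
        intro t z
        induction z using TensorProduct.induction_on with
        | zero => simp
        | tmul s a => simp [q, TensorProduct.smul_tmul']
        | add p r hp hr => simp only [smul_add, map_add, hp, hr]
      rw [map_sum]
      simp only [hqs]
      conv_rhs => rw [← b₀.linearCombination_repr (G (qC (xC n))), Finsupp.linearCombination_apply, Finsupp.sum,
        ← Finset.sum_coe_sort]
      refine Finset.sum_congr rfl fun m _ => ?_
      rw [hb₀]
      congr 1
      exact congrFun hεa m
  choose y hy hyq using hlift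
  have hBd : IsDiag T (T ⊗[R] B) := ⟨M, inferInstance, ⟨eB⟩⟩
  have hker : ∀ z, q z = 0 → z ∈ Ideal.map (algebraMap T (T ⊗[R] B)) (RingHom.ker π) := fun z hz =>
    mem_map_ker π hπ z hz
  let θ : N →* T ⊗[R] B :=
    { toFun := y
      map_one' := groupLike_eq_of_jacobson hBd (hy 1) IsGroupLikeElem.one _ hle (hker _ (by
        rw [map_sub, hyq, map_one, sub_eq_zero]
        show G (qC (eC.symm (MonoidAlgebra.single 1 1))) = 1
        rw [← MonoidAlgebra.one_def, map_one, map_one, map_one]))
      map_mul' := fun a b => groupLike_eq_of_jacobson hBd (hy (a * b)) ((hy a).mul (hy b)) _ hle (hker _ (by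
        rw [map_sub, map_mul, hyq, hyq, hyq, sub_eq_zero, ← map_mul, ← map_mul]
        simp only [xC]
        rw [← map_mul, MonoidAlgebra.single_mul_single, _root_.mul_one])) }
  let Φ' : MonoidAlgebra T N →ₐc[T] T ⊗[R] B :=
    BialgHom.ofAlgHom (MonoidAlgebra.lift T (T ⊗[R] B) N θ)
      (by ext n; simp [θ, (hy n).counit_eq_one])
      (by ext n; simp [θ, (hy n).comul_eq_tmul_self])
  let Φ : T ⊗[R] C →ₐc[T] T ⊗[R] B := Φ'.comp (eC : T ⊗[R] C →ₐc[T] MonoidAlgebra T N)
  let g' : C →ₐ[R] T ⊗[R] B :=
    ((Φ : T ⊗[R] C →ₐ[T] T ⊗[R] B).restrictScalars R).comp Algebra.TensorProduct.includeRight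
  refine ⟨g', ?_, ?_⟩
  · intro c
    have h := CoalgHomClass.map_comp_comul_apply Φ ((1 : T) ⊗ₜ[R] c)
    have h' := congr(kap (R := R) (A := B) T $h)
    rw [kap_comul, TensorProduct.comul_tmul, CommSemiring.comul_apply, ← (Coalgebra.Repr.arbitrary R c).eq] at h'
    simp only [TensorProduct.tmul_sum, map_sum, TensorProduct.AlgebraTensorModule.tensorTensorTensorComm_tmul,
      TensorProduct.map_tmul] at h'
    refine Eq.trans ?_ h'
    rw [← (Coalgebra.Repr.arbitrary R c).eq, map_sum]
    exact Finset.sum_congr rfl fun i _ => by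
      rw [Algebra.TensorProduct.lift_tmul]
      exact (kap_tmul _ _ _).symm
  · have hall : ∀ z : MonoidAlgebra T N, q (Φ' z) = G (qC (eC.symm z)) := by
      intro z
      induction z using MonoidAlgebra.induction_linear with
      | zero => simp
      | add p r hp hr => simp only [map_add, hp, hr]
      | single n t =>
        rw [show (MonoidAlgebra.single n t : MonoidAlgebra T N) =
          algebraMap T _ t * MonoidAlgebra.single n 1 by simp]
        simp only [map_mul]
        congr 1
        · rw [AlgHomClass.commutes Φ', show eC.symm (algebraMap T (MonoidAlgebra T N) t) = algebraMap T _ t from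
            AlgHomClass.commutes eC.symm t]
          have hqC : qC (algebraMap T (T ⊗[R] C) t) = algebraMap T₀ (T₀ ⊗[R] C) (π t) := by simp [qC]
          rw [hqC, AlgHomClass.commutes G]
          simp [q]
        · show q (Φ' (MonoidAlgebra.single n 1)) = G (qC (xC n))
          rw [← hyq n]
          congr 1
          simp [Φ', θ]
    refine AlgHom.ext fun c => ?_
    show q (Φ' (eC ((1 : T) ⊗ₜ[R] c))) = g c
    rw [hall]
    have h2 : eC.symm (eC ((1 : T) ⊗ₜ[R] c)) = (1 : T) ⊗ₜ[R] c := eC.symm_apply_apply _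
    rw [h2]
    simp [qC, hG]

end Groth.Agent.MultType
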