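import Groth.Agent.MultType.DescentHopf
import Groth.Agent.MultType.HomLift
import Groth.Agent.MultType.Connected

/-!
Lifting of twisted forms of a diagonalisable group along a split étale cover.
-/

universe u

open TensorProduct SGA3b
open scoped TensorProduct

namespace Groth.Agent.MultType.LiftForm

open Descent

section form

variable {R : Type u} [CommRing R] {A B : Type u} [CommRing A] [HopfAlgebra R A] [CommRing B] [HopfAlgebra R B]
  {S V W : Type u} [CommRing S] [Algebra R S] [CommRing V] [Algebra R V] [CommRing W] [Algebra R W]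

/-- The point underlying a bialgebra equivalence. -/
noncomputable abbrev kap' (e : S ⊗[R] A ≃ₐc[S] S ⊗[R] B) : A →ₐ[R] S ⊗[R] B :=
  (((e : S ⊗[R] A →ₐc[S] S ⊗[R] B) : S ⊗[R] A →ₐ[S] S ⊗[R] B).restrictScalars R).comp
    Algebra.TensorProduct.includeRight

lemma ext'_kap (e : S ⊗[R] A ≃ₐc[S] S ⊗[R] B) (z : S ⊗[R] A) : ext' (kap' e) z = e z := by
  induction z using TensorProduct.induction_on with
  | zero => simp
  | add a b ha hb => simp only [map_add, ha, hb]
  | tmul s a =>
    rw [ext'_tmul]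
    show s • e ((1 : S) ⊗ₜ a) = e (s ⊗ₜ a)
    rw [← map_smul, TensorProduct.smul_tmul', smul_eq_mul, mul_one]

lemma compat_kap (e : S ⊗[R] A ≃ₐc[S] S ⊗[R] B) : Compat (kap' e) := compat_of_bialgHom _

lemma ext'_ext' {X Y Z : Type u} [CommRing X] [Algebra R X] [CommRing Y] [Algebra R Y] [CommRing Z] [Algebra R Z]
    (k : Y →ₐ[R] S ⊗[R] Z) (f : X →ₐ[R] S ⊗[R] Y) (z : S ⊗[R] X) :
    ext' (((ext' k).restrictScalars R).comp f) z = ext' k (ext' f z) := by
  induction z using TensorProduct.induction_on with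
  | zero => simp
  | add a b ha hb => simp only [map_add, ha, hb]
  | tmul s a =>
    rw [ext'_tmul, ext'_tmul, map_smul]
    rfl

lemma compat_comp {C : Type u} [CommRing C] [HopfAlgebra R C] {k : A →ₐ[R] S ⊗[R] B} {f : C →ₐ[R] S ⊗[R] A}
    (hk : Compat k) (hf : Compat f) : Compat (((ext' k).restrictScalars R).comp f) := by
  obtain ⟨K, hK⟩ := hk.exists_bialgHom
  obtain ⟨F, hF⟩ := hf.exists_bialgHom
  have hK' : ∀ z, K z = ext' k z := by
    intro z
    induction z using TensorProduct.induction_on with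
    | zero => simp
    | add a b ha hb => simp only [map_add, ha, hb]
    | tmul s a =>
      rw [ext'_tmul, ← hK, ← map_smul, TensorProduct.smul_tmul', smul_eq_mul, mul_one]
  have h := compat_of_bialgHom (K.comp F)
  convert h using 1
  refine AlgHom.ext fun c => ?_
  show ext' k (f c) = K (F ((1 : S) ⊗ₜ c))
  rw [hF, hK']

/-- The transition map between two pullbacks of a splitting. -/
noncomputable abbrev trans (e : S ⊗[R] A ≃ₐc[S] S ⊗[R] B) (a b : S →ₐ[R] V) : B →ₐ[R] V ⊗[R] B :=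
  ((ext' ((Algebra.TensorProduct.map b (AlgHom.id R B)).comp (kap' e))).restrictScalars R).comp
    ((Algebra.TensorProduct.map a (AlgHom.id R A)).comp (kap' e.symm))

lemma compat_trans (e : S ⊗[R] A ≃ₐc[S] S ⊗[R] B) (a b : S →ₐ[R] V) : Compat (trans e a b) :=
  compat_comp ((compat_kap e).map b) ((compat_kap e.symm).map a)

lemma ext'_map_kap_symm (e : S ⊗[R] A ≃ₐc[S] S ⊗[R] B) (a : S →ₐ[R] V) (z : V ⊗[R] A) :
    ext' ((Algebra.TensorProduct.map a (AlgHom.id R A)).comp (kap' e.symm))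
      (ext' ((Algebra.TensorProduct.map a (AlgHom.id R B)).comp (kap' e)) z) = z := by
  induction z using TensorProduct.induction_on with
  | zero => simp
  | add p q hp hq => simp only [map_add, hp, hq]
  | tmul v x =>
    rw [ext'_tmul, map_smul, AlgHom.comp_apply, ext'_map, ext'_kap,
      show kap' e x = e ((1 : S) ⊗ₜ x) from rfl, e.symm_apply_apply, Algebra.TensorProduct.map_tmul, map_one,
      AlgHom.id_apply, TensorProduct.smul_tmul', smul_eq_mul, mul_one]

lemma trans_self (e : S ⊗[R] A ≃ₐc[S] S ⊗[R] B) (a : S →ₐ[R] V) (x : B) : trans e a a x = (1 : V) ⊗ₜ x := by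
  show ext' _ ((Algebra.TensorProduct.map a (AlgHom.id R A)) (e.symm ((1 : S) ⊗ₜ x))) = _
  rw [ext'_map, ext'_kap, e.apply_symm_apply]
  simp

lemma map_trans (e : S ⊗[R] A ≃ₐc[S] S ⊗[R] B) (a b : S →ₐ[R] V) (h : V →ₐ[R] W) (x : B) :
    Algebra.TensorProduct.map h (AlgHom.id R B) (trans e a b x) = trans e (h.comp a) (h.comp b) x := by
  have hmm : ∀ (X : Type u) [CommRing X] [Algebra R X] (c : S →ₐ[R] V) (z : S ⊗[R] X),
      Algebra.TensorProduct.map h (AlgHom.id R X) (Algebra.TensorProduct.map c (AlgHom.id R X) z) =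
        Algebra.TensorProduct.map (h.comp c) (AlgHom.id R X) z := by
    intro X _ _ c z
    induction z using TensorProduct.induction_on with
    | zero => simp
    | add p q hp hq => simp only [map_add, hp, hq]
    | tmul s z => simp
  show Algebra.TensorProduct.map h (AlgHom.id R B) (ext' _ _) = _
  rw [← ext'_map]
  rw [show (Algebra.TensorProduct.map h (AlgHom.id R B)).comp
      ((Algebra.TensorProduct.map b (AlgHom.id R B)).comp (kap' e)) =
        (Algebra.TensorProduct.map (h.comp b) (AlgHom.id R B)).comp (kap' e) from AlgHom.ext fun y => hmm B b _,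
    AlgHom.comp_apply]
  erw [hmm A a]
  rfl

lemma trans_trans (e : S ⊗[R] A ≃ₐc[S] S ⊗[R] B) (a b c : S →ₐ[R] V) (x : B) :
    ext' (trans e b c) (trans e a b x) = trans e a c x := by
  rw [ext'_ext']
  show ext' _ (ext' _ (ext' _ _)) = _
  rw [ext'_map_kap_symm]
  rfl

lemma trans_apply (e : S ⊗[R] A ≃ₐc[S] S ⊗[R] B) (a b : S →ₐ[R] V) (x : A) :
    ext' (trans e a b) (Algebra.TensorProduct.map a (AlgHom.id R B) (kap' e x)) =
      Algebra.TensorProduct.map b (AlgHom.id R B) (kap' e x) := by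
  rw [ext'_ext', ext'_map, ext'_kap, show kap' e x = e ((1 : S) ⊗ₜ x) from rfl, e.symm_apply_apply,
    Algebra.TensorProduct.map_tmul, map_one, AlgHom.id_apply, ext'_tmul, one_smul]
  rfl

/-- Base change of a splitting. -/
lemma exists_equiv_map (e : S ⊗[R] A ≃ₐc[S] S ⊗[R] B) (f : S →ₐ[R] V) :
    ∃ e' : V ⊗[R] A ≃ₐc[V] V ⊗[R] B,
      ∀ x, e' ((1 : V) ⊗ₜ x) = Algebra.TensorProduct.map f (AlgHom.id R B) (kap' e x) := by
  obtain ⟨G, hG⟩ := ((compat_kap e).map f).exists_bialgHom
  have hG' : ∀ z, G z = ext' ((Algebra.TensorProduct.map f (AlgHom.id R B)).comp (kap' e)) z := by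
    intro z
    induction z using TensorProduct.induction_on with
    | zero => simp
    | add a b ha hb => simp only [map_add, ha, hb]
    | tmul s a =>
      rw [ext'_tmul, ← hG, ← map_smul, TensorProduct.smul_tmul', smul_eq_mul, mul_one]
  have hb : Function.Bijective G := by
    rw [show ⇑G = ⇑(ext' ((Algebra.TensorProduct.map f (AlgHom.id R B)).comp (kap' e))) from funext hG']
    refine ⟨(Function.LeftInverse.injective (ext'_map_kap_symm e f)),
      fun z => ⟨ext' ((Algebra.TensorProduct.map f (AlgHom.id R A)).comp (kap' e.symm)) z, ?_⟩⟩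
    exact ext'_map_kap_symm e.symm f z
  exact ⟨BialgEquiv.ofBijective G hb, hG⟩

end form

set_option synthInstance.maxHeartbeats 100000 in
/-- Two forms with the same descent datum are isomorphic. -/
theorem nonempty_equiv_of_datum {R : Type u} [CommRing R] {B : Type u} [CommRing B] [HopfAlgebra R B]
    {X Y : Type u} [CommRing X] [HopfAlgebra R X] [CommRing Y] [HopfAlgebra R Y]
    {S V : Type u} [CommRing S] [Algebra R S] [Module.FaithfullyFlat R S] [CommRing V] [Algebra R V]
    (a b : S →ₐ[R] V) (hab : Function.Bijective (Algebra.TensorProduct.lift a b fun _ _ => Commute.all _ _))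
    (g : B →ₐ[R] V ⊗[R] B) (ε : S ⊗[R] X ≃ₐc[S] S ⊗[R] B) (δ : S ⊗[R] Y ≃ₐc[S] S ⊗[R] B)
    (hε : ∀ x, ext' g (Algebra.TensorProduct.map a (AlgHom.id R B) (kap' ε x)) =
      Algebra.TensorProduct.map b (AlgHom.id R B) (kap' ε x))
    (hδ : ∀ x, ext' g (Algebra.TensorProduct.map a (AlgHom.id R B) (kap' δ x)) =
      Algebra.TensorProduct.map b (AlgHom.id R B) (kap' δ x)) : Nonempty (X ≃ₐc[R] Y) := by
  let sp := AlgEquiv.ofBijective (Algebra.TensorProduct.lift a b fun _ _ => Commute.all _ _) hab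
  let q : V →ₐ[R] S ⊗[R] S := sp.symm.toAlgHom
  have hs₁ : q.comp a = Algebra.TensorProduct.includeLeft := AlgHom.ext fun w => sp.symm_apply_eq.2 (by simp [sp])
  have hs₂ : q.comp b = Algebra.TensorProduct.includeRight := AlgHom.ext fun w => sp.symm_apply_eq.2 (by simp [sp])
  let g' := (Algebra.TensorProduct.map q (AlgHom.id R B)).comp g
  have hmm : ∀ (f : S →ₐ[R] V) (z : S ⊗[R] B), Algebra.TensorProduct.map (q.comp f) (AlgHom.id R B) z =
      Algebra.TensorProduct.map q (AlgHom.id R B) (Algebra.TensorProduct.map f (AlgHom.id R B) z) := by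
    intro f z
    induction z using TensorProduct.induction_on with
    | zero => simp
    | add p q hp hq => simp only [map_add, hp, hq]
    | tmul s z => simp
  have hq : ∀ z : S ⊗[R] B, ext' g (Algebra.TensorProduct.map a (AlgHom.id R B) z) =
        Algebra.TensorProduct.map b (AlgHom.id R B) z →
      ext' g' (Algebra.TensorProduct.map (Algebra.TensorProduct.includeLeft : S →ₐ[R] S ⊗[R] S) (AlgHom.id R B) z) =
        Algebra.TensorProduct.map (Algebra.TensorProduct.includeRight : S →ₐ[R] S ⊗[R] S) (AlgHom.id R B) z := by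
    intro z hz
    rw [← hs₁, ← hs₂, hmm, hmm, ext'_map, hz]
  have hbij : ∀ {Z : Type u} [CommRing Z] [HopfAlgebra R Z] (ε : S ⊗[R] Z ≃ₐc[S] S ⊗[R] B),
      Function.Bijective (ext' (kap' ε)) := by
    intro Z _ _ ε
    rw [show ⇑(ext' (kap' ε)) = ⇑ε from funext (ext'_kap ε)]
    exact EquivLike.bijective ε
  have main : ∀ {X Y : Type u} [CommRing X] [HopfAlgebra R X] [CommRing Y] [HopfAlgebra R Y]
      (ε : S ⊗[R] X ≃ₐc[S] S ⊗[R] B) (δ : S ⊗[R] Y ≃ₐc[S] S ⊗[R] B),
      (∀ x, ext' g (Algebra.TensorProduct.map a (AlgHom.id R B) (kap' ε x)) =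
        Algebra.TensorProduct.map b (AlgHom.id R B) (kap' ε x)) →
      (∀ x, ext' g (Algebra.TensorProduct.map a (AlgHom.id R B) (kap' δ x)) =
        Algebra.TensorProduct.map b (AlgHom.id R B) (kap' δ x)) →
      ∃ φ : X →ₐc[R] Y, ∀ x, kap' δ (φ x) = kap' ε x := by
    intro X Y _ _ _ _ ε δ hε hδ
    choose φ hφ using fun x => exists_eq (kap' δ) (hbij δ) (ext' g') (fun y => hq _ (hδ y)) (kap' ε x) (hq _ (hε x))
    have inj := injective_of_ext' (kap' δ) (hbij δ)
    let φa : X →ₐ[R] Y :=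
      { toFun := φ
        map_one' := inj (by simp only [hφ, map_one])
        map_mul' := fun a b => inj (by simp only [hφ, map_mul])
        map_zero' := inj (by simp only [hφ, map_zero])
        map_add' := fun a b => inj (by simp only [hφ, map_add])
        commutes' := fun r => inj (by simp only [hφ, AlgHom.commutes]) }
    have hdef : DefectLE (⊥ : Ideal R) φa := fun x => by
      suffices h : Algebra.TensorProduct.map φa φa (Coalgebra.comul x) = Coalgebra.comul (φa x) by
        rw [h, sub_self]; exact Submodule.zero_mem _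
      apply injective_of_ext' (pair (kap' δ) (kap' δ)) (pair_bijective _ _ (hbij δ) (hbij δ))
      rw [pair_map (kap' ε) (kap' ε) (kap' δ) (kap' δ) φa φa (AlgHom.id R _) (AlgHom.id R _)
        (fun a => by simp [mS, Algebra.TensorProduct.map_id, φa, hφ])
        (fun a => by simp [mS, Algebra.TensorProduct.map_id, φa, hφ])]
      rw [Algebra.TensorProduct.map_id, show pair (kap' ε) (kap' ε) (Coalgebra.comul x) =
        jΔ _ (kap' ε x) from compat_kap ε x]
      rw [show pair (kap' δ) (kap' δ) (Coalgebra.comul (φa x)) = jΔ _ (kap' δ (φa x)) from compat_kap δ _]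
      simp [mS, Algebra.TensorProduct.map_id, φa, hφ]
    obtain ⟨Φ, hΦ⟩ := exists_bialgHom_of_defect hdef
    exact ⟨Φ, fun x => by rw [hΦ]; exact hφ x⟩
  obtain ⟨φ, hφ⟩ := main ε δ hε hδ
  obtain ⟨ψ, hψ⟩ := main δ ε hδ hε
  refine ⟨BialgEquiv.ofBijective φ ⟨Function.LeftInverse.injective (g := ψ) fun x => ?_,
    Function.RightInverse.surjective (g := ψ) fun x => ?_⟩⟩
  · exact injective_of_ext' (kap' ε) (hbij ε) (by rw [hψ, hφ])
  · exact injective_of_ext' (kap' δ) (hbij δ) (by rw [hφ, hψ])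

set_option synthInstance.maxHeartbeats 100000 in
/-- Base change commutes with tensor squares. -/
theorem bijective_mult {R : Type u} [CommRing R] (K : Type u) [CommRing K] [Algebra R K] {S : Type u} [CommRing S]
    [Algebra R S] (f₁ f₂ : S →ₐ[R] S ⊗[R] S) (h₁ : f₁ = Algebra.TensorProduct.includeLeft)
    (h₂ : f₂ = Algebra.TensorProduct.includeRight) :
    Function.Bijective (Algebra.TensorProduct.lift (Algebra.TensorProduct.map (AlgHom.id K K) f₁)
      (Algebra.TensorProduct.map (AlgHom.id K K) f₂) fun _ _ => Commute.all _ _) := by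
  subst h₁ h₂
  set mult := Algebra.TensorProduct.lift
    (Algebra.TensorProduct.map (AlgHom.id K K) (Algebra.TensorProduct.includeLeft : S →ₐ[R] S ⊗[R] S))
    (Algebra.TensorProduct.map (AlgHom.id K K) (Algebra.TensorProduct.includeRight : S →ₐ[R] S ⊗[R] S))
    fun _ _ => Commute.all _ _
  let P := (K ⊗[R] S) ⊗[K] (K ⊗[R] S)
  let l : S →ₐ[R] P := ((Algebra.TensorProduct.includeLeft : K ⊗[R] S →ₐ[K] P).restrictScalars R).comp
    Algebra.TensorProduct.includeRight
  let r : S →ₐ[R] P := ((Algebra.TensorProduct.includeRight : K ⊗[R] S →ₐ[K] P).restrictScalars R).comp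
    Algebra.TensorProduct.includeRight
  let lr : S ⊗[R] S →ₐ[R] P := Algebra.TensorProduct.lift l r fun _ _ => Commute.all _ _
  let inv : K ⊗[R] (S ⊗[R] S) →ₐ[K] P := Algebra.TensorProduct.lift (Algebra.ofId K P) lr fun _ _ => Commute.all _ _
  have h1 : inv.comp mult = AlgHom.id K P := by
    refine Algebra.TensorProduct.ext (Algebra.TensorProduct.ext (by ext) (AlgHom.ext fun s => ?_))
      (Algebra.TensorProduct.ext (by ext) (AlgHom.ext fun s => ?_))
    · simp [inv, mult, lr, l, r, P, Algebra.TensorProduct.one_def]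
    · simp [inv, mult, lr, l, r, P, Algebra.TensorProduct.one_def]
  have h2 : mult.comp inv = AlgHom.id K _ := by
    refine Algebra.TensorProduct.ext (by ext) (Algebra.TensorProduct.ext (AlgHom.ext fun s => ?_) (AlgHom.ext fun s => ?_))
    · simp [inv, mult, lr, l, r, P, Algebra.TensorProduct.one_def]
    · simp [inv, mult, lr, l, r, P, Algebra.TensorProduct.one_def]
  exact ⟨Function.LeftInverse.injective (g := inv) fun z => congr($h1 z),
    Function.RightInverse.surjective (g := inv) fun z => congr($h2 z)⟩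

set_option maxHeartbeats 1000000 in
/-- Lifting of a twisted form of a diagonalisable group. -/
theorem exists_lift_form {R : Type u} [CommRing R] (I : Ideal R) (A₀ : Type u) [CommRing A₀] [HopfAlgebra (R ⧸ I) A₀]
    (S : Type u) [CommRing S] [Algebra R S] [Module.FaithfullyFlat R S]
    {M : Type u} [CommGroup M]
    (e₀ : ((R ⧸ I) ⊗[R] S) ⊗[R ⧸ I] A₀ ≃ₐc[(R ⧸ I) ⊗[R] S] MonoidAlgebra ((R ⧸ I) ⊗[R] S) M)
    (h1 : I.map (algebraMap R S) ≤ Ideal.jacobson ⊥)
    (h2 : I.map (algebraMap R (S ⊗[R] S)) ≤ Ideal.jacobson ⊥)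
    (hidem : ∀ b : (R ⧸ I) ⊗[R] (S ⊗[R] S), IsIdempotentElem b →
      ∃ e : S ⊗[R] S, IsIdempotentElem e ∧ (1 : R ⧸ I) ⊗ₜ[R] e = b)
    (h3 : I.map (algebraMap R (S ⊗[R] (S ⊗[R] S))) ≤ Ideal.jacobson ⊥) :
    ∃ (A : Type u) (_ : CommRing A) (_ : HopfAlgebra R A), IsDiag S (S ⊗[R] A) ∧
      Nonempty (((R ⧸ I) ⊗[R] A) ≃ₐc[R ⧸ I] A₀) := by
  let K := R ⧸ I
  let B := MonoidAlgebra R M
  have hdB : ∀ (T : Type u) [CommRing T] [Algebra R T], IsDiag T (T ⊗[R] B) := fun T _ _ =>
    isDiag_tensor T ⟨M, inferInstance, ⟨BialgEquiv.refl R B⟩⟩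
  let eK : ((K ⊗[R] S) ⊗[K] (K ⊗[R] B)) ≃ₐc[K ⊗[R] S] MonoidAlgebra (K ⊗[R] S) M :=
    scalarEquiv (K ⊗[R] S) (scalarEquiv K (BialgEquiv.refl R B))
  let e₁ : (K ⊗[R] S) ⊗[K] A₀ ≃ₐc[K ⊗[R] S] (K ⊗[R] S) ⊗[K] (K ⊗[R] B) := e₀.trans eK.symm
  let i : ∀ (U : Type u) [CommRing U] [Algebra R U], U →ₐ[R] K ⊗[R] U := fun U _ _ =>
    Algebra.TensorProduct.includeRight
  have his : ∀ (U : Type u) [CommRing U] [Algebra R U], Function.Surjective (i U) := by
    intro U _ _ z
    induction z using TensorProduct.induction_on with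
    | zero => exact ⟨0, map_zero _⟩
    | tmul k u =>
      obtain ⟨r, rfl⟩ := Ideal.Quotient.mk_surjective k
      refine ⟨r • u, ?_⟩
      show (1 : K) ⊗ₜ[R] (r • u) = _
      rw [TensorProduct.tmul_smul, TensorProduct.smul_tmul', Algebra.smul_def, mul_one]
      rfl
    | add a b ha hb =>
      obtain ⟨a, rfl⟩ := ha
      obtain ⟨b, rfl⟩ := hb
      exact ⟨a + b, map_add _ _ _⟩
  have hik : ∀ (U : Type u) [CommRing U] [Algebra R U], RingHom.ker (i U) ≤ I.map (algebraMap R U) := by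
    intro U _ _ u hu
    have hu' : (1 : K) ⊗ₜ[R] u = 0 := hu
    have h := congrArg (TensorProduct.quotTensorEquivQuotSMul U I) hu'
    rw [map_zero] at h
    erw [TensorProduct.quotTensorEquivQuotSMul_mk_one_tmul, Submodule.Quotient.mk_eq_zero] at h
    rw [Ideal.smul_top_eq_map] at h
    exact h
  let km : ∀ {U U' : Type u} [CommRing U] [Algebra R U] [CommRing U'] [Algebra R U'],
      (U →ₐ[R] U') → (K ⊗[R] U →ₐ[K] K ⊗[R] U') := fun f => Algebra.TensorProduct.map (AlgHom.id K K) f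
  let bridge : ∀ (V : Type u) [CommRing V] [Algebra R V],
      (K ⊗[R] V) ⊗[K] (K ⊗[R] B) ≃ₐc[K ⊗[R] V] (K ⊗[R] V) ⊗[R] B := fun V _ _ => cbc K (K ⊗[R] V)
  have hbn : ∀ {U U' : Type u} [CommRing U] [Algebra R U] [CommRing U'] [Algebra R U']
      (f : U →ₐ[R] U') (z : (K ⊗[R] U) ⊗[K] (K ⊗[R] B)),
      bridge U' (Algebra.TensorProduct.map (km f) (AlgHom.id K _) z) =
        Algebra.TensorProduct.map ((km f).restrictScalars R) (AlgHom.id R B) (bridge U z) := by
    intro U U' _ _ _ _ f z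
    induction z using TensorProduct.induction_on with
    | zero => simp
    | add a b ha hb => simp only [map_add, ha, hb]
    | tmul w x =>
      induction x using TensorProduct.induction_on with
      | zero => simp
      | add a b ha hb => simp only [TensorProduct.tmul_add, map_add, ha, hb]
      | tmul k b =>
        show (k • km f w) ⊗ₜ[R] b = Algebra.TensorProduct.map ((km f).restrictScalars R) (AlgHom.id R B) ((k • w) ⊗ₜ[R] b)
        rw [Algebra.TensorProduct.map_tmul, AlgHom.restrictScalars_apply, map_smul]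
        rfl
  -- the datum modulo `I`
  let f₁ : S →ₐ[R] S ⊗[R] S := Algebra.TensorProduct.includeLeft
  let f₂ : S →ₐ[R] S ⊗[R] S := Algebra.TensorProduct.includeRight
  let up : ∀ (V : Type u) [CommRing V] [Algebra R V], (K ⊗[R] B →ₐ[K] (K ⊗[R] V) ⊗[K] (K ⊗[R] B)) →
      (B →ₐ[R] (K ⊗[R] V) ⊗[R] B) := fun V _ _ g =>
    ((BialgEquiv.toAlgEquiv (bridge V)).toAlgHom.restrictScalars R).comp
      ((g.restrictScalars R).comp Algebra.TensorProduct.includeRight)
  have hupc : ∀ (V : Type u) [CommRing V] [Algebra R V] (g : K ⊗[R] B →ₐ[K] (K ⊗[R] V) ⊗[K] (K ⊗[R] B)),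
      Compat g → Compat (up V g) := by
    intro V _ _ g hg
    obtain ⟨G, hG⟩ := hg.exists_bialgHom
    have h := compat_of_bialgHom
      (((bridge V : (K ⊗[R] V) ⊗[K] (K ⊗[R] B) →ₐc[K ⊗[R] V] (K ⊗[R] V) ⊗[R] B).comp G).comp
        ((bridge V).symm : (K ⊗[R] V) ⊗[R] B →ₐc[K ⊗[R] V] (K ⊗[R] V) ⊗[K] (K ⊗[R] B)))
    have e : up V g =
        ((((((bridge V : (K ⊗[R] V) ⊗[K] (K ⊗[R] B) →ₐc[K ⊗[R] V] (K ⊗[R] V) ⊗[R] B).comp G).comp
          ((bridge V).symm : (K ⊗[R] V) ⊗[R] B →ₐc[K ⊗[R] V] (K ⊗[R] V) ⊗[K] (K ⊗[R] B)))) :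
            (K ⊗[R] V) ⊗[R] B →ₐ[K ⊗[R] V] (K ⊗[R] V) ⊗[R] B).restrictScalars R).comp
          (Algebra.TensorProduct.includeRight : B →ₐ[R] (K ⊗[R] V) ⊗[R] B) := AlgHom.ext fun b => by
      change (bridge V) (g ((1 : K) ⊗ₜ[R] b)) = (bridge V) (G ((bridge V).symm ((1 : K ⊗[R] V) ⊗ₜ[R] b)))
      rw [show (bridge V).symm ((1 : K ⊗[R] V) ⊗ₜ b) = (1 : K ⊗[R] V) ⊗ₜ[K] ((1 : K) ⊗ₜ[R] b) from rfl, hG]
    rw [e]
    exact h
  have hupe : ∀ (V : Type u) [CommRing V] [Algebra R V] (g : K ⊗[R] B →ₐ[K] (K ⊗[R] V) ⊗[K] (K ⊗[R] B))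
      (z : (K ⊗[R] V) ⊗[K] (K ⊗[R] B)), ext' (up V g) (bridge V z) = bridge V (ext' g z) := by
    intro V _ _ g z
    induction z using TensorProduct.induction_on with
    | zero => simp
    | add a b ha hb => simp only [map_add, ha, hb]
    | tmul w x =>
      induction x using TensorProduct.induction_on with
      | zero => simp
      | add a b ha hb => simp only [TensorProduct.tmul_add, map_add, ha, hb]
      | tmul k b =>
        rw [show bridge V (w ⊗ₜ[K] (k ⊗ₜ[R] b)) = (k • w) ⊗ₜ[R] b from rfl, ext'_tmul, ext'_tmul,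
          show k ⊗ₜ[R] b = k • ((1 : K) ⊗ₜ[R] b) by rw [TensorProduct.smul_tmul', smul_eq_mul, mul_one],
          map_smul g, map_smul (bridge V),
          ← IsScalarTower.algebraMap_smul (K ⊗[R] V) k (g _), map_smul (bridge V),
          Algebra.smul_def k w, mul_comm, smul_smul]
        rfl
  let g0 : ∀ {V : Type u} [CommRing V] [Algebra R V], (S →ₐ[R] V) → (S →ₐ[R] V) → (B →ₐ[R] (K ⊗[R] V) ⊗[R] B) :=
    fun {V} _ _ a b => up V (trans e₁ (km a) (km b))
  have hg0n : ∀ {U U' : Type u} [CommRing U] [Algebra R U] [CommRing U'] [Algebra R U'] (f : U →ₐ[R] U')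
      (a b : S →ₐ[R] U) (x : B), Algebra.TensorProduct.map ((km f).restrictScalars R) (AlgHom.id R B) (g0 a b x) =
        g0 (f.comp a) (f.comp b) x := by
    intro U U' _ _ _ _ f a b x
    show Algebra.TensorProduct.map _ _ (bridge U _) = bridge U' _
    rw [← hbn]
    congr 1
    refine (map_trans e₁ (km a) (km b) (km f) _).trans ?_
    show trans e₁ _ _ _ = trans e₁ (km (f.comp a)) (km (f.comp b)) _
    congr 2 <;> exact Algebra.TensorProduct.ext (AlgHom.ext fun _ => by simp [km]) (AlgHom.ext fun _ => by simp [km])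
  -- lift it
  obtain ⟨g, hg, hgπ⟩ := exists_compat_lift_idem (i (S ⊗[R] S)) (his _) ((hik _).trans h2)
    (fun b hb => hidem b hb) (hdB _) (hdB _) (g0 f₁ f₂) (hupc _ _ (compat_trans e₁ _ _))
  have hmm : ∀ {U U' U'' : Type u} [CommRing U] [Algebra R U] [CommRing U'] [Algebra R U'] [CommRing U'']
      [Algebra R U''] (p : U' →ₐ[R] U'') (q : U →ₐ[R] U') (z : U ⊗[R] B),
      Algebra.TensorProduct.map p (AlgHom.id R B) (Algebra.TensorProduct.map q (AlgHom.id R B) z) =
        Algebra.TensorProduct.map (p.comp q) (AlgHom.id R B) z := by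
    intro U U' U'' _ _ _ _ _ _ p q z
    induction z using TensorProduct.induction_on with
    | zero => simp
    | add p q hp hq => simp only [map_add, hp, hq]
    | tmul s z => simp
  have hpg : ∀ {U : Type u} [CommRing U] [Algebra R U] (p : S ⊗[R] S →ₐ[R] U) (x : B),
      Algebra.TensorProduct.map (i U) (AlgHom.id R B) (Algebra.TensorProduct.map p (AlgHom.id R B) (g x)) =
        g0 (p.comp f₁) (p.comp f₂) x := by
    intro U _ _ p x
    rw [hmm, show (i U).comp p = ((km p).restrictScalars R).comp (i _) from AlgHom.ext fun _ => by simp [i, km],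
      ← hmm, show Algebra.TensorProduct.map (i _) (AlgHom.id R B) (g x) = g0 f₁ f₂ x from congr($hgπ x), hg0n]
  have huniq : ∀ {U : Type u} [CommRing U] [Algebra R U] (hU : I.map (algebraMap R U) ≤ Ideal.jacobson ⊥)
      (k k' : B →ₐ[R] U ⊗[R] B), Compat k → Compat k' →
      (∀ x, Algebra.TensorProduct.map (i U) (AlgHom.id R B) (k x) =
        Algebra.TensorProduct.map (i U) (AlgHom.id R B) (k' x)) → k = k' := by
    intro U _ _ hU k k' hk hk' h
    refine compat_eq_of_jacobson (hdB U) (hdB U) hk hk' _ ((hik U).trans hU) fun x => ?_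
    exact mem_map_ker (i U) (his U) _ (by rw [map_sub, h, sub_self])
  have hdiag : ∀ b, Algebra.TensorProduct.map (Algebra.TensorProduct.lmul' R : S ⊗[R] S →ₐ[R] S) (AlgHom.id R B)
      (g b) = (1 : S) ⊗ₜ b := by
    have h := huniq h1 ((Algebra.TensorProduct.map (Algebra.TensorProduct.lmul' R : S ⊗[R] S →ₐ[R] S)
      (AlgHom.id R B)).comp g) (Algebra.TensorProduct.includeRight : B →ₐ[R] S ⊗[R] B) (hg.map _)
      (compat_of_bialgHom (BialgHom.id S (S ⊗[R] B))) fun x => by
        show Algebra.TensorProduct.map _ _ (Algebra.TensorProduct.map _ _ (g x)) = _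
        rw [hpg, show (Algebra.TensorProduct.lmul' R : S ⊗[R] S →ₐ[R] S).comp f₁ = AlgHom.id R S from
            Algebra.TensorProduct.lmul'_comp_includeLeft,
          show (Algebra.TensorProduct.lmul' R : S ⊗[R] S →ₐ[R] S).comp f₂ = AlgHom.id R S from
            Algebra.TensorProduct.lmul'_comp_includeRight]
        show bridge S (trans e₁ (km (AlgHom.id R S)) (km (AlgHom.id R S)) ((1 : K) ⊗ₜ[R] x)) = _
        rw [trans_self]
        show ((1 : K) • (1 : K ⊗[R] S)) ⊗ₜ[R] x = _
        simp [i, Algebra.TensorProduct.one_def]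
    exact fun b => congr($h b)
  let p01 : S ⊗[R] S →ₐ[R] S ⊗[R] (S ⊗[R] S) := Algebra.TensorProduct.map (AlgHom.id R S) f₁
  let p02 : S ⊗[R] S →ₐ[R] S ⊗[R] (S ⊗[R] S) := Algebra.TensorProduct.map (AlgHom.id R S) f₂
  let p12 : S ⊗[R] S →ₐ[R] S ⊗[R] (S ⊗[R] S) := Algebra.TensorProduct.includeRight
  have hcoc : ∀ b, ext' ((Algebra.TensorProduct.map p12 (AlgHom.id R B)).comp g)
      (Algebra.TensorProduct.map p01 (AlgHom.id R B) (g b)) = Algebra.TensorProduct.map p02 (AlgHom.id R B) (g b) := by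
    have h := huniq h3 (((ext' ((Algebra.TensorProduct.map p12 (AlgHom.id R B)).comp g)).restrictScalars R).comp
      ((Algebra.TensorProduct.map p01 (AlgHom.id R B)).comp g)) ((Algebra.TensorProduct.map p02 (AlgHom.id R B)).comp g)
      (compat_comp (hg.map _) (hg.map _)) (hg.map _) fun x => by
        show Algebra.TensorProduct.map _ _ (ext' _ (Algebra.TensorProduct.map _ _ (g x))) =
          Algebra.TensorProduct.map _ _ (Algebra.TensorProduct.map _ _ (g x))
        rw [← ext'_map, hpg, hpg]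
        rw [show (Algebra.TensorProduct.map (i _) (AlgHom.id R B)).comp
            ((Algebra.TensorProduct.map p12 (AlgHom.id R B)).comp g) = g0 (p12.comp f₁) (p12.comp f₂) from
          AlgHom.ext fun y => hpg p12 y]
        show ext' (up _ _) (bridge _ _) = bridge _ _
        rw [hupe]
        congr 1
        have e1 : p12.comp f₁ = p01.comp f₂ := AlgHom.ext fun _ => by
          simp [p12, p01, f₁, f₂, Algebra.TensorProduct.one_def]
        have e2 : p01.comp f₁ = p02.comp f₁ := AlgHom.ext fun _ => by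
          simp [p02, p01, f₁, f₂, Algebra.TensorProduct.one_def]
        have e3 : p12.comp f₂ = p02.comp f₂ := AlgHom.ext fun _ => by
          simp [p12, p02, f₂]
        rw [e1, e3, ← e2]
        exact trans_trans e₁ _ _ _ _
    exact fun b => congr($h b)
  -- descend
  let E := AlgHom.equalizer (Algebra.TensorProduct.map f₂ (AlgHom.id R B))
    (((ext' g).restrictScalars R).comp (Algebra.TensorProduct.map f₁ (AlgHom.id R B)))
  obtain ⟨A, _, _, e, he⟩ := exists_hopf g hg E.val (bijective_equalizer g hdiag hcoc) fun a => a.2.symm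
  refine ⟨A, inferInstance, inferInstance, isDiag_congr e.symm (hdB S), ?_⟩
  -- identify the reduction
  obtain ⟨eS, heS⟩ := exists_equiv_map e (i S)
  let bA : (K ⊗[R] S) ⊗[K] (K ⊗[R] A) ≃ₐc[K ⊗[R] S] (K ⊗[R] S) ⊗[R] A := cbc K (K ⊗[R] S)
  let e₂ : (K ⊗[R] S) ⊗[K] (K ⊗[R] A) ≃ₐc[K ⊗[R] S] (K ⊗[R] S) ⊗[K] (K ⊗[R] B) :=
    (bA.trans eS).trans (bridge S).symm
  let G := ext' (trans e₁ (km f₁) (km f₂))
  have hd₂ : ∀ x, G (Algebra.TensorProduct.map (km f₁) (AlgHom.id K _) (kap' e₂ x)) =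
      Algebra.TensorProduct.map (km f₂) (AlgHom.id K _) (kap' e₂ x) := by
    intro x
    induction x using TensorProduct.induction_on with
    | zero => simp
    | add a b ha hb => simp only [map_add, ha, hb]
    | tmul k a =>
      have hk : k ⊗ₜ[R] a = k • ((1 : K) ⊗ₜ[R] a) := by rw [TensorProduct.smul_tmul', smul_eq_mul, mul_one]
      suffices h : G (Algebra.TensorProduct.map (km f₁) (AlgHom.id K _) (kap' e₂ ((1 : K) ⊗ₜ a))) =
          Algebra.TensorProduct.map (km f₂) (AlgHom.id K _) (kap' e₂ ((1 : K) ⊗ₜ a)) by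
        rw [hk, map_smul (kap' e₂), map_smul (Algebra.TensorProduct.map (km f₁) (AlgHom.id K _)),
          map_smul (Algebra.TensorProduct.map (km f₂) (AlgHom.id K _)), ← h,
          ← IsScalarTower.algebraMap_smul (K ⊗[R] (S ⊗[R] S)) k, map_smul G, IsScalarTower.algebraMap_smul]
      apply EquivLike.injective (bridge (S ⊗[R] S))
      rw [hbn]
      have e2 : bridge S (kap' e₂ ((1 : K) ⊗ₜ a)) =
          Algebra.TensorProduct.map (i S) (AlgHom.id R B) (e ((1 : S) ⊗ₜ a)) := by
        show bridge S ((bridge S).symm (eS (bA ((1 : K ⊗[R] S) ⊗ₜ[K] ((1 : K) ⊗ₜ[R] a))))) = _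
        rw [BialgEquiv.apply_symm_apply]
        show eS (((1 : K) • (1 : K ⊗[R] S)) ⊗ₜ[R] a) = _
        rw [one_smul, heS]
        rfl
      show bridge _ (ext' _ _) = _
      rw [← hupe, hbn, e2, hmm, hmm]
      rw [show ((km f₁).restrictScalars R).comp (i S) = (i _).comp f₁ from AlgHom.ext fun _ => by simp [i, km],
        show ((km f₂).restrictScalars R).comp (i S) = (i _).comp f₂ from AlgHom.ext fun _ => by simp [i, km],
        ← hmm, ← hmm, ← he, ← ext'_map, hgπ]
  exact nonempty_equiv_of_datum (km f₁) (km f₂) (bijective_mult K f₁ f₂ rfl rfl) (trans e₁ (km f₁) (km f₂)) e₂ e₁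
    hd₂ (trans_apply e₁ (km f₁) (km f₂))

end Groth.Agent.MultType.LiftForm
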