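import Groth.Agent.MultType.GlueEquiv
import Groth.Agent.MultType.LiftForm
import Groth.Agent.Hensel.FiniteEtale

/-!
Quasi-isotrivial groups of multiplicative type lift along nil ideals.
-/

universe u

open TensorProduct SGA3b
open scoped TensorProduct

namespace Groth.Agent.MultType.LiftQI

/-- The case of one type. -/
theorem exists_lift_const (R : Type u) [CommRing R] (I : Ideal R) (hI : ∀ x ∈ I, IsNilpotent x)
    (A₀ : Type u) [CommRing A₀] [HopfAlgebra (R ⧸ I) A₀] (h0 : IsQuasiIsotrivialConst (R ⧸ I) A₀) :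
    ∃ (A : Type u) (_ : CommRing A) (_ : HopfAlgebra R A),
      IsQuasiIsotrivialConst R A ∧ Nonempty (((R ⧸ I) ⊗[R] A) ≃ₐc[R ⧸ I] A₀) := by
  classical
  obtain ⟨S₀, _, _, _, _, M, _, ⟨e⟩⟩ := h0
  letI : Algebra R S₀ := ((algebraMap (R ⧸ I) S₀).comp (algebraMap R (R ⧸ I))).toAlgebra
  haveI : IsScalarTower R (R ⧸ I) S₀ := IsScalarTower.of_algebraMap_eq' rfl
  obtain ⟨S, _, _, _, Φ, hΦ, hker⟩ := Hensel.exists_etale_lift_of_quotient (I := I) S₀
  haveI : Module.Flat R S := Algebra.Smooth.flat R S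
  have hjac : ∀ (U : Type u) [CommRing U] [Algebra R U], I.map (algebraMap R U) ≤ nilradical U := fun U _ _ =>
    Ideal.map_le_iff_le_comap.2 fun r hr => mem_nilradical.2 ((hI r hr).map (algebraMap R U))
  have hjac' : ∀ (U : Type u) [CommRing U] [Algebra R U], I.map (algebraMap R U) ≤ Ideal.jacobson ⊥ := fun U _ _ =>
    (hjac U).trans Ideal.radical_le_jacobson
  have hff : Module.FaithfullyFlat R S := by
    refine { submodule_ne_top := fun {m} hm htop => ?_ }
    have hIm : I ≤ m := fun x hx => by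
      obtain ⟨n, hn⟩ := hI x hx
      exact hm.isPrime.mem_of_pow_mem n (hn ▸ m.zero_mem)
    have hm' : (m.map (Ideal.Quotient.mk I)).IsMaximal :=
      Ideal.IsMaximal.map_of_surjective_of_ker_le Ideal.Quotient.mk_surjective (by rwa [Ideal.mk_ker])
    apply Module.FaithfullyFlat.submodule_ne_top (M := S₀) hm'
    rw [Ideal.smul_top_eq_map] at htop ⊢
    have h1 : (1 : S) ∈ (m.map (algebraMap R S) : Ideal S) := by
      have : (1 : S) ∈ Submodule.restrictScalars R (m.map (algebraMap R S)) := by rw [htop]; trivial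
      exact this
    have h2 := Ideal.mem_map_of_mem Φ.toRingHom h1
    rw [Ideal.map_map, map_one, show Φ.toRingHom.comp (algebraMap R S) = algebraMap R S₀ from Φ.comp_algebraMap,
      IsScalarTower.algebraMap_eq R (R ⧸ I) S₀, ← Ideal.map_map, ← Ideal.eq_top_iff_one] at h2
    rw [show Ideal.map (algebraMap (R ⧸ I) S₀) (m.map (Ideal.Quotient.mk I)) = ⊤ from h2]
    rfl
  have key : ∀ (U : Type u) [CommRing U] [Algebra R U] (a b : U), (1 : R ⧸ I) ⊗ₜ[R] a = (1 : R ⧸ I) ⊗ₜ[R] b ↔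
      a - b ∈ I.map (algebraMap R U) := by
    intro U _ _ a b
    rw [← (TensorProduct.quotTensorEquivQuotSMul U I).injective.eq_iff,
      TensorProduct.quotTensorEquivQuotSMul_mk_one_tmul, TensorProduct.quotTensorEquivQuotSMul_mk_one_tmul,
      Submodule.Quotient.eq, Ideal.smul_top_eq_map]
    rfl
  have hsurj : ∀ (U : Type u) [CommRing U] [Algebra R U] (z : (R ⧸ I) ⊗[R] U), ∃ u, (1 : R ⧸ I) ⊗ₜ[R] u = z := by
    intro U _ _ z
    induction z using TensorProduct.induction_on with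
    | zero => exact ⟨0, TensorProduct.tmul_zero _ _⟩
    | tmul r s =>
      obtain ⟨r, rfl⟩ := Ideal.Quotient.mk_surjective r
      refine ⟨r • s, ?_⟩
      rw [TensorProduct.tmul_smul, TensorProduct.smul_tmul', Algebra.smul_def, mul_one]
      rfl
    | add x y hx hy =>
      obtain ⟨x, rfl⟩ := hx
      obtain ⟨y, rfl⟩ := hy
      exact ⟨x + y, TensorProduct.tmul_add _ _ _⟩
  let Ψ : (R ⧸ I) ⊗[R] S →ₐ[R ⧸ I] S₀ :=
    Algebra.TensorProduct.lift (Algebra.ofId _ _) Φ fun _ _ => Commute.all _ _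
  have hΨ : ∀ s, Ψ (1 ⊗ₜ[R] s) = Φ s := fun s => by simp [Ψ]
  have hΨb : Function.Bijective Ψ := by
    refine ⟨?_, fun c => ?_⟩
    · rw [injective_iff_map_eq_zero]
      intro z hz
      obtain ⟨s, rfl⟩ := hsurj S z
      rw [hΨ] at hz
      rw [← TensorProduct.tmul_zero S (1 : R ⧸ I), key, sub_zero, ← hker]
      exact hz
    · obtain ⟨s, rfl⟩ := hΦ c
      exact ⟨_, hΨ s⟩
  obtain ⟨e₀⟩ := Glue.nonempty_diag_map (AlgEquiv.ofBijective Ψ hΨb).symm.toAlgHom e
  obtain ⟨A, _, _, hd, he⟩ := LiftForm.exists_lift_form I A₀ S e₀ (hjac' S) (hjac' (S ⊗[R] S))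
    (fun b hb => by
      let π : S ⊗[R] S →ₐ[R] (R ⧸ I) ⊗[R] (S ⊗[R] S) := Algebra.TensorProduct.includeRight
      obtain ⟨s, hs⟩ := hsurj _ b
      exact exists_isIdempotentElem_eq_of_ker_isNilpotent π.toRingHom (fun x hx => by
        have hx' : (1 : R ⧸ I) ⊗ₜ[R] x = (1 : R ⧸ I) ⊗ₜ[R] (0 : S ⊗[R] S) := by
          rw [TensorProduct.tmul_zero]; exact hx
        have h := (key _ _ _).1 hx'
        rw [sub_zero] at h
        exact mem_nilradical.1 (hjac _ h)) b ⟨s, hs⟩ hb)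
    (hjac' (S ⊗[R] (S ⊗[R] S)))
  exact ⟨A, inferInstance, inferInstance, ⟨S, inferInstance, inferInstance, inferInstance, hff, hd⟩, he⟩

/-- An étale cover on which the type is constant. -/
theorem isQuasiIsotrivialConst_of_family {R : Type u} [CommRing R] {A : Type u} [CommRing A] [HopfAlgebra R A]
    {ι : Type} [Fintype ι] (S : ι → Type u) [∀ i, CommRing (S i)] [∀ i, Algebra R (S i)]
    [∀ i, Algebra.Etale R (S i)] {M : Type u} [CommGroup M]
    (hd : ∀ i, Nonempty (S i ⊗[R] A ≃ₐc[S i] MonoidAlgebra (S i) M))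
    (hs : ∀ p : PrimeSpectrum R, ∃ i, ∃ P : PrimeSpectrum (S i), PrimeSpectrum.comap (algebraMap R (S i)) P = p) :
    IsQuasiIsotrivialConst R A := by
  classical
  haveI : Algebra.Etale R (∀ i, S i) := inferInstance
  haveI : Module.Flat R (∀ i, S i) := Algebra.Smooth.flat R _
  refine ⟨∀ i, S i, inferInstance, inferInstance, inferInstance, ?_, Glue.isDiag_pi S hd⟩
  refine Module.FaithfullyFlat.of_comap_surjective fun p => ?_
  obtain ⟨i, P, hP⟩ := hs p
  exact ⟨PrimeSpectrum.comap (Pi.evalRingHom S i) P, by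
    rw [← hP, ← PrimeSpectrum.comap_comp_apply]
    rfl⟩

set_option maxHeartbeats 1000000 in
theorem exists_lift (R : Type u) [CommRing R] (I : Ideal R) (hI : ∀ x ∈ I, IsNilpotent x)
    (A₀ : Type u) [CommRing A₀] [HopfAlgebra (R ⧸ I) A₀] (h0 : IsQuasiIsotrivial (R ⧸ I) A₀) :
    ∃ (A : Type u) (_ : CommRing A) (_ : HopfAlgebra R A),
      IsQuasiIsotrivial R A ∧ Nonempty (((R ⧸ I) ⊗[R] A) ≃ₐc[R ⧸ I] A₀) := by
  classical
  let R₀ := R ⧸ I
  -- a finite cover with types
  obtain ⟨s, hs, hc⟩ := h0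
  obtain ⟨t, hts, ht⟩ := Ideal.span_eq_top_iff_finite s |>.1 hs
  let n := Fintype.card t
  let fe : Fin n ≃ t := (Fintype.equivFin t).symm
  let f : Fin n → R₀ := fun i => (fe i).1
  have hf : ∀ i, IsQuasiIsotrivialConst (Localization.Away (f i)) (Localization.Away (f i) ⊗[R₀] A₀) :=
    fun i => hc _ (hts (fe i).2)
  choose S hSR hSA hSe hSff hSd using hf
  letI : ∀ i, Algebra R₀ (S i) := fun i =>
    ((algebraMap (Localization.Away (f i)) (S i)).comp (algebraMap R₀ (Localization.Away (f i)))).toAlgebra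
  haveI : ∀ i, IsScalarTower R₀ (Localization.Away (f i)) (S i) := fun i => IsScalarTower.of_algebraMap_eq' rfl
  haveI : ∀ i, Algebra.Etale R₀ (S i) := fun i => by
    haveI : Algebra.Etale R₀ (Localization.Away (f i)) := Algebra.Etale.of_isLocalizationAway (f i)
    haveI := hSe i
    exact Algebra.Etale.comp R₀ (Localization.Away (f i)) (S i)
  choose M hM hMd using hSd
  have hd : ∀ i, Nonempty (S i ⊗[R₀] A₀ ≃ₐc[S i] MonoidAlgebra (S i) (M i)) := fun i =>
    ⟨(cbc (R := R₀) (A := A₀) (Localization.Away (f i)) (S i)).symm.trans (hMd i).some⟩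
  have himg : ∀ i (p : PrimeSpectrum R₀), f i ∉ p.asIdeal →
      ∃ P : PrimeSpectrum (S i), PrimeSpectrum.comap (algebraMap R₀ (S i)) P = p := by
    intro i p hp
    haveI := hSff i
    obtain ⟨q, hq⟩ : p ∈ Set.range (PrimeSpectrum.comap (algebraMap R₀ (Localization.Away (f i)))) := by
      rw [PrimeSpectrum.localization_away_comap_range (Localization.Away (f i)) (f i)]
      exact hp
    obtain ⟨P, hP⟩ := PrimeSpectrum.comap_surjective_of_faithfullyFlat (A := Localization.Away (f i)) (B := S i) q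
    refine ⟨P, ?_⟩
    rw [IsScalarTower.algebraMap_eq R₀ (Localization.Away (f i)) (S i), PrimeSpectrum.comap_comp_apply, hP, hq]
  -- overlapping members have the same type
  have hover : ∀ i k (p : PrimeSpectrum R₀), f i ∉ p.asIdeal → f k ∉ p.asIdeal → Nonempty (M i ≃* M k) := by
    intro i k p hi hk
    obtain ⟨P, hP⟩ := himg i p hi
    obtain ⟨Q, hQ⟩ := himg k p hk
    letI : Algebra p.asIdeal.ResidueField P.asIdeal.ResidueField := (Ideal.ResidueField.mapₐ p.asIdeal P.asIdeal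
      (Algebra.ofId R₀ (S i)) (congrArg PrimeSpectrum.asIdeal hP).symm).toRingHom.toAlgebra
    haveI : IsScalarTower R₀ p.asIdeal.ResidueField P.asIdeal.ResidueField :=
      IsScalarTower.of_algebraMap_eq fun r => (AlgHom.commutes _ r).symm
    letI : Algebra p.asIdeal.ResidueField Q.asIdeal.ResidueField := (Ideal.ResidueField.mapₐ p.asIdeal Q.asIdeal
      (Algebra.ofId R₀ (S k)) (congrArg PrimeSpectrum.asIdeal hQ).symm).toRingHom.toAlgebra
    haveI : IsScalarTower R₀ p.asIdeal.ResidueField Q.asIdeal.ResidueField :=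
      IsScalarTower.of_algebraMap_eq fun r => (AlgHom.commutes _ r).symm
    let W := P.asIdeal.ResidueField ⊗[p.asIdeal.ResidueField] Q.asIdeal.ResidueField
    obtain ⟨m, hm⟩ := Ideal.exists_maximal W
    letI := Ideal.Quotient.field m
    let gi : S i →ₐ[R₀] W ⧸ m := (Ideal.Quotient.mkₐ R₀ m).comp
      (((Algebra.TensorProduct.includeLeft : P.asIdeal.ResidueField →ₐ[p.asIdeal.ResidueField] W).restrictScalars R₀).comp
        (IsScalarTower.toAlgHom R₀ (S i) P.asIdeal.ResidueField))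
    let gk : S k →ₐ[R₀] W ⧸ m := (Ideal.Quotient.mkₐ R₀ m).comp
      (((Algebra.TensorProduct.includeRight : Q.asIdeal.ResidueField →ₐ[p.asIdeal.ResidueField] W).restrictScalars R₀).comp
        (IsScalarTower.toAlgHom R₀ (S k) Q.asIdeal.ResidueField))
    obtain ⟨ei⟩ := hd i
    obtain ⟨ek⟩ := hd k
    obtain ⟨ei'⟩ := Glue.nonempty_diag_map gi ei
    obtain ⟨ek'⟩ := Glue.nonempty_diag_map gk ek
    exact nonempty_mulEquiv (ei'.symm.trans ek')
  -- the classes
  let st : Setoid (Fin n) :=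
    ⟨fun i k => Nonempty (M i ≃* M k), ⟨fun i => ⟨MulEquiv.refl _⟩, fun ⟨a⟩ => ⟨a.symm⟩, fun ⟨a⟩ ⟨b⟩ => ⟨a.trans b⟩⟩⟩
  let J := Quotient st
  haveI : Fintype J := Fintype.ofFinite J
  let cl : Fin n → J := fun i => Quotient.mk st i
  have hcl : ∀ i k, cl i = cl k ↔ Nonempty (M i ≃* M k) := fun i k => Quotient.eq (r := st)
  let U : J → Set (PrimeSpectrum R₀) := fun j => {p | ∃ i, cl i = j ∧ f i ∉ p.asIdeal}
  have hUo : ∀ j, IsOpen (U j) := fun j => by
    rw [show U j = ⋃ i ∈ {i | cl i = j}, (PrimeSpectrum.basicOpen (f i) : Set (PrimeSpectrum R₀)) from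
      Set.ext fun p => by simp [U]]
    exact isOpen_biUnion fun i _ => (PrimeSpectrum.basicOpen (f i)).2
  have hUd : ∀ p j j', p ∈ U j → p ∈ U j' → j = j' := by
    rintro p _ _ ⟨i, rfl, hi⟩ ⟨k, rfl, hk⟩
    exact (hcl i k).2 (hover i k p hi hk)
  have hUc : ∀ p, ∃ i, p ∈ U (cl i) ∧ f i ∉ p.asIdeal := by
    intro p
    obtain ⟨i, hi⟩ : ∃ i, f i ∉ p.asIdeal := by
      by_contra! hall
      refine p.2.ne_top (top_le_iff.1 (ht ▸ Ideal.span_le.2 fun x hx => ?_))
      simpa [f] using hall (fe.symm ⟨x, hx⟩)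
    exact ⟨i, ⟨i, rfl, hi⟩, hi⟩
  have hUclop : ∀ j, IsClopen (U j) := fun j => ⟨by
    rw [← isOpen_compl_iff, show (U j)ᶜ = ⋃ j' ∈ {j' | j' ≠ j}, U j' from Set.ext fun p => by
      constructor
      · intro hp
        obtain ⟨i, hi, -⟩ := hUc p
        exact Set.mem_biUnion (show cl i ≠ j from fun h => hp (h ▸ hi)) hi
      · intro hp hpj
        obtain ⟨j', hj', hpj'⟩ := Set.mem_iUnion₂.1 hp
        exact hj' (hUd p j' j hpj' hpj)]
    exact isOpen_biUnion fun j' _ => hUo j', hUo j⟩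
  choose e₀ he₀ hUe using fun j => PrimeSpectrum.isClopen_iff.1 (hUclop j)
  have hmem : ∀ j (p : PrimeSpectrum R₀), p ∈ U j ↔ e₀ j ∉ p.asIdeal := fun j p => by rw [hUe]; rfl
  have hco : CompleteOrthogonalIdempotents e₀ := by
    have ho : ∀ i j, i ≠ j → e₀ i * e₀ j = 0 := fun i j hij =>
      ((he₀ i).mul (he₀ j)).eq_zero_of_isNilpotent (nilpotent_iff_mem_prime.2 fun p hp => by
        by_contra hnot
        exact hij (hUd ⟨p, hp⟩ i j ((hmem _ _).2 fun h => hnot (p.mul_mem_right _ h))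
          ((hmem _ _).2 fun h => hnot (p.mul_mem_left _ h))))
    refine ⟨⟨he₀, fun i j hij => ho i j hij⟩, ?_⟩
    have hsum : IsIdempotentElem (∑ j, e₀ j) := OrthogonalIdempotents.isIdempotentElem_sum ⟨he₀, fun i j hij => ho i j hij⟩
    refine (IsIdempotentElem.iff_eq_one_of_isUnit ?_).1 hsum
    by_contra hnu
    obtain ⟨m, hm, hsm⟩ := exists_max_ideal_of_mem_nonunits hnu
    obtain ⟨i, hi, -⟩ := hUc ⟨m, hm.isPrime⟩
    apply (hmem _ _).1 hi
    show e₀ (cl i) ∈ m
    have h2 : e₀ (cl i) * ∑ j, e₀ j = e₀ (cl i) := by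
      rw [Finset.mul_sum, Finset.sum_eq_single (cl i) (fun b _ hb => ho _ _ (Ne.symm hb))
        (fun h => absurd (Finset.mem_univ _) h), (he₀ _).eq]
    rw [← h2]
    exact m.mul_mem_left _ hsm
  obtain ⟨e, he, hee⟩ := hco.lift_of_isNilpotent_ker (Ideal.Quotient.mk I)
    (fun x hx => hI x (by rwa [Ideal.mk_ker] at hx)) (fun j => Ideal.Quotient.mk_surjective _)
  have hee' : ∀ j, Ideal.Quotient.mk I (e j) = e₀ j := fun j => congrFun hee j
  -- the factors
  let T : J → Type u := fun j => Localization.Away (e j)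
  have hT1 : ∀ j, algebraMap R (T j) (e j) = 1 := fun j =>
    (IsIdempotentElem.iff_eq_one_of_isUnit (IsLocalization.Away.algebraMap_isUnit (e j))).1 ((he.idem j).map _)
  have hsplit : Glue.IsSplit e T := by
    refine ⟨he.complete, fun j z => ?_, hT1, fun i j hij => ?_, fun j r hr => ?_⟩
    · obtain ⟨⟨r, _, k, rfl⟩, hz⟩ := IsLocalization.surj (Submonoid.powers (e j)) z
      refine ⟨r, ?_⟩
      simp only at hz
      rw [map_pow, hT1, one_pow, mul_one] at hz
      exact hz.symm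
    · rw [← mul_one (algebraMap R (T j) (e i)), ← hT1 j, ← map_mul, he.ortho hij, map_zero]
    · obtain ⟨⟨_, k, rfl⟩, hk⟩ := (IsLocalization.map_eq_zero_iff (Submonoid.powers (e j)) (T j) r).1 hr
      rcases Nat.eq_zero_or_pos k with rfl | hk0
      · simp at hk; rw [hk, mul_zero]
      · simp only at hk
        obtain ⟨k, rfl⟩ := Nat.exists_eq_add_of_le hk0
        rwa [Nat.add_comm, (he.idem j).pow_succ_eq] at hk
  let Ij : ∀ j, Ideal (T j) := fun j => I.map (algebraMap R (T j))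
  have hIj : ∀ j, ∀ x ∈ Ij j, IsNilpotent x := fun j x hx =>
    mem_nilradical.1 (Ideal.map_le_iff_le_comap.2 (fun r hr => Ideal.mem_comap.2 (mem_nilradical.2 ((hI r hr).map (algebraMap R (T j))))) hx)
  let Q : J → Type u := fun j => T j ⧸ Ij j
  letI aQ : ∀ j, Algebra R₀ (Q j) := fun j => (Ideal.Quotient.lift I (algebraMap R (Q j)) (fun r hr => by
    rw [IsScalarTower.algebraMap_apply R (T j) (Q j)]
    exact Ideal.Quotient.eq_zero_iff_mem.2 (Ideal.mem_map_of_mem _ hr))).toAlgebra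
  haveI : ∀ j, IsScalarTower R R₀ (Q j) := fun j => IsScalarTower.of_algebraMap_eq fun r => rfl
  have hQs : ∀ j, Function.Surjective (algebraMap R₀ (Q j)) := fun j z => by
    obtain ⟨x, rfl⟩ := Ideal.Quotient.mk_surjective z
    obtain ⟨r, rfl⟩ := hsplit.surj j x
    exact ⟨Ideal.Quotient.mk I r, rfl⟩
  have hQmap : ∀ i j, algebraMap R₀ (Q j) (e₀ i) = Ideal.Quotient.mk (Ij j) (algebraMap R (T j) (e i)) :=
    fun i j => by rw [← hee']; rfl
  have hsplit₀ : Glue.IsSplit e₀ Q := by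
    refine ⟨hco.complete, hQs, fun j => by rw [hQmap, hsplit.map_self, map_one],
      fun i j hij => by rw [hQmap, hsplit.map_ne i j hij, map_zero], fun j r hr => ?_⟩
    obtain ⟨r, rfl⟩ := Ideal.Quotient.mk_surjective r
    have h1 : algebraMap R (T j) r ∈ Ij j := Ideal.Quotient.eq_zero_iff_mem.1 hr
    obtain ⟨a, ha, har⟩ := (Ideal.mem_map_iff_of_surjective _ (hsplit.surj j)).1 h1
    have h2 := hsplit.ker j (r - a) (by rw [map_sub, har, sub_self])
    rw [← hee', ← map_mul, Ideal.Quotient.eq_zero_iff_mem, show e j * r = e j * a by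
      rw [← sub_eq_zero, ← mul_sub, h2]]
    exact I.mul_mem_left _ ha
  -- each factor is quasi-isotrivial of constant type
  have hconst : ∀ j, IsQuasiIsotrivialConst (Q j) (Q j ⊗[R₀] A₀) := by
    intro j
    let m := Fintype.card {i : Fin n // cl i = j}
    let ie : Fin m ≃ {i : Fin n // cl i = j} := (Fintype.equivFin _).symm
    obtain ⟨i₀, hi₀⟩ := Quotient.exists_rep j
    refine isQuasiIsotrivialConst_of_family (fun l : Fin m => Q j ⊗[R₀] S (ie l).1) (M := M i₀) (fun l => ?_) ?_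
    · obtain ⟨el⟩ := hd (ie l).1
      obtain ⟨e1⟩ := Glue.nonempty_diag_map (T := Q j ⊗[R₀] S (ie l).1)
        (Algebra.TensorProduct.includeRight : S (ie l).1 →ₐ[R₀] Q j ⊗[R₀] S (ie l).1) el
      obtain ⟨g⟩ := (hcl (ie l).1 i₀).1 ((ie l).2.trans hi₀.symm)
      exact ⟨((cbc (R := R₀) (A := A₀) (Q j) (Q j ⊗[R₀] S (ie l).1)).trans e1).trans
        (Glue.nonempty_equiv_of_mulEquiv _ g).some⟩
    · intro q
      let p : PrimeSpectrum R₀ := PrimeSpectrum.comap (algebraMap R₀ (Q j)) q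
      have hp : p ∈ U j := (hmem j p).2 fun h => q.2.ne_top ((Ideal.eq_top_iff_one _).2 (by
        have h' : algebraMap R₀ (Q j) (e₀ j) ∈ q.asIdeal := h
        rwa [hsplit₀.map_self] at h'))
      obtain ⟨i, hij, hfi⟩ := hp
      refine ⟨ie.symm ⟨i, hij⟩, ?_⟩
      have hie : (ie (ie.symm ⟨i, hij⟩)).1 = i := by simp
      obtain ⟨P, hP⟩ := himg _ p (show f (ie (ie.symm ⟨i, hij⟩)).1 ∉ p.asIdeal by rw [hie]; exact hfi)
      have hker : RingHom.ker (algebraMap R₀ (Q j)) ≤ RingHom.ker (algebraMap R₀ P.asIdeal.ResidueField) := by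
        intro r hr
        rw [RingHom.mem_ker, IsScalarTower.algebraMap_apply R₀ (S (ie (ie.symm ⟨i, hij⟩)).1) P.asIdeal.ResidueField,
          Ideal.algebraMap_residueField_eq_zero]
        have h1 : r ∈ p.asIdeal := by
          show algebraMap R₀ (Q j) r ∈ q.asIdeal
          rw [RingHom.mem_ker.1 hr]
          exact q.asIdeal.zero_mem
        rw [← hP] at h1
        exact h1
      let g : Q j →ₐ[R₀] P.asIdeal.ResidueField :=
        (Ideal.Quotient.liftₐ _ (Algebra.ofId R₀ _) hker).comp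
          (Ideal.quotientKerAlgEquivOfSurjective (f := Algebra.ofId R₀ (Q j)) (hQs j)).symm.toAlgHom
      let G := Algebra.TensorProduct.lift g (IsScalarTower.toAlgHom R₀ (S (ie (ie.symm ⟨i, hij⟩)).1) P.asIdeal.ResidueField)
        fun _ _ => Commute.all _ _
      refine ⟨⟨RingHom.ker G, RingHom.ker_isPrime G⟩, PrimeSpectrum.ext (Ideal.comap_injective_of_surjective _ (hQs j) ?_)⟩
      ext r
      show G (algebraMap (Q j) _ (algebraMap R₀ (Q j) r)) = 0 ↔ r ∈ p.asIdeal
      rw [← IsScalarTower.algebraMap_apply, AlgHom.commutes,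
        IsScalarTower.algebraMap_apply R₀ (S (ie (ie.symm ⟨i, hij⟩)).1) P.asIdeal.ResidueField,
        Ideal.algebraMap_residueField_eq_zero, ← hP]
      rfl
  choose Aj hAc hAh hAq hAe using fun j => exists_lift_const (T j) (Ij j) (hIj j) (Q j ⊗[R₀] A₀) (hconst j)
  obtain ⟨A, _, _, hA⟩ := Glue.exists_glue hsplit Aj
  refine ⟨A, inferInstance, inferInstance, ?_, Glue.exists_equiv_glue hsplit₀ fun j => ?_⟩
  · refine ⟨Set.range e, Ideal.eq_top_iff_one _ |>.2 ?_, ?_⟩
    · rw [← he.complete]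
      exact Ideal.sum_mem _ fun j _ => Ideal.subset_span ⟨j, rfl⟩
    · rintro _ ⟨j, rfl⟩
      obtain ⟨S', _, _, hS1, hS2, hS3⟩ := hAq j
      obtain ⟨εj⟩ := hA j
      obtain ⟨eb, -⟩ := Glue.exists_baseChangeEquiv S' εj
      obtain ⟨N, _, ⟨eN⟩⟩ := hS3
      exact ⟨S', inferInstance, inferInstance, hS1, hS2, N, inferInstance, ⟨eb.trans eN⟩⟩
  · exact (((cbc (R := R) (A := A) R₀ (Q j)).trans (cbc (R := R) (A := A) (T j) (Q j)).symm).trans
      (Glue.exists_baseChangeEquiv (Q j) (hA j).some).choose).trans (hAe j).some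

end Groth.Agent.MultType.LiftQI
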