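import Groth.Agent.MultType.SplitPart
import Groth.Agent.MultType.Field
import Mathlib.FieldTheory.IsAlgClosed.AlgebraicClosure
import Mathlib.LinearAlgebra.FreeModule.PID

/-!
An open and closed subgroup of multiplicative type containing all finite torsion subgroups is everything.
-/

universe u

open TensorProduct SGA3b WithConv
open scoped TensorProduct

namespace Groth.Agent.MultType

/-- Roots of characters killing the torsion. -/
lemma exists_char_root {K : Type u} [Field K] [IsAlgClosed K] {M : Type u} [CommGroup M] [Group.FG M] :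
    ∃ N : ℕ, 0 < N ∧ ∀ (χ : M →* Kˣ) (i : ℕ), 0 < i → ∃ θ : M →* Kˣ, θ ^ (i * N) = χ ^ N := by
  classical
  haveI : AddGroup.FG (Additive M) := inferInstance
  haveI : Module.Finite ℤ (Additive M) := Module.Finite.iff_addGroup_fg.2 inferInstance
  let T := Submodule.torsion ℤ (Additive M)
  haveI : Module.Finite ℤ T := Module.Finite.iff_fg.2 (IsNoetherian.noetherian T)
  haveI : Finite T := Module.finite_of_fg_torsion T Submodule.torsion_isTorsion
  haveI : Module.Free ℤ (Additive M ⧸ T) := Module.free_of_finite_type_torsion_free'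
  obtain ⟨ι, b⟩ := Module.Free.exists_basis (R := ℤ) (M := Additive M ⧸ T) |>.some
  refine ⟨Nat.card T, Nat.card_pos, fun χ i hi => ?_⟩
  let f : Additive M →ₗ[ℤ] Additive Kˣ := (MonoidHom.toAdditive (χ ^ Nat.card T)).toIntLinearMap
  have hfT : T ≤ LinearMap.ker f := fun t ht => by
    have h1 : Nat.card T • (⟨t, ht⟩ : T) = 0 := card_nsmul_eq_zero' (G := T)
    have h2 : Nat.card T • t = 0 := congrArg Subtype.val h1
    show Additive.ofMul ((χ ^ Nat.card T) (Additive.toMul t)) = 0
    rw [MonoidHom.pow_apply, ← map_pow, ← toMul_nsmul, h2, toMul_zero, map_one, ofMul_one]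
  let f' : (Additive M ⧸ T) →ₗ[ℤ] Additive Kˣ := T.liftQ f hfT
  have hroot : ∀ u : Kˣ, ∃ v : Kˣ, v ^ (i * Nat.card T) = u := fun u => by
    obtain ⟨z, hz⟩ := IsAlgClosed.exists_pow_nat_eq (u : K) (Nat.mul_pos hi (Nat.card_pos (α := T)))
    have hz0 : z ≠ 0 := fun h => u.ne_zero (by
      rw [← hz, h, zero_pow (Nat.mul_pos hi (Nat.card_pos (α := T))).ne'])
    exact ⟨Units.mk0 z hz0, Units.ext (by simpa using hz)⟩
  choose rt hrt using hroot
  let g : (Additive M ⧸ T) →ₗ[ℤ] Additive Kˣ := b.constr ℤ fun j => Additive.ofMul (rt (Additive.toMul (f' (b j))))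
  have hg : (i * Nat.card T) • g = f' := b.ext fun j => by
    show (i * Nat.card T) • g (b j) = f' (b j)
    rw [Module.Basis.constr_basis, ← ofMul_pow, hrt, ofMul_toMul]
  refine ⟨MonoidHom.toAdditive.symm ((g.comp T.mkQ).toAddMonoidHom), MonoidHom.ext fun m => ?_⟩
  have h := congr($hg (T.mkQ (Additive.ofMul m)))
  rw [MonoidHom.pow_apply]
  show Additive.toMul (g (T.mkQ (Additive.ofMul m))) ^ _ = _
  rw [← toMul_nsmul]
  exact congrArg Additive.toMul h

/-- Ascending chains: pairwise orthogonal nonzero idempotents do not form a sequence in a Noetherian ring. -/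
lemma false_of_orthogonal {R : Type u} [CommRing R] [IsNoetherianRing R] (f : ℕ → R)
    (hf : ∀ i, IsIdempotentElem (f i)) (h0 : ∀ i, f i ≠ 0) (ho : ∀ i j, i < j → f i * f j = 0) : False := by
  let J : ℕ →o Ideal R := ⟨fun n => Ideal.span (f '' {i | i < n}), fun a b hab =>
    Ideal.span_mono (Set.image_mono fun i hi => lt_of_lt_of_le hi hab)⟩
  obtain ⟨n, hn⟩ := monotone_stabilizes_iff_noetherian.2 inferInstance J
  have h1 : f n ∈ J n := by
    rw [hn (n + 1) n.le_succ]
    exact Ideal.subset_span ⟨n, Nat.lt_succ_self n, rfl⟩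
  refine h0 n ?_
  have h2 : J n ≤ RingHom.ker (Ideal.Quotient.mk (Ideal.span {1 - f n})) → f n = 0 := fun hle => by
    obtain ⟨t, ht⟩ := Ideal.mem_span_singleton'.1 (Ideal.Quotient.eq_zero_iff_mem.1 (hle h1))
    rw [← (hf n).eq]
    nth_rewrite 1 [← ht]
    rw [mul_assoc, sub_mul, one_mul, (hf n).eq, sub_self, mul_zero]
  refine h2 (Ideal.span_le.2 ?_)
  rintro _ ⟨i, hi, rfl⟩
  rw [SetLike.mem_coe, RingHom.mem_ker, Ideal.Quotient.eq_zero_iff_mem, Ideal.mem_span_singleton']
  exact ⟨f i, by rw [mul_sub, mul_one, ho i n hi, sub_zero]⟩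

variable {A : Type u} [CommRing A] {C : Type u} [CommRing C] [HopfAlgebra A C] {e : C}

/-- The group of points of a commutative Hopf algebra. -/
@[reducible]
noncomputable def convPoints (T : Type u) [CommRing T] [Algebra A T] : Group (WithConv (C →ₐ[A] T)) :=
  { (inferInstance : Monoid (WithConv (C →ₐ[A] T))) with
    inv := fun f => toConv (f.ofConv.comp (HopfAlgebra.antipodeAlgHom A C))
    inv_mul_cancel := fun f => by
      have h3 := AlgHom.comp_convMul_distrib f.ofConv (toConv (HopfAlgebra.antipodeAlgHom A C)) (toConv (AlgHom.id A C))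
      rw [AlgHom.antipode_id_cancel] at h3
      exact WithConv.ext (h3.symm.trans (AlgHom.ext fun x => f.ofConv.commutes _)) }

attribute [local instance] convPoints

section points

variable [hH : (Ideal.span {e}).IsHopfIdeal A] {T : Type u} [CommRing T] [Algebra A T]

lemma mul_apply_eq_zero {z w : WithConv (C →ₐ[A] T)} (hz : z.ofConv e = 0) (hw : w.ofConv e = 0) :
    (z * w).ofConv e = 0 := by
  have hk : ∀ z : WithConv (C →ₐ[A] T), z.ofConv e = 0 → ∀ x ∈ Ideal.span {e}, z.ofConv x = 0 := fun z hz x hx => by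
    obtain ⟨t, rfl⟩ := Ideal.mem_span_singleton'.1 hx
    rw [map_mul, hz, mul_zero]
  let z' := Ideal.Quotient.liftₐ (Ideal.span {e}) z.ofConv (hk z hz)
  let w' := Ideal.Quotient.liftₐ (Ideal.span {e}) w.ofConv (hk w hw)
  let q := Bialgebra.Quotient.mkBialgHom (R := A) (Ideal.span {e})
  have h := AlgHom.convMul_comp_bialgHom_distrib (toConv z') (toConv w') q
  have hz' : toConv ((toConv z').ofConv.comp (q : C →ₐ[A] _)) = z := WithConv.ext (AlgHom.ext fun x => rfl)
  have hw' : toConv ((toConv w').ofConv.comp (q : C →ₐ[A] _)) = w := WithConv.ext (AlgHom.ext fun x => rfl)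
  rw [hz', hw'] at h
  rw [← h]
  show (toConv z' * toConv w').ofConv (Ideal.Quotient.mk _ e) = 0
  rw [Ideal.Quotient.eq_zero_iff_mem.2 (Ideal.mem_span_singleton_self e), map_zero]

lemma inv_apply_eq_zero {z : WithConv (C →ₐ[A] T)} (hz : z.ofConv e = 0) : z⁻¹.ofConv e = 0 := by
  obtain ⟨t, ht⟩ := Ideal.mem_span_singleton'.1
    (hH.antipode_mem (x := e) (Ideal.mem_span_singleton_self e))
  show z.ofConv (HopfAlgebra.antipode A e) = 0
  rw [← ht, map_mul, hz, mul_zero]

variable (T) in
/-- Points killing `e`. -/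
noncomputable def pointsKilling : Subgroup (WithConv (C →ₐ[A] T)) where
  carrier := {z | z.ofConv e = 0}
  one_mem' := by
    show algebraMap A T (Coalgebra.counit e) = 0
    rw [show Coalgebra.counit (R := A) e = 0 from
      Submodule.IsCoideal.counit_eq_zero (R := A) (I := (Ideal.span {e}).restrictScalars A)
        (Ideal.mem_span_singleton_self e), map_zero]
  mul_mem' := mul_apply_eq_zero
  inv_mem' := inv_apply_eq_zero

lemma mem_pointsKilling (z : WithConv (C →ₐ[A] T)) : z ∈ pointsKilling (e := e) T ↔ z.ofConv e = 0 := Iff.rfl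

end points

/-- Points over fields have a power in the open and closed subgroup. -/
lemma exists_pow_mem [Algebra.FiniteType A C] [(Ideal.span {e}).IsHopfIdeal A] (he : IsIdempotentElem e)
    {K : Type u} [Field K] [Algebra A K] (x : WithConv (C →ₐ[A] K)) :
    ∃ i, 0 < i ∧ x ^ i ∈ pointsKilling (e := e) K := by
  by_contra! hn
  let CK := K ⊗[A] C
  let ιK : K →ₐ[A] CK := Algebra.TensorProduct.includeLeft
  let zu : WithConv (C →ₐ[A] CK) := toConv Algebra.TensorProduct.includeRight
  let xK : WithConv (C →ₐ[A] CK) := toConv (ιK.comp x.ofConv)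
  haveI : IsNoetherianRing CK := Algebra.FiniteType.isNoetherianRing K CK
  have hpush : ∀ {U V : Type u} [CommRing U] [Algebra A U] [CommRing V] [Algebra A V] (g : U →ₐ[A] V)
      (a : WithConv (C →ₐ[A] U)) (n : ℕ), toConv (g.comp (a ^ n).ofConv) = toConv (g.comp a.ofConv) ^ n := by
    intro U V _ _ _ _ g a n
    induction n with
    | zero =>
      rw [pow_zero, pow_zero]
      exact WithConv.ext (AlgHom.ext fun c => g.commutes _)
    | succ n ih =>
      rw [pow_succ, pow_succ, ← ih]
      exact WithConv.ext (AlgHom.comp_convMul_distrib g (a ^ n) a)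
  let f : ℕ → CK := fun i => (zu * xK ^ i).ofConv (1 - e)
  have hf : ∀ i, IsIdempotentElem (f i) := fun i => he.one_sub.map _
  refine false_of_orthogonal f hf (fun i hi => ?_) fun i j hij => ?_
  · let w : CK →ₐ[A] K :=
      Algebra.TensorProduct.lift (AlgHom.id A K) (x ^ i)⁻¹.ofConv fun _ _ => Commute.all _ _
    have h := congrArg w hi
    rw [map_zero, ← AlgHom.comp_apply, AlgHom.comp_convMul_distrib w zu (xK ^ i), hpush w xK i,
      show w.comp zu.ofConv = (x ^ i)⁻¹.ofConv from AlgHom.ext fun c => by simp [w, zu, CK],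
      show w.comp xK.ofConv = x.ofConv from AlgHom.ext fun c => by simp [w, xK, ιK, CK],
      toConv_ofConv, toConv_ofConv, inv_mul_cancel] at h
    change algebraMap A K (Coalgebra.counit (1 - e)) = 0 at h
    rw [map_sub, Bialgebra.counit_one, show Coalgebra.counit (R := A) e = 0 from
      Submodule.IsCoideal.counit_eq_zero (R := A) (I := (Ideal.span {e}).restrictScalars A)
        (Ideal.mem_span_singleton_self e), sub_zero, map_one] at h
    exact one_ne_zero h
  · set u := f i * f j
    have hu : IsIdempotentElem u := (hf i).mul (hf j)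
    let T := CK ⧸ Ideal.span {1 - u}
    let π : CK →ₐ[A] T := Ideal.Quotient.mkₐ A _
    have hπu : π u = 1 := by
      have : π (1 - u) = 0 := Ideal.Quotient.eq_zero_iff_mem.2 (Ideal.mem_span_singleton_self _)
      rwa [map_sub, map_one, sub_eq_zero, eq_comm] at this
    have hmem : ∀ k, π (f k) = 1 → toConv (π.comp zu.ofConv) * toConv (π.comp xK.ofConv) ^ k ∈ pointsKilling (e := e) T := by
      intro k hk
      rw [mem_pointsKilling, ← hpush π xK k]
      have h2 := AlgHom.congr_fun (AlgHom.comp_convMul_distrib π zu (xK ^ k)) (1 - e)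
      rw [AlgHom.comp_apply, show π ((zu * xK ^ k).ofConv (1 - e)) = 1 from hk, map_sub, map_one] at h2
      exact sub_eq_self.1 h2.symm
    have h1 : π (f i) * π (f j) = 1 := by rw [← map_mul]; exact hπu
    have hi1 : π (f i) = 1 := ((IsIdempotentElem.iff_eq_one_of_isUnit (IsUnit.of_mul_eq_one _ h1)).1 ((hf i).map π))
    have hj1 : π (f j) = 1 := ((IsIdempotentElem.iff_eq_one_of_isUnit (IsUnit.of_mul_eq_one_right _ h1)).1 ((hf j).map π))
    have hd := (pointsKilling (e := e) T).mul_mem ((pointsKilling (e := e) T).inv_mem (hmem i hi1)) (hmem j hj1)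
    have e1 : ∀ {G : Type u} [Group G] (a b : G), (a * b ^ i)⁻¹ * (a * b ^ j) = b ^ (j - i) := fun a b => by
      rw [mul_inv_rev, mul_assoc, inv_mul_cancel_left, inv_mul_eq_iff_eq_mul, ← pow_add, Nat.add_sub_cancel' hij.le]
    replace hd := Eq.subst (motive := fun z => z ∈ pointsKilling (e := e) T) (e1 _ _) hd
    rw [mem_pointsKilling, show toConv (π.comp xK.ofConv) = toConv ((π.comp ιK).comp x.ofConv) from rfl,
      ← hpush (π.comp ιK) x (j - i)] at hd
    have hne : (x ^ (j - i)).ofConv e = 1 := by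
      rcases IsIdempotentElem.iff_eq_zero_or_one.1 (he.map (x ^ (j - i)).ofConv) with h | h
      · exact absurd h (hn (j - i) (by omega))
      · exact h
    change (π.comp ιK) ((x ^ (j - i)).ofConv e) = 0 at hd
    rw [hne, map_one] at hd
    have h1u : (1 : CK) ∈ Ideal.span {1 - u} :=
      Ideal.Quotient.eq_zero_iff_mem.1 ((map_one (Ideal.Quotient.mk _)).trans hd)
    obtain ⟨t, ht⟩ := Ideal.mem_span_singleton'.1 h1u
    calc u = (1 : CK) * u := (one_mul u).symm
      _ = t * (1 - u) * u := by rw [ht]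
      _ = 0 := by rw [mul_assoc, sub_mul, one_mul, hu.eq, sub_self, mul_zero]

/-- Torsion finiteness forces the open and closed subgroup to be everything. -/
theorem eq_zero_of_torsion_finite [Coalgebra.IsCocomm A C] {I : Ideal A} (hI : I ≤ Ideal.jacobson ⊥)
    (hft : Algebra.FiniteType A C) [(Ideal.span {e}).IsHopfIdeal A] (he : IsIdempotentElem e)
    (heI : e ∈ Ideal.map (algebraMap A C) I)
    (S : Type u) [CommRing S] [Algebra A S] [Module.Finite A S] [Module.FaithfullyFlat A S]
    {M : Type u} [CommGroup M] (hFG : Nontrivial S → Group.FG M) (ψ : S ⊗[A] C →ₐc[S] MonoidAlgebra S M)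
    (hψ : Function.Surjective ψ)
    (hker : RingHom.ker (ψ : S ⊗[A] C →ₐ[S] MonoidAlgebra S M) = Ideal.span {(1 : S) ⊗ₜ[A] e})
    (hfin : ∀ n : ℕ, 0 < n → Module.Finite A (C ⧸ torsionIdeal A C n)) : e = 0 := by
  classical
  haveI := hft
  refine he.eq_zero_of_isNilpotent (nilpotent_iff_mem_prime.2 fun P hP => ?_)
  haveI := hP
  by_contra heP
  let K := AlgebraicClosure P.ResidueField
  let x : WithConv (C →ₐ[A] K) := toConv (IsScalarTower.toAlgHom A C K)
  have hxe : x.ofConv e ≠ 0 := fun h => heP (by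
    show e ∈ P
    rw [← Ideal.algebraMap_residueField_eq_zero]
    refine (algebraMap P.ResidueField K).injective ?_
    rw [map_zero, ← IsScalarTower.algebraMap_apply]
    exact h)
  -- a point of `S`
  haveI : Nontrivial (K ⊗[A] S) := by
    haveI : Nontrivial (S ⊗[A] K) := (Module.FaithfullyFlat.tensorProduct_mk_injective (A := A) (B := S) K).nontrivial
    exact (TensorProduct.comm A S K).injective.nontrivial
  obtain ⟨W, hW⟩ := Ideal.exists_maximal (K ⊗[A] S)
  letI : Field ((K ⊗[A] S) ⧸ W) := Ideal.Quotient.field W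
  haveI : Algebra.IsIntegral K ((K ⊗[A] S) ⧸ W) := inferInstance
  have hb := IsAlgClosed.algebraMap_bijective_of_isIntegral (k := K) (K := (K ⊗[A] S) ⧸ W)
  let σ : S →ₐ[A] K := ((AlgEquiv.ofBijective (Algebra.ofId K ((K ⊗[A] S) ⧸ W)) hb).symm.toAlgHom.restrictScalars A).comp
    ((Ideal.Quotient.mkₐ A W).comp Algebra.TensorProduct.includeRight)
  letI : Algebra S K := σ.toRingHom.toAlgebra
  haveI : IsScalarTower A S K := IsScalarTower.of_algebraMap_eq fun a => (σ.commutes a).symm
  haveI : Nontrivial S := nontrivial_of_ne (1 : S) 0 fun h => one_ne_zero (α := K) (by rw [← map_one σ, h, map_zero])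
  haveI := hFG inferInstance
  -- characters give points of the subgroup
  let Φ : C →ₐ[A] MonoidAlgebra S M :=
    ((ψ : S ⊗[A] C →ₐ[S] MonoidAlgebra S M).restrictScalars A).comp Algebra.TensorProduct.includeRight
  let ev : (M →* Kˣ) → (MonoidAlgebra S M →ₐ[A] K) := fun θ =>
    (MonoidAlgebra.lift S K M ((Units.coeHom K).comp θ)).restrictScalars A
  have hev : ∀ θ m, ev θ (MonoidAlgebra.single m 1) = θ m := fun θ m => by
    show (MonoidAlgebra.lift S K M ((Units.coeHom K).comp θ)) (MonoidAlgebra.single m 1) = _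
    simp
  have hevs : ∀ θ m (s : S), ev θ (MonoidAlgebra.single m s) = σ s * θ m := fun θ m s => by
    show (MonoidAlgebra.lift S K M ((Units.coeHom K).comp θ)) (MonoidAlgebra.single m s) = _
    simp [Algebra.smul_def]
    rfl
  let pt : (M →* Kˣ) → WithConv (C →ₐ[A] K) := fun θ => toConv ((ev θ).comp Φ)
  have hptmem : ∀ θ, pt θ ∈ pointsKilling (e := e) K := fun θ => by
    show ev θ (ψ ((1 : S) ⊗ₜ[A] e)) = 0
    rw [show ψ ((1 : S) ⊗ₜ[A] e) = 0 from hker.ge (Ideal.mem_span_singleton_self _), map_zero]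
  have hptmul : ∀ θ θ', pt (θ * θ') = pt θ * pt θ' := by
    intro θ θ'
    refine WithConv.ext (AlgHom.ext fun c => ?_)
    show ev (θ * θ') (ψ ((1 : S) ⊗ₜ[A] c)) = (pt θ * pt θ').ofConv c
    rw [AlgHom.convMul_apply, ← (Coalgebra.Repr.arbitrary A c).eq]
    let E : MonoidAlgebra S M ⊗[S] MonoidAlgebra S M →ₐ[S] K :=
      Algebra.TensorProduct.lift (MonoidAlgebra.lift S K M ((Units.coeHom K).comp θ))
        (MonoidAlgebra.lift S K M ((Units.coeHom K).comp θ')) fun _ _ => Commute.all _ _
    have hE : ∀ a b, E (a ⊗ₜ b) = ev θ a * ev θ' b := fun a b => by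
      simp [E]
      rfl
    have hEΔ : ∀ w, E (Coalgebra.comul w) = ev (θ * θ') w := by
      intro w
      induction w using MonoidAlgebra.induction_linear with
      | zero => simp
      | add p q hp hq => simp only [map_add, hp, hq]
      | single m s =>
        rw [MonoidAlgebra.comul_single]
        simp [hE, hevs]
        ring
    have h1 := hEΔ (ψ ((1 : S) ⊗ₜ[A] c))
    rw [← CoalgHomClass.map_comp_comul_apply ψ] at h1
    rw [← h1, TensorProduct.comul_tmul, CommSemiring.comul_apply, ← (Coalgebra.Repr.arbitrary A c).eq]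
    simp only [TensorProduct.tmul_sum, map_sum, TensorProduct.AlgebraTensorModule.tensorTensorTensorComm_tmul,
      TensorProduct.map_tmul, Algebra.TensorProduct.map_tmul, Algebra.TensorProduct.lmul'_apply_tmul]
    exact Finset.sum_congr rfl fun k _ => hE _ _
  let ptHom : (M →* Kˣ) →* WithConv (C →ₐ[A] K) := MonoidHom.mk' pt hptmul
  have hsurj : ∀ g ∈ pointsKilling (e := e) K, ∃ θ, pt θ = g := by
    intro g hg
    let G : S ⊗[A] C →ₐ[A] K := Algebra.TensorProduct.lift σ g.ofConv fun _ _ => Commute.all _ _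
    have hGk : ∀ y, ψ y = 0 → G y = 0 := fun y hy => by
      obtain ⟨t, rfl⟩ := Ideal.mem_span_singleton'.1 (hker.le hy)
      rw [map_mul, show G ((1 : S) ⊗ₜ[A] e) = g.ofConv e by simp [G], show g.ofConv e = 0 from hg, mul_zero]
    choose γ hγ using fun w => hψ w
    let χ : M →* K :=
      { toFun := fun m => G (γ (MonoidAlgebra.single m 1))
        map_one' := by
          rw [← map_one G, ← sub_eq_zero, ← map_sub]
          exact hGk _ (by rw [map_sub, hγ, map_one, MonoidAlgebra.one_def, sub_self])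
        map_mul' := fun a b => by
          rw [← map_mul, ← sub_eq_zero, ← map_sub]
          exact hGk _ (by rw [map_sub, map_mul, hγ, hγ, hγ, MonoidAlgebra.single_mul_single, one_mul, sub_self]) }
    refine ⟨χ.toHomUnits, WithConv.ext (AlgHom.ext fun c => ?_)⟩
    have hall : ∀ y, ev χ.toHomUnits (ψ y) = G y := by
      have h1 : ∀ w, ∃ y, ψ y = w ∧ ev χ.toHomUnits w = G y := by
        intro w
        induction w using MonoidAlgebra.induction_linear with
        | zero => exact ⟨0, map_zero ψ, by simp⟩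
        | add p q hp hq =>
          obtain ⟨y, hy, hy'⟩ := hp
          obtain ⟨z, hz, hz'⟩ := hq
          exact ⟨y + z, by rw [map_add, hy, hz], by rw [map_add, map_add, hy', hz']⟩
        | single m s =>
          refine ⟨s • γ (MonoidAlgebra.single m 1), by rw [map_smul, hγ]; simp, ?_⟩
          rw [hevs, Algebra.smul_def, map_mul]
          congr 1
          simp [G]
      intro y
      obtain ⟨z, hz, hz'⟩ := h1 (ψ y)
      rw [hz', ← sub_eq_zero, ← map_sub]
      exact hGk _ (by rw [map_sub, hz, sub_self])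
    show ev χ.toHomUnits (ψ ((1 : S) ⊗ₜ[A] c)) = g.ofConv c
    rw [hall]
    simp [G]
  -- a torsion point outside
  obtain ⟨i, hi, hxi⟩ := exists_pow_mem he x
  obtain ⟨θ, hθ⟩ := hsurj _ hxi
  obtain ⟨N, hN, hroots⟩ := exists_char_root (K := K) (M := M)
  obtain ⟨θ', hθ'⟩ := hroots θ i hi
  set y := x * (pt θ')⁻¹ with hy
  have hyn : y ^ (i * N) = 1 := by
    rw [hy, mul_pow, inv_pow, show pt θ' ^ (i * N) = ptHom θ' ^ (i * N) from rfl, ← map_pow, hθ', show ptHom (θ ^ N) = ptHom θ ^ N from map_pow ptHom θ N,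
      show ptHom θ = x ^ i from hθ, ← pow_mul, mul_inv_cancel]
  have hye : y.ofConv e ≠ 0 := fun h => hxe (by
    have h2 := mul_apply_eq_zero (e := e) h (hptmem θ')
    rwa [hy, inv_mul_cancel_right] at h2)
  have hJ : torsionIdeal A C (i * N) ≤ RingHom.ker y.ofConv := by
    rw [torsionIdeal_le_iff]
    intro c
    show y.ofConv (powConv A C (i * N) c - algebraMap A C (Coalgebra.counit c)) = 0
    have h1 : ∀ n, toConv (y.ofConv.comp (powConv A C n)) = y ^ n := by
      intro n
      induction n with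
      | zero =>
        rw [pow_zero, powConv, pow_zero]
        exact WithConv.ext (AlgHom.ext fun c => y.ofConv.commutes _)
      | succ n ih =>
        rw [pow_succ, ← ih, powConv, pow_succ]
        exact WithConv.ext (AlgHom.comp_convMul_distrib y.ofConv _ _)
    have h2 := congrArg (fun z : WithConv (C →ₐ[A] K) => z.ofConv c) ((h1 (i * N)).trans hyn)
    rw [map_sub, AlgHom.commutes]
    exact sub_eq_zero.2 h2
  haveI := hfin (i * N) (Nat.mul_pos hi hN)
  set P' := RingHom.ker y.ofConv
  haveI : P'.IsPrime := RingHom.ker_isPrime _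
  obtain ⟨m, hm, hle⟩ := Ideal.exists_le_maximal P' (Ideal.IsPrime.ne_top inferInstance)
  haveI := hm
  haveI : (m.map (Ideal.Quotient.mk (torsionIdeal A C (i * N)))).IsMaximal :=
    (Ideal.map_eq_top_or_isMaximal_of_surjective _ Ideal.Quotient.mk_surjective hm).resolve_left fun h => hm.ne_top (by
      have h2 := congrArg (Ideal.comap (Ideal.Quotient.mk (torsionIdeal A C (i * N)))) h
      rwa [Ideal.comap_map_of_surjective' _ Ideal.Quotient.mk_surjective, Ideal.mk_ker, Ideal.comap_top,
        sup_eq_left.2 (hJ.trans hle)] at h2)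
  have hm0 := Ideal.isMaximal_comap_of_isIntegral_of_isMaximal (R := A)
    (m.map (Ideal.Quotient.mk (torsionIdeal A C (i * N))))
  have hcomap : (m.map (Ideal.Quotient.mk (torsionIdeal A C (i * N)))).comap
      (algebraMap A (C ⧸ torsionIdeal A C (i * N))) = m.comap (algebraMap A C) := by
    rw [show algebraMap A (C ⧸ torsionIdeal A C (i * N)) = (Ideal.Quotient.mk _).comp (algebraMap A C) from rfl,
      ← Ideal.comap_comap, Ideal.comap_map_of_surjective' _ Ideal.Quotient.mk_surjective, Ideal.mk_ker,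
      sup_eq_left.2 (hJ.trans hle)]
  rw [hcomap] at hm0
  have hem : e ∈ m := by
    refine (Ideal.map_le_iff_le_comap.2 ?_) heI
    exact hI.trans (sInf_le ⟨bot_le, hm0⟩)
  have h1e : 1 - e ∈ P' := by
    refine ((inferInstance : P'.IsPrime).mem_or_mem (show (1 - e) * e ∈ P' from ?_)).resolve_right fun h => hye h
    rw [sub_mul, one_mul, he.eq, sub_self]
    exact P'.zero_mem
  exact hm.ne_top ((Ideal.eq_top_iff_one m).2 (by simpa using m.add_mem hem (hle h1e)))

end Groth.Agent.MultType
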