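import Groth.Agent.MultType.Content

/-!
Power maps and inverses through a diagonalisation; passage to finite and quotient algebras.
-/

universe u v

open TensorProduct WithConv MonoidAlgebra SGA3b
open scoped TensorProduct

namespace Groth.Agent.MultType

variable {R : Type u} [CommRing R] {R' : Type u} [CommRing R'] [Algebra R R']
  {A : Type u} [CommRing A] [Bialgebra R A] {M : Type u} [CommGroup M]
  (e : (R' ⊗[R] A) ≃ₐc[R'] MonoidAlgebra R' M)

lemma counit_emb (a : A) :
    Coalgebra.counit (R := R') (emb e a) = algebraMap R R' (Coalgebra.counit a) := by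
  have h := CoalgHomClass.counit_comp_apply (e : (R' ⊗[R] A) →ₐc[R'] MonoidAlgebra R' M)
    ((1 : R') ⊗ₜ[R] a)
  refine h.trans ?_
  rw [TensorProduct.counit_tmul, CommSemiring.counit_apply, ← Algebra.algebraMap_eq_smul_one]

lemma res_one {T : Type*} [CommRing T] [Algebra R' T] [Algebra R T] [IsScalarTower R R' T]
    (w : MonoidAlgebra R' M →ₗ[R'] T) (h : ∀ m, w (single m 1) = 1) :
    toConv (res e w) = 1 := by
  have hw : w = Algebra.linearMap R' T ∘ₗ Coalgebra.counit :=
    (MonoidAlgebra.basis M R').ext fun m => by simp [h]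
  refine WithConv.ext (LinearMap.ext fun a => ?_)
  show w (emb e a) = algebraMap R T (Coalgebra.counit a)
  rw [hw, LinearMap.comp_apply, counit_emb, Algebra.linearMap_apply, ← IsScalarTower.algebraMap_apply]

/-- The `n`-th power map of `R'[M]`. -/
noncomputable def pw (n : ℕ) : MonoidAlgebra R' M →ₐ[R'] MonoidAlgebra R' M :=
  MonoidAlgebra.mapDomainAlgHom R' R' (powMonoidHom n)

@[simp] lemma pw_single (n : ℕ) (m : M) (r : R') : pw n (single m r) = single (m ^ n) r := by
  simp [pw]

/-- The inversion of `R'[M]`. -/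
noncomputable def inv' : MonoidAlgebra R' M →ₐ[R'] MonoidAlgebra R' M :=
  MonoidAlgebra.mapDomainAlgHom R' R' (invMonoidHom : M →* M)

@[simp] lemma inv'_single (m : M) (r : R') : inv' (single m r) = single m⁻¹ r := by
  simp [inv']

lemma emb_pow (n : ℕ) :
    (toConv (emb e) : WithConv (A →ₐ[R] MonoidAlgebra R' M)) ^ n =
      toConv (((pw n).restrictScalars R).comp (emb e)) := by
  apply WithConv.ofConv_injective
  apply AlgHom.toLinearMap_injective
  apply WithConv.toConv_injective
  rw [AlgHom.toLinearMap_convPow]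
  show (toConv (res e LinearMap.id)) ^ n = toConv (res e (pw n).toLinearMap)
  induction n with
  | zero => rw [pow_zero, res_one e _ fun m => by simp [one_def]]
  | succ n ih =>
    rw [pow_succ, ih]
    exact res_convMul e _ _ _ fun m => by simp [pow_succ]

lemma inv'_comp_emb_mul :
    (toConv (emb e) : WithConv (A →ₐ[R] MonoidAlgebra R' M)) *
      toConv (((inv' (R' := R') (M := M)).restrictScalars R).comp (emb e)) = 1 := by
  apply WithConv.ofConv_injective
  apply AlgHom.toLinearMap_injective
  apply WithConv.toConv_injective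
  rw [AlgHom.toLinearMap_convMul, AlgHom.toLinearMap_convOne]
  show toConv (res e LinearMap.id) * toConv (res e (inv' (R' := R') (M := M)).toLinearMap) = 1
  rw [res_convMul e _ _ (Algebra.linearMap R' _ ∘ₗ Coalgebra.counit) fun m => by simp]
  exact res_one e _ fun m => by simp [one_def]

/-- A bialgebra map into a diagonalisable one intertwines the antipode with inversion. -/
lemma emb_comp_antipode {C : Type v} [CommRing C] [HopfAlgebra R C] (φ : C →ₐc[R] A) (c : C) :
    emb e (φ (HopfAlgebra.antipode R c)) = inv' (emb e (φ c)) := by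
  let f : WithConv (C →ₐ[R] MonoidAlgebra R' M) := toConv ((emb e).comp (φ : C →ₐ[R] A))
  let g : WithConv (C →ₐ[R] MonoidAlgebra R' M) :=
    toConv ((((inv' (R' := R') (M := M)).restrictScalars R).comp (emb e)).comp (φ : C →ₐ[R] A))
  have h : f * g = 1 := by
    have h1 := AlgHom.convMul_comp_bialgHom_distrib (toConv (emb e))
      (toConv (((inv' (R' := R') (M := M)).restrictScalars R).comp (emb e))) φ
    rw [inv'_comp_emb_mul] at h1
    refine WithConv.ext (h1.symm.trans ?_)
    refine AlgHom.ext fun x => ?_
    show algebraMap R _ (Coalgebra.counit (φ x)) = algebraMap R _ (Coalgebra.counit x)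
    rw [CoalgHomClass.counit_comp_apply]
  let F : C →ₐ[R] MonoidAlgebra R' M := (emb e).comp (φ : C →ₐ[R] A)
  let k : WithConv (C →ₐ[R] MonoidAlgebra R' M) :=
    toConv (F.comp (HopfAlgebra.antipodeAlgHom R C))
  have h2 : k * f = 1 := by
    have h3 := AlgHom.comp_convMul_distrib F (toConv (HopfAlgebra.antipodeAlgHom R C))
      (toConv (AlgHom.id R C))
    rw [AlgHom.antipode_id_cancel] at h3
    refine WithConv.ext (h3.symm.trans ?_)
    exact AlgHom.ext fun x => F.commutes _
  exact congr(($(left_inv_eq_right_inv h2 h)).ofConv c)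

lemma emb_powConv {A : Type u} [CommRing A] [HopfAlgebra R A]
    (e : (R' ⊗[R] A) ≃ₐc[R'] MonoidAlgebra R' M) (n : ℕ) (a : A) :
    emb e (powConv R A n a) = pw n (emb e a) := by
  have h : ∀ n : ℕ, toConv ((emb e).comp (powConv R A n)) =
      (toConv (emb e) : WithConv (A →ₐ[R] MonoidAlgebra R' M)) ^ n := by
    intro n
    induction n with
    | zero =>
      refine WithConv.ext (AlgHom.ext fun x => ?_)
      show emb e (powConv R A 0 x) = ((toConv (emb e) : WithConv (A →ₐ[R] _)) ^ 0).ofConv x
      rw [pow_zero, powConv, pow_zero, AlgHom.convOne_apply, AlgHom.convOne_apply, AlgHom.commutes]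
    | succ n ih =>
      rw [pow_succ, ← ih, powConv, pow_succ, AlgHom.comp_convMul_distrib, toConv_ofConv]
      rfl
  have h' := h n
  rw [emb_pow] at h'
  exact congr(($h').ofConv a)

/-- Two `R'`-algebra maps out of `R'[M]` agree if they agree on the image of `A`. -/
lemma algHom_ext_emb {T : Type*} [Semiring T] [Algebra R' T]
    {x y : MonoidAlgebra R' M →ₐ[R'] T} (h : ∀ a, x (emb e a) = y (emb e a)) : x = y := by
  let ee : (R' ⊗[R] A) ≃ₐ[R'] MonoidAlgebra R' M := (e : (R' ⊗[R] A) ≃ₐ[R'] MonoidAlgebra R' M)
  refine AlgHom.ext fun z => ?_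
  rw [← ee.apply_symm_apply z]
  induction ee.symm z using TensorProduct.induction_on with
  | zero => simp
  | tmul r a =>
    rw [show r ⊗ₜ[R] a = r • ((1 : R') ⊗ₜ[R] a) by simp [TensorProduct.smul_tmul'],
      map_smul, map_smul, map_smul]
    exact congrArg (r • ·) (h a)
  | add a b ha hb => rw [map_add, map_add, map_add, ha, hb]

end Groth.Agent.MultType
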