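import Groth.Agent.MultType.LiftNil
import Groth.Agent.MultType.Quot

/-!
Flat deformations of diagonalisable groups are diagonalisable.
-/

universe u v

open TensorProduct WithConv SGA3b
open scoped TensorProduct

namespace Groth.Agent.MultType

lemma ulift_mint_ext {X : Type*} [Monoid X] {f g : ULift.{u} (Multiplicative ℤ) →* X}
    (h : f (ULift.up (Multiplicative.ofAdd 1)) = g (ULift.up (Multiplicative.ofAdd 1))) : f = g := by
  have key : f.comp MulEquiv.ulift.symm.toMonoidHom = g.comp MulEquiv.ulift.symm.toMonoidHom :=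
    MonoidHom.ext_mint h
  exact MonoidHom.ext fun n => congr($key (MulEquiv.ulift n))

instance formallySmooth_laurent (R : Type u) [CommRing R] :
    Algebra.FormallySmooth R (MonoidAlgebra R (ULift.{u} (Multiplicative ℤ))) := by
  refine Algebra.FormallySmooth.of_comp_surjective fun B _ _ I hI f => ?_
  let t : ULift.{u} (Multiplicative ℤ) := ULift.up (Multiplicative.ofAdd 1)
  obtain ⟨b, hb⟩ := Ideal.Quotient.mk_surjective (f (MonoidAlgebra.single t 1))
  have hu : IsUnit b := by
    have h1 : IsUnit (f (MonoidAlgebra.single t 1)) :=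
      ((Group.isUnit t).map (MonoidAlgebra.of R (ULift.{u} (Multiplicative ℤ)))).map f
    obtain ⟨c, hc⟩ := Ideal.Quotient.mk_surjective (↑h1.unit⁻¹ : B ⧸ I)
    refine isUnit_of_mul_isUnit_left (y := c) ?_
    have h2 : b * c - 1 ∈ I := by
      rw [← Ideal.Quotient.eq, map_mul, hb, hc, map_one]
      exact h1.mul_val_inv
    have h3 : IsNilpotent (b * c - 1) := ⟨2, by
      have := Ideal.pow_mem_pow h2 2
      rwa [hI, Ideal.mem_bot] at this⟩
    simpa using h3.isUnit_add_one
  let θ : ULift.{u} (Multiplicative ℤ) →* B :=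
    ((Units.coeHom B).comp (zpowersHom Bˣ hu.unit)).comp MulEquiv.ulift.toMonoidHom
  refine ⟨MonoidAlgebra.lift R B _ θ, MonoidAlgebra.algHom_ext' (MonoidHom.ext fun n => ?_) (by ext)⟩
  have key : ((Ideal.Quotient.mk I : B →* B ⧸ I).comp θ).comp MulEquiv.ulift.symm.toMonoidHom =
      ((f : MonoidAlgebra R (ULift.{u} (Multiplicative ℤ)) →* B ⧸ I).comp (MonoidAlgebra.of R _)).comp
        MulEquiv.ulift.symm.toMonoidHom :=
    MonoidHom.ext_mint (by simp [θ, zpowersHom_apply, hb, t]; rfl)
  have := congr($key (MulEquiv.ulift n))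
  simpa [θ] using this

variable {R : Type u} [CommRing R] {S : Type u} [CommRing S] [Algebra R S]

lemma mem_map_ker_of_tmul (hS : Function.Surjective (algebraMap R S)) {N : Type u} [CommRing N] [Algebra R N]
    {x : N} (hx : (1 : S) ⊗ₜ[R] x = 0) :
    x ∈ Ideal.map (algebraMap R N) (RingHom.ker (algebraMap R S)) := by
  set J := RingHom.ker (algebraMap R S) with hJ
  let e : (R ⧸ J) ≃ₐ[R] S := Ideal.quotientKerAlgEquivOfSurjective (f := Algebra.ofId R S) hS
  have h : (1 : R ⧸ J) ⊗ₜ[R] x = 0 := by
    apply (TensorProduct.congr e.toLinearEquiv (LinearEquiv.refl R N)).injective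
    rw [map_zero, TensorProduct.congr_tmul]
    simpa using hx
  rw [← (TensorProduct.quotTensorEquivQuotSMul N J).map_eq_zero_iff,
    TensorProduct.quotTensorEquivQuotSMul_mk_one_tmul, Submodule.Quotient.mk_eq_zero, Ideal.smul_top_eq_map] at h
  exact h

/-- A lift of a basis of the reduction of a flat module modulo a nilpotent ideal is a basis. -/
lemma exists_basis_lift (hS : Function.Surjective (algebraMap R S))
    (hn : IsNilpotent (RingHom.ker (algebraMap R S))) {N : Type u} [CommRing N] [Algebra R N]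
    [Module.Flat R N] {ι : Type u} (b : Module.Basis ι S (S ⊗[R] N)) (g : ι → N)
    (hg : ∀ i, (1 : S) ⊗ₜ[R] g i = b i) : ∃ B : Module.Basis ι R N, ⇑B = g := by
  classical
  set J := RingHom.ker (algebraMap R S) with hJ
  let F : (ι →₀ R) →ₗ[R] N := Finsupp.linearCombination R g
  obtain ⟨k, hk⟩ := hn
  have hbase : ∀ z : ι →₀ R, (1 : S) ⊗ₜ[R] F z =
      b.repr.symm (Finsupp.mapRange (algebraMap R S) (map_zero _) z) := by
    intro z
    induction z using Finsupp.induction_linear with
    | zero => simp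
    | add x y hx hy => rw [map_add, TensorProduct.tmul_add, hx, hy, Finsupp.mapRange_add (map_add _), map_add]
    | single i r =>
      rw [Finsupp.linearCombination_single, Finsupp.mapRange_single, Module.Basis.repr_symm_single,
        TensorProduct.tmul_smul, hg, algebraMap_smul]
  have hsurj : LinearMap.range F = ⊤ := by
    have h1 : (⊤ : Submodule R N) ≤ LinearMap.range F ⊔ J • ⊤ := by
      intro x _
      obtain ⟨z, hz⟩ := Finsupp.mapRange_surjective (α := ι) (algebraMap R S) (map_zero _) hS
        (b.repr ((1 : S) ⊗ₜ[R] x))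
      have h : (1 : S) ⊗ₜ[R] (x - F z) = 0 := by
        rw [TensorProduct.tmul_sub, hbase, hz, LinearEquiv.symm_apply_apply, sub_self]
      have hm := mem_map_ker_of_tmul hS h
      rw [← add_sub_cancel (F z) x]
      exact Submodule.add_mem_sup ⟨z, rfl⟩ (by rw [Ideal.smul_top_eq_map]; exact hm)
    have h2 : ∀ j : ℕ, (⊤ : Submodule R N) ≤ LinearMap.range F ⊔ J ^ j • ⊤ := by
      intro j
      induction j with
      | zero => simp only [pow_zero, one_smul]; exact le_sup_right
      | succ j ih =>
        refine h1.trans (sup_le le_sup_left ?_)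
        refine (Submodule.smul_mono le_rfl ih).trans ?_
        rw [Submodule.smul_sup, ← Submodule.smul_assoc, smul_eq_mul, ← pow_succ']
        exact sup_le (Submodule.smul_le_right.trans le_sup_left) le_sup_right
    have h3 := h2 k
    rw [hk] at h3
    exact top_le_iff.1 (h3.trans (sup_le le_rfl (by simp)))
  have hFs : Function.Surjective F := LinearMap.range_eq_top.1 hsurj
  have hinj : Function.Injective F := by
    rw [← LinearMap.ker_eq_bot]
    set K := LinearMap.ker F with hK
    have hl : Function.Injective (K.subtype.lTensor (R ⧸ J)) := by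
      have h0 := @LinearMap.lTensor_injective_of_exact_of_flat R _ K _ _ (ι →₀ R) N _ _ _ _ _ F hFs
      exact h0 K.subtype K.subtype_injective (LinearMap.exact_subtype_ker_map F) (R ⧸ J)
    have hKJ : K ≤ J • K := by
      intro z hz
      have hzJ : ∀ i, z i ∈ J := by
        intro i
        have h0 := hbase z
        rw [show F z = 0 from hz, TensorProduct.tmul_zero] at h0
        have h1 := congr(b.repr $h0 i)
        rw [map_zero, LinearEquiv.apply_symm_apply] at h1
        exact h1.symm
      have hzJ' : z ∈ J • (⊤ : Submodule R (ι →₀ R)) := by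
        rw [← Finsupp.sum_single z]
        refine Submodule.sum_mem _ fun i _ => ?_
        rw [← Finsupp.smul_single_one]
        exact Submodule.smul_mem_smul (hzJ i) Submodule.mem_top
      have h2 : (1 : R ⧸ J) ⊗ₜ[R] (⟨z, hz⟩ : K) = 0 := by
        apply hl
        rw [map_zero, LinearMap.lTensor_tmul, Submodule.coe_subtype]
        apply (TensorProduct.quotTensorEquivQuotSMul (ι →₀ R) J).injective
        rw [map_zero, TensorProduct.quotTensorEquivQuotSMul_mk_one_tmul, Submodule.Quotient.mk_eq_zero]
        exact hzJ'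
      rw [← (TensorProduct.quotTensorEquivQuotSMul K J).map_eq_zero_iff,
        TensorProduct.quotTensorEquivQuotSMul_mk_one_tmul, Submodule.Quotient.mk_eq_zero] at h2
      have h3 := Submodule.mem_map_of_mem (f := K.subtype) h2
      rw [Submodule.map_smul'', Submodule.map_top, Submodule.range_subtype] at h3
      exact h3
    have h4 : ∀ j : ℕ, K ≤ J ^ j • K := by
      intro j
      induction j with
      | zero => simp
      | succ j ih =>
        refine hKJ.trans ((Submodule.smul_mono le_rfl ih).trans ?_)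
        rw [← Submodule.smul_assoc, smul_eq_mul, ← pow_succ']
    have h5 := h4 k
    rw [hk] at h5
    simpa using h5
  let B : Module.Basis ι R N :=
    Finsupp.basisSingleOne.map (LinearEquiv.ofBijective F ⟨hinj, hFs⟩)
  exact ⟨B, funext fun i => by simp [B, F]⟩

variable {A : Type u} [CommRing A] [HopfAlgebra R A]

/-- Square zero deformations. -/
lemma isDiag_of_sq_zero [Module.Flat R A] (hS : Function.Surjective (algebraMap R S))
    (hsq : RingHom.ker (algebraMap R S) * RingHom.ker (algebraMap R S) = ⊥)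
    (h : IsDiag S (S ⊗[R] A)) : IsDiag R A := by
  classical
  obtain ⟨M, _, ⟨e⟩⟩ := h
  set J := RingHom.ker (algebraMap R S) with hJ
  have hn : IsNilpotent J := ⟨2, by rw [pow_two]; exact hsq⟩
  let ee : (S ⊗[R] A) ≃ₐ[S] MonoidAlgebra S M := (e : (S ⊗[R] A) ≃ₐ[S] MonoidAlgebra S M)
  have hlift : ∀ x : S ⊗[R] A, ∃ a : A, (1 : S) ⊗ₜ[R] a = x := by
    intro x
    induction x using TensorProduct.induction_on with
    | zero => exact ⟨0, TensorProduct.tmul_zero _ _⟩
    | tmul s a =>
      obtain ⟨r, rfl⟩ := hS s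
      exact ⟨r • a, by rw [TensorProduct.tmul_smul, TensorProduct.smul_tmul', Algebra.smul_def, _root_.mul_one]⟩
    | add x y hx hy =>
      obtain ⟨a, rfl⟩ := hx
      obtain ⟨b, rfl⟩ := hy
      exact ⟨a + b, TensorProduct.tmul_add _ _ _⟩
  choose g0 hg0 using fun m : M => hlift (ee.symm (MonoidAlgebra.single m 1))
  let g : M → A := Function.update g0 1 1
  have hg : ∀ m, (1 : S) ⊗ₜ[R] g m = ee.symm (MonoidAlgebra.single m 1) := by
    intro m
    by_cases hm : m = 1
    · subst hm
      rw [show g 1 = 1 from Function.update_self _ _ _, ← MonoidAlgebra.one_def, map_one]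
      rfl
    · rw [show g m = g0 m from Function.update_of_ne hm _ _]; exact hg0 m
  let bS : Module.Basis M S (S ⊗[R] A) := (MonoidAlgebra.basis M S).map ee.toLinearEquiv.symm
  have hbS : ∀ m, bS m = ee.symm (MonoidAlgebra.single m 1) := fun m => by simp [bS]
  obtain ⟨bR, hbR⟩ := exists_basis_lift hS hn bS g fun m => by rw [hg, hbS]
  have hgl : ∀ m, IsGroupLikeElem S ((1 : S) ⊗ₜ[R] g m) := fun m => by
    rw [hg]
    exact (MonoidAlgebra.isGroupLikeElem_single_one m).map (e.symm : MonoidAlgebra S M →ₐc[S] S ⊗[R] A)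
  -- an almost invariant functional
  let l : A →ₗ[R] R := bR.coord 1
  have hb1 : bR 1 = 1 := by rw [hbR]; exact Function.update_self _ _ _
  have h1 : l 1 = 1 := by
    conv_lhs => rw [← hb1]
    simp [l]
  let ω : A ⊗[R] A →ₗ[R] (S ⊗[R] A) ⊗[S] (S ⊗[R] A) :=
    TensorProduct.lift ((((TensorProduct.mk S (S ⊗[R] A) (S ⊗[R] A)).restrictScalars₁₂ R R)).compl₁₂
      (TensorProduct.mk R S A 1) (TensorProduct.mk R S A 1))
  have hω : ∀ a, Coalgebra.comul (R := S) ((1 : S) ⊗ₜ[R] a) = ω (Coalgebra.comul a) := fun a => by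
    rw [TensorProduct.comul_tmul, CommSemiring.comul_apply, ← (Coalgebra.Repr.arbitrary R a).eq]
    simp [ω, TensorProduct.tmul_sum]
  let lS : S ⊗[R] A →ₗ[S] S := (TensorProduct.AlgebraTensorModule.rid R S S).toLinearMap ∘ₗ
    TensorProduct.AlgebraTensorModule.map LinearMap.id l
  let Ψ : A →ₗ[R] A :=
    (TensorProduct.lid R A).toLinearMap ∘ₗ l.rTensor A ∘ₗ (TensorProduct.comm R A A).toLinearMap ∘ₗ
      Coalgebra.comul - LinearMap.toSpanSingleton R A 1 ∘ₗ l
  have hΨ : ∀ a, (1 : S) ⊗ₜ[R] Ψ a = 0 := by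
    suffices h : (TensorProduct.mk R S A 1) ∘ₗ Ψ = 0 from fun a => congr($h a)
    refine bR.ext fun m => ?_
    have e1 : ∀ z : A ⊗[R] A, (1 : S) ⊗ₜ[R] (TensorProduct.lid R A (l.rTensor A (TensorProduct.comm R A A z))) =
        (TensorProduct.lid S (S ⊗[R] A)) (lS.rTensor _ (TensorProduct.comm S _ _ (ω z))) := by
      intro z
      induction z using TensorProduct.induction_on with
      | zero => simp
      | tmul x y =>
        simp [ω, lS, TensorProduct.smul_tmul', TensorProduct.tmul_smul, Algebra.algebraMap_eq_smul_one]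
      | add a b ha hb => simp only [map_add, TensorProduct.tmul_add, ha, hb]
    show (1 : S) ⊗ₜ[R] Ψ (bR m) = 0
    simp only [Ψ, LinearMap.sub_apply, LinearMap.comp_apply, LinearEquiv.coe_coe, TensorProduct.tmul_sub, e1,
      ← hω, congrFun hbR m, (hgl m).comul_eq_tmul_self, TensorProduct.comm_tmul, LinearMap.rTensor_tmul,
      TensorProduct.lid_tmul, LinearMap.toSpanSingleton_apply]
    have hlg : l (g m) = if m = 1 then 1 else 0 := by
      rw [← congrFun hbR m]
      simp [l, Finsupp.single_apply]
    rw [show lS ((1 : S) ⊗ₜ[R] g m) = algebraMap R S (l (g m)) by simp [lS, Algebra.smul_def], hlg]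
    split_ifs with hm
    · subst hm; simp [g]
    · simp
  have hr : IsRightIntMod J l := fun a => by
    have h := mem_map_ker_of_tmul hS (hΨ a)
    have e : Ψ a = ∑ i ∈ (Coalgebra.Repr.arbitrary R a).index,
        l ((Coalgebra.Repr.arbitrary R a).right i) • (Coalgebra.Repr.arbitrary R a).left i - l a • (1 : A) := by
      simp only [Ψ, LinearMap.sub_apply, LinearMap.comp_apply, ← (Coalgebra.Repr.arbitrary R a).eq]
      simp
    rwa [e] at h
  -- lifting the group-like elements
  have hlg : ∀ m, ∃ γ : A, IsGroupLikeElem R γ ∧ (1 : S) ⊗ₜ[R] γ = (1 : S) ⊗ₜ[R] g m := by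
    intro m
    let t : ULift.{u} (Multiplicative ℤ) := ULift.up (Multiplicative.ofAdd 1)
    have hu : IsUnit (g m) := by
      obtain ⟨c, hc⟩ := hlift (ee.symm (MonoidAlgebra.single m⁻¹ 1))
      refine isUnit_of_mul_isUnit_left (y := c) ?_
      have h0 : (1 : S) ⊗ₜ[R] (g m * c - 1) = 0 := by
        rw [TensorProduct.tmul_sub, show (1 : S) ⊗ₜ[R] (g m * c) = ((1 : S) ⊗ₜ[R] g m) * ((1 : S) ⊗ₜ[R] c) by simp,
          hg, hc, ← map_mul, MonoidAlgebra.single_mul_single, mul_inv_cancel, _root_.mul_one,
          ← MonoidAlgebra.one_def, map_one]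
        exact sub_self _
      have h3 : IsNilpotent (g m * c - 1) := by
        obtain ⟨k, hk⟩ := hn
        refine ⟨k, ?_⟩
        have := Ideal.pow_mem_pow (mem_map_ker_of_tmul hS h0) k
        rw [← Ideal.map_pow, hk] at this
        simpa using this
      simpa using h3.isUnit_add_one
    let θ : ULift.{u} (Multiplicative ℤ) →* A :=
      ((Units.coeHom A).comp (zpowersHom Aˣ hu.unit)).comp MulEquiv.ulift.toMonoidHom
    have hθt : θ t = g m := by
      show ((hu.unit ^ (1 : ℤ) : Aˣ) : A) = g m
      rw [zpow_one]; rfl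
    let φ : MonoidAlgebra R (ULift.{u} (Multiplicative ℤ)) →ₐ[R] A := MonoidAlgebra.lift R A _ θ
    have hdef : DefectLE J φ := by
      let q : A ⊗[R] A →ₐ[R] (A ⊗[R] A) ⧸ Ideal.map (algebraMap R (A ⊗[R] A)) J := Ideal.Quotient.mkₐ R _
      have hq : q.comp ((Algebra.TensorProduct.map φ φ).comp (Bialgebra.comulAlgHom R _)) =
          q.comp ((Bialgebra.comulAlgHom R A).comp φ) := by
        refine MonoidAlgebra.algHom_ext' ?_ (by ext)
        suffices h : ∀ x : MonoidAlgebra R (ULift.{u} (Multiplicative ℤ)), x = MonoidAlgebra.single t 1 →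
            q (Algebra.TensorProduct.map φ φ (Coalgebra.comul x)) = q (Coalgebra.comul (φ x)) by
          exact ulift_mint_ext (h _ rfl)
        rintro x rfl
        refine Ideal.Quotient.eq.2 ?_
        have hφt : φ (MonoidAlgebra.single t 1) = g m := by simp [φ, hθt]
        rw [MonoidAlgebra.comul_single, CommSemiring.comul_apply, TensorProduct.map_tmul,
          MonoidAlgebra.lsingle_apply, Algebra.TensorProduct.map_tmul, hφt]
        have h0 : (1 : S) ⊗ₜ[R] (g m ⊗ₜ[R] g m - Coalgebra.comul (g m)) = 0 := by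
          let κ : (S ⊗[R] A) ⊗[S] (S ⊗[R] A) →ₗ[R] S ⊗[R] (A ⊗[R] A) :=
            (TensorProduct.assoc R S A A).toLinearMap ∘ₗ
              ((TensorProduct.AlgebraTensorModule.cancelBaseChange R S S (S ⊗[R] A) A).toLinearMap.restrictScalars R)
          have hκ : ∀ z : A ⊗[R] A, κ (ω z) = (1 : S) ⊗ₜ[R] z := by
            intro z
            induction z using TensorProduct.induction_on with
            | zero => simp
            | tmul x y => simp [κ, ω]
            | add a b ha hb => rw [map_add, map_add, ha, hb, TensorProduct.tmul_add]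
          rw [← hκ, map_sub, ← hω, (hgl m).comul_eq_tmul_self]
          simp [ω]
        exact mem_map_ker_of_tmul hS h0
      intro c
      exact Ideal.Quotient.eq.1 congr($hq c)
    obtain ⟨ψ₀, hψ₀, hψ₀φ⟩ := exists_step l h1 hr hn φ hdef
    rw [hsq] at hψ₀
    obtain ⟨ψ, hψ⟩ := exists_bialgHom_of_defect hψ₀
    refine ⟨ψ (MonoidAlgebra.single t 1), (MonoidAlgebra.isGroupLikeElem_single_one t).map ψ, ?_⟩
    have hm := hψ₀φ (MonoidAlgebra.single t 1)
    have hφt : φ (MonoidAlgebra.single t 1) = g m := by simp [φ, hθt]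
    rw [hφt, ← hψ] at hm
    rw [← sub_eq_zero, ← TensorProduct.tmul_sub]
    have hle : Ideal.map (algebraMap R A) J ≤
        RingHom.ker (Algebra.TensorProduct.includeRight : A →ₐ[R] S ⊗[R] A) :=
      Ideal.map_le_iff_le_comap.2 fun k hk => by
        show (Algebra.TensorProduct.includeRight : A →ₐ[R] S ⊗[R] A) (algebraMap R A k) = 0
        rw [AlgHom.commutes, IsScalarTower.algebraMap_apply R S (S ⊗[R] A), show algebraMap R S k = 0 from hk,
          map_zero]
    exact hle hm
  choose γ hγ hγg using hlg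
  obtain ⟨bγ, hbγ⟩ := exists_basis_lift hS hn bS γ fun m => by rw [hγg, hg, hbS]
  have huniq : ∀ (x : A) (m : M), IsGroupLikeElem R x → (1 : S) ⊗ₜ[R] x = (1 : S) ⊗ₜ[R] γ m → x = γ m := by
    intro x m hx hxm
    set a := bγ.repr x with ha
    have hcoef : ∀ i, algebraMap R S (a i) = if i = m then 1 else 0 := by
      intro i
      have e1 : ∀ y : A, bS.repr ((1 : S) ⊗ₜ[R] y) i = algebraMap R S (bγ.repr y i) := by
        intro y
        have hlin : ((Finsupp.lapply i : (M →₀ S) →ₗ[S] S).restrictScalars R ∘ₗ (bS.repr.toLinearMap.restrictScalars R) ∘ₗ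
            TensorProduct.mk R S A 1) = Algebra.linearMap R S ∘ₗ bγ.coord i := bγ.ext fun k => by
          show bS.repr ((1 : S) ⊗ₜ[R] bγ k) i = algebraMap R S (bγ.repr (bγ k) i)
          rw [Module.Basis.repr_self, congrFun hbγ k, hγg, hg, ← hbS, Module.Basis.repr_self,
            Finsupp.single_apply, Finsupp.single_apply, apply_ite (algebraMap R S), map_one, map_zero]
        exact congr($hlin y)
      rw [← e1 x, hxm, hγg, hg, ← hbS, Module.Basis.repr_self, Finsupp.single_apply]
      exact if_congr eq_comm rfl rfl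
    have horth : ∀ i j, a i * a j = if i = j then a i else 0 := by
      intro i j
      let T : A ⊗[R] A →ₗ[R] R := LinearMap.mul' R R ∘ₗ TensorProduct.map (bγ.coord i) (bγ.coord j)
      have hT : T ∘ₗ Coalgebra.comul = (if i = j then (1 : R) else 0) • bγ.coord i := bγ.ext fun k => by
        have hc : Coalgebra.comul (bγ k) = bγ k ⊗ₜ[R] bγ k := by
          rw [congrFun hbγ k]; exact (hγ k).comul_eq_tmul_self
        simp only [T, LinearMap.comp_apply, hc, TensorProduct.map_tmul, LinearMap.mul'_apply,
          LinearMap.smul_apply, smul_eq_mul, Module.Basis.coord_apply, Module.Basis.repr_self,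
          Finsupp.single_apply]
        split_ifs <;> simp_all
      have h := congr($hT x)
      rw [LinearMap.comp_apply, hx.comul_eq_tmul_self] at h
      simp [T] at h
      rw [ha, h]
      split_ifs <;> simp
    have hnil : ∀ r : R, r ∈ J → IsNilpotent r := fun r hr => ⟨2, by
      rw [pow_two, ← Ideal.mem_bot, ← hsq]; exact Ideal.mul_mem_mul hr hr⟩
    have ha' : ∀ i, a i = if i = m then 1 else 0 := by
      intro i
      have hid : IsIdempotentElem (a i) := by show a i * a i = a i; rw [horth, if_pos rfl]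
      split_ifs with him
      · have h1 : IsNilpotent (1 - a i) := hnil _ (by
          rw [hJ, RingHom.mem_ker, map_sub, map_one, hcoef, if_pos him, sub_self])
        exact (hid.one_sub.eq_zero_of_isNilpotent h1 |> sub_eq_zero.1).symm
      · exact hid.eq_zero_of_isNilpotent (hnil _ (by rw [hJ, RingHom.mem_ker, hcoef, if_neg him]))
    apply bγ.repr.injective
    rw [← congrFun hbγ m, Module.Basis.repr_self]
    refine Finsupp.ext fun i => ?_
    rw [← ha, ha', Finsupp.single_apply]
    exact if_congr eq_comm rfl rfl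
  let θ : M →* A :=
    { toFun := γ
      map_one' := (huniq 1 1 IsGroupLikeElem.one (by
        rw [hγg, hg, ← MonoidAlgebra.one_def, map_one]; rfl)).symm
      map_mul' := fun a b => (huniq (γ a * γ b) (a * b) ((hγ a).mul (hγ b)) (by
        rw [show (1 : S) ⊗ₜ[R] (γ a * γ b) = ((1 : S) ⊗ₜ[R] γ a) * ((1 : S) ⊗ₜ[R] γ b) by simp,
          hγg, hγg, hγg, hg, hg, hg, ← map_mul, MonoidAlgebra.single_mul_single, _root_.mul_one])).symm }
  exact isDiag_of_hom θ hγ (by rw [show (⇑θ) = ⇑bγ from hbγ.symm]; exact bγ.span_eq)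
    (by rw [show (⇑θ) = ⇑bγ from hbγ.symm]; exact bγ.linearIndependent.linearIndepOn_id)

/-- A flat deformation, over a nilpotent thickening, of a diagonalisable group is diagonalisable. -/
theorem isDiag_of_nilpotent {R : Type u} [CommRing R] (S : Type u) [CommRing S] [Algebra R S]
    {A : Type u} [CommRing A] [HopfAlgebra R A] [Module.Flat R A]
    (hS : Function.Surjective (algebraMap R S)) (hn : IsNilpotent (RingHom.ker (algebraMap R S)))
    (h : IsDiag S (S ⊗[R] A)) : IsDiag R A := by
  obtain ⟨n, hn⟩ := hn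
  induction n generalizing R S A with
  | zero =>
    refine isDiag_of_sq_zero hS (le_bot_iff.1 ((Ideal.mul_le_right).trans ?_)) h
    exact (le_top.trans_eq (by simpa using hn))
  | succ n ih =>
    rcases Nat.eq_zero_or_pos n with rfl | hpos
    · refine isDiag_of_sq_zero hS ?_ h
      simp only [zero_add, pow_one] at hn
      rw [hn]; simp
    set J := RingHom.ker (algebraMap R S) ^ n with hJ
    let R₁ := R ⧸ J
    have hle : J ≤ RingHom.ker (algebraMap R S) := Ideal.pow_le_self hpos.ne'
    let π : R₁ →+* S := Ideal.Quotient.lift J (algebraMap R S) hle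
    letI : Algebra R₁ S := π.toAlgebra
    haveI : IsScalarTower R R₁ S := IsScalarTower.of_algebraMap_eq fun r => rfl
    have hS₁ : Function.Surjective (algebraMap R₁ S) := fun s => by
      obtain ⟨r, rfl⟩ := hS s
      exact ⟨Ideal.Quotient.mk J r, rfl⟩
    have hker : RingHom.ker (algebraMap R₁ S) ^ n = ⊥ := by
      have : RingHom.ker (algebraMap R₁ S) ≤ (RingHom.ker (algebraMap R S)).map (Ideal.Quotient.mk J) := by
        intro x hx
        obtain ⟨r, rfl⟩ := Ideal.Quotient.mk_surjective x
        exact Ideal.mem_map_of_mem _ hx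
      refine le_bot_iff.1 ((Ideal.pow_right_mono this n).trans ?_)
      rw [← Ideal.map_pow, ← hJ, Ideal.map_quotient_self]
    have h₁ : IsDiag R₁ (R₁ ⊗[R] A) := by
      obtain ⟨M, _, ⟨e⟩⟩ := h
      exact ih S hS₁ ⟨M, inferInstance, ⟨(cbc (R := R) (A := A) R₁ S).trans e⟩⟩ hker
    refine isDiag_of_sq_zero (S := R₁) Ideal.Quotient.mk_surjective ?_ h₁
    rw [show algebraMap R R₁ = Ideal.Quotient.mk J from rfl, Ideal.mk_ker, hJ, ← pow_add]
    exact le_bot_iff.1 ((Ideal.pow_le_pow_right (by omega)).trans_eq hn)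

end Groth.Agent.MultType
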