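import Groth.Agent.MultType.GroupLikeLift
import Groth.Agent.MultType.Deform
import Mathlib.RingTheory.Flat.Localization

/-!
Formal isotrivial groups along the powers of an ideal.
-/

universe u

open TensorProduct SGA3b
open scoped TensorProduct

namespace Groth.Agent.MultType

/-- Flatness along `V(IC)` gives flatness of the reductions modulo the powers of `I`. -/
lemma flat_quot_of_flat_localization {A : Type u} [CommRing A] (I : Ideal A) {C : Type u} [CommRing C] [Algebra A C]
    (hfl : ∀ (q : Ideal C) [q.IsPrime], Ideal.map (algebraMap A C) I ≤ q → Module.Flat A (Localization.AtPrime q))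
    (k : ℕ) : Module.Flat (A ⧸ I ^ k) ((A ⧸ I ^ k) ⊗[A] C) := by
  let B := A ⧸ I ^ k
  rw [Module.Flat.iff_lTensor_preserves_injective_linearMap]
  intro U V _ _ _ _ f hf
  letI : Module A U := Module.compHom U (algebraMap A B)
  haveI : IsScalarTower A B U := IsScalarTower.of_algebraMap_smul fun _ _ => rfl
  letI : Module A V := Module.compHom V (algebraMap A B)
  haveI : IsScalarTower A B V := IsScalarTower.of_algebraMap_smul fun _ _ => rfl
  let f' : U →ₗ[A] V := f.restrictScalars A
  have key : Function.Injective (TensorProduct.AlgebraTensorModule.lTensor C C f') := by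
    refine injective_of_isLocalized_maximal (fun P hP => Localization.AtPrime P ⊗[A] U)
      (fun P hP => TensorProduct.AlgebraTensorModule.rTensor A U (Algebra.linearMap C (Localization.AtPrime P)))
      (fun P hP => Localization.AtPrime P ⊗[A] V)
      (fun P hP => TensorProduct.AlgebraTensorModule.rTensor A V (Algebra.linearMap C (Localization.AtPrime P)))
      _ fun P hP => ?_
    rw [IsLocalizedModule.map_lTensor]
    by_cases hIP : Ideal.map (algebraMap A C) I ≤ P
    · haveI := hfl P hIP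
      exact Module.Flat.lTensor_preserves_injective_linearMap (M := Localization.AtPrime P) f' hf
    · obtain ⟨a, ha, haP⟩ : ∃ a ∈ I, algebraMap A C a ∉ P := by
        by_contra! hn
        exact hIP (Ideal.map_le_iff_le_comap.2 hn)
      have hu : IsUnit (algebraMap A (Localization.AtPrime P) (a ^ k)) := by
        rw [map_pow, IsScalarTower.algebraMap_apply A C (Localization.AtPrime P)]
        exact (IsLocalization.map_units _ (⟨_, haP⟩ : P.primeCompl)).pow k
      have hz : ∀ z : Localization.AtPrime P ⊗[A] U, z = 0 := by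
        intro z
        induction z using TensorProduct.induction_on with
        | zero => rfl
        | add x y hx hy => rw [hx, hy, add_zero]
        | tmul l u =>
          obtain ⟨w, hw⟩ := hu
          have h1 : l = (a ^ k) • (↑w⁻¹ * l) := by
            rw [Algebra.smul_def, ← hw, ← mul_assoc, Units.mul_inv, one_mul]
          rw [h1, TensorProduct.smul_tmul, show (a ^ k) • u = algebraMap A B (a ^ k) • u from rfl,
            show algebraMap A B (a ^ k) = 0 from Ideal.Quotient.eq_zero_iff_mem.2 (Ideal.pow_mem_pow ha k),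
            zero_smul, TensorProduct.tmul_zero]
      intro x y _
      rw [hz x, hz y]
  let sw : ∀ (W : Type u) [AddCommGroup W] [Module A W] [Module B W] [IsScalarTower A B W],
      (B ⊗[A] C) ⊗[B] W ≃ₗ[A] C ⊗[A] W := fun W _ _ _ _ =>
    ((TensorProduct.comm B (B ⊗[A] C) W).restrictScalars A).trans
      (((TensorProduct.AlgebraTensorModule.cancelBaseChange A B B W C).restrictScalars A).trans
        (TensorProduct.comm A W C))
  have hsw : ∀ z, sw V (f.lTensor (B ⊗[A] C) z) = TensorProduct.AlgebraTensorModule.lTensor C C f' (sw U z) := by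
    intro z
    induction z using TensorProduct.induction_on with
    | zero => simp
    | add x y hx hy => simp only [map_add, hx, hy]
    | tmul p u =>
      induction p using TensorProduct.induction_on with
      | zero => simp
      | add x y hx hy => simp only [TensorProduct.add_tmul, map_add, hx, hy]
      | tmul b c => simp [sw, f', B]
  intro x y hxy
  exact (sw U).injective (key (by rw [← hsw, ← hsw, hxy]))

/-- Bialgebra maps give points of the scheme of homomorphisms. -/
lemma compat_of_bialgHom {R : Type u} [CommRing R] {C : Type u} [CommRing C] [HopfAlgebra R C]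
    {B : Type u} [CommRing B] [HopfAlgebra R B] {S : Type u} [CommRing S] [Algebra R S]
    (ψ : S ⊗[R] C →ₐc[S] S ⊗[R] B) :
    Compat (((ψ : S ⊗[R] C →ₐ[S] S ⊗[R] B).restrictScalars R).comp
      (Algebra.TensorProduct.includeRight : C →ₐ[R] S ⊗[R] C)) := by
  intro c
  have h := congrArg (kap S) (CoalgHomClass.map_comp_comul_apply ψ ((1 : S) ⊗ₜ[R] c))
  rw [kap_comul] at h
  refine Eq.trans ?_ h
  rw [TensorProduct.comul_tmul, CommSemiring.comul_apply, ← (Coalgebra.Repr.arbitrary R c).eq]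
  simp only [TensorProduct.tmul_sum, map_sum, TensorProduct.AlgebraTensorModule.tensorTensorTensorComm_tmul,
    TensorProduct.map_tmul, Algebra.TensorProduct.lift_tmul]
  refine Finset.sum_congr rfl fun i _ => ?_
  exact (kap_tmul S _ _).symm

/-- Compatible isomorphisms `(A/I^(k+1)) ⊗ C ≅ (A/I^(k+1))[M]`. -/
theorem exists_formal_iso {A : Type u} [CommRing A] (I : Ideal A) {C : Type u} [CommRing C] [HopfAlgebra A C]
    (hflat : ∀ k, Module.Flat (A ⧸ I ^ k) ((A ⧸ I ^ k) ⊗[A] C))
    {M : Type u} [CommGroup M] (e₀ : ((A ⧸ I) ⊗[A] C) ≃ₐc[A ⧸ I] MonoidAlgebra (A ⧸ I) M) :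
    ∃ G : ∀ k : ℕ, C →ₐ[A] (A ⧸ I ^ (k + 1)) ⊗[A] MonoidAlgebra A M,
      (∀ k, Compat (G k)) ∧
      (∀ k, (Algebra.TensorProduct.map (Ideal.Quotient.factorₐ A (Ideal.pow_le_pow_right (Nat.le_succ (k + 1))))
        (AlgHom.id A (MonoidAlgebra A M))).comp (G (k + 1)) = G k) ∧
      (∀ k, Function.Bijective (Algebra.TensorProduct.lift (Algebra.ofId (A ⧸ I ^ (k + 1)) _) (G k)
        fun _ _ => Commute.all _ _)) := by
  classical
  let A' : ℕ → Type u := fun k => A ⧸ I ^ (k + 1)
  let p : ∀ k, (A ⧸ I ^ (k + 1)) →ₐ[A] A ⧸ I :=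
    fun k => Ideal.Quotient.factorₐ A (Ideal.pow_le_self (I := I) (n := k + 1) (Nat.succ_ne_zero k))
  have hp : ∀ k, Function.Surjective (p k) := fun k => Ideal.Quotient.factor_surjective (Ideal.pow_le_self (Nat.succ_ne_zero k))
  have hpn : ∀ k, IsNilpotent (RingHom.ker (p k)) := fun k => by
    refine ⟨k + 1, ?_⟩
    have hle : RingHom.ker (p k) ≤ Ideal.map (Ideal.Quotient.mk (I ^ (k + 1))) I := by
      intro x hx
      obtain ⟨a, rfl⟩ := Ideal.Quotient.mk_surjective x
      exact Ideal.mem_map_of_mem _ (Ideal.Quotient.eq_zero_iff_mem.1 (show Ideal.Quotient.mk I a = 0 from hx))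
    refine le_bot_iff.1 ((Ideal.pow_right_mono hle _).trans ?_)
    rw [← Ideal.map_pow, Ideal.map_quotient_self]
  have hpnil : ∀ k, RingHom.ker (p k) ≤ nilradical (A ⧸ I ^ (k + 1)) := fun k => by
    obtain ⟨n, hn⟩ := hpn k
    intro x hx
    refine mem_nilradical.2 ⟨n, ?_⟩
    have := Ideal.pow_mem_pow hx n
    rwa [hn] at this
  -- each level is diagonalisable
  have hd : ∀ k, IsDiag (A ⧸ I ^ (k + 1)) ((A ⧸ I ^ (k + 1)) ⊗[A] C) := fun k => by
    letI : Algebra (A ⧸ I ^ (k + 1)) (A ⧸ I) := (p k).toRingHom.toAlgebra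
    haveI : IsScalarTower A (A ⧸ I ^ (k + 1)) (A ⧸ I) := IsScalarTower.of_algebraMap_eq fun r => ((p k).commutes r).symm
    haveI := hflat (k + 1)
    exact isDiag_of_nilpotent (A ⧸ I) (hp k) (hpn k)
      (isDiag_congr' (cbc (R := A) (A := C) (A ⧸ I ^ (k + 1)) (A ⧸ I)).symm ⟨M, inferInstance, ⟨e₀⟩⟩)
  let q : ∀ k, (A ⧸ I ^ (k + 1)) ⊗[A] C →ₐ[A] (A ⧸ I) ⊗[A] C :=
    fun k => Algebra.TensorProduct.map (p k) (AlgHom.id A C)
  have eqk : ∀ k {x y : (A ⧸ I ^ (k + 1)) ⊗[A] C}, IsGroupLikeElem (A ⧸ I ^ (k + 1)) x →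
      IsGroupLikeElem (A ⧸ I ^ (k + 1)) y → q k x = q k y → x = y := fun k x y hx hy h =>
    groupLike_eq_of_nil (hd k) hx hy _ (hpnil k)
      (mem_map_ker (p k) (hp k) (x - y) (by rw [map_sub]; exact sub_eq_zero.2 h))
  have hex : ∀ k m, ∃ x : (A ⧸ I ^ (k + 1)) ⊗[A] C, IsGroupLikeElem (A ⧸ I ^ (k + 1)) x ∧
      q k x = e₀.symm (MonoidAlgebra.single m 1) := by
    intro k m
    let τ : ((A ⧸ I ^ (k + 1)) ⧸ RingHom.ker (p k)) ≃ₐ[A] A ⧸ I := Ideal.quotientKerAlgEquivOfSurjective (hp k)
    let U : Cover (A ⧸ I ^ (k + 1)) :=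
      { ι := PUnit
        T := fun _ => A ⧸ I ^ (k + 1)
        detect := fun x hx => by
          have := congrArg (TensorProduct.lid _ _) (hx PUnit.unit)
          rw [TensorProduct.lid_tmul, one_smul, map_zero] at this
          exact this }
    letI : ∀ i, Algebra A (U.T i) := fun _ => (inferInstance : Algebra A (A ⧸ I ^ (k + 1)))
    haveI : ∀ i, IsScalarTower A (A ⧸ I ^ (k + 1)) (U.T i) := fun _ =>
      (inferInstance : IsScalarTower A (A ⧸ I ^ (k + 1)) (A ⧸ I ^ (k + 1)))
    obtain ⟨x, hx, hxq⟩ := exists_groupLike_lift (R := A) (B := C) U (fun _ => hd k) (RingHom.ker (p k)) (hpnil k)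
      (Algebra.TensorProduct.map τ.symm.toAlgHom (AlgHom.id A C) (e₀.symm (MonoidAlgebra.single m 1)))
      (isGroupLikeElem_map τ.symm.toAlgHom ((MonoidAlgebra.isGroupLikeElem_single_one m).map e₀.symm))
    refine ⟨x, hx, ?_⟩
    have h := congrArg (Algebra.TensorProduct.map τ.toAlgHom (AlgHom.id A C)) hxq
    have hc : ∀ {X Y Z : Type u} [CommRing X] [Algebra A X] [CommRing Y] [Algebra A Y] [CommRing Z] [Algebra A Z]
        (f : X →ₐ[A] Y) (g : Y →ₐ[A] Z) (z : X ⊗[A] C), Algebra.TensorProduct.map g (AlgHom.id A C)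
          (Algebra.TensorProduct.map f (AlgHom.id A C) z) = Algebra.TensorProduct.map (g.comp f) (AlgHom.id A C) z := by
      intro X Y Z _ _ _ _ _ _ f g z
      induction z using TensorProduct.induction_on with
      | zero => simp
      | tmul a b => simp
      | add a b ha hb => simp only [map_add, ha, hb]
    rw [hc, hc, show τ.toAlgHom.comp (Ideal.Quotient.mkₐ A (RingHom.ker (p k))) = p k from AlgHom.ext fun s => rfl,
      show τ.toAlgHom.comp τ.symm.toAlgHom = AlgHom.id A _ from AlgHom.ext fun s => τ.apply_symm_apply s] at h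
    rw [show Algebra.TensorProduct.map (AlgHom.id A (A ⧸ I)) (AlgHom.id A C) = AlgHom.id A _ from
      Algebra.TensorProduct.map_id] at h
    exact h
  choose x hx hxq using hex
  let θ : ∀ k, M →* (A ⧸ I ^ (k + 1)) ⊗[A] C := fun k =>
    { toFun := x k
      map_one' := eqk k (hx k 1) IsGroupLikeElem.one (by rw [hxq, map_one, ← MonoidAlgebra.one_def, map_one])
      map_mul' := fun a b => eqk k (hx k _) ((hx k a).mul (hx k b)) (by
        rw [hxq, map_mul, hxq, hxq, ← map_mul, MonoidAlgebra.single_mul_single, one_mul]) }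
  let Φa : ∀ k, (A ⧸ I ^ (k + 1)) ⊗[A] MonoidAlgebra A M →ₐ[A ⧸ I ^ (k + 1)] (A ⧸ I ^ (k + 1)) ⊗[A] C := fun k =>
    Algebra.TensorProduct.lift (Algebra.ofId _ _) (MonoidAlgebra.lift A _ M (θ k)) fun _ _ => Commute.all _ _
  have hΦs : ∀ k m, Φa k ((1 : A ⧸ I ^ (k + 1)) ⊗ₜ[A] (MonoidAlgebra.single m 1 : MonoidAlgebra A M)) = x k m := fun k m => by
    simp [Φa, θ, ← Algebra.TensorProduct.one_def]
  have hgl : ∀ k m, IsGroupLikeElem (A ⧸ I ^ (k + 1))
      ((1 : A ⧸ I ^ (k + 1)) ⊗ₜ[A] (MonoidAlgebra.single m 1 : MonoidAlgebra A M)) := fun k m => by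
    have h := MonoidAlgebra.isGroupLikeElem_single_one (R := A) (A := A) m
    constructor
    · rw [TensorProduct.counit_tmul, h.counit_eq_one, one_smul, CommSemiring.counit_apply]
    · rw [TensorProduct.comul_tmul, h.comul_eq_tmul_self, CommSemiring.comul_apply,
        TensorProduct.AlgebraTensorModule.tensorTensorTensorComm_tmul]
  let Φ : ∀ k, (A ⧸ I ^ (k + 1)) ⊗[A] MonoidAlgebra A M →ₐc[A ⧸ I ^ (k + 1)] (A ⧸ I ^ (k + 1)) ⊗[A] C := fun k =>
    BialgHom.ofAlgHom (Φa k)
      (Algebra.TensorProduct.ext (by ext) (MonoidAlgebra.algHom_ext' (MonoidHom.ext fun m => by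
        show Bialgebra.counitAlgHom _ _ (Φa k ((1 : A ⧸ I ^ (k + 1)) ⊗ₜ[A] (MonoidAlgebra.single m 1 : MonoidAlgebra A M))) =
          Bialgebra.counitAlgHom _ _ ((1 : A ⧸ I ^ (k + 1)) ⊗ₜ[A] (MonoidAlgebra.single m 1 : MonoidAlgebra A M))
        rw [hΦs]
        exact (hx k m).counit_eq_one.trans (hgl k m).counit_eq_one.symm) (by ext)))
      (Algebra.TensorProduct.ext (by ext) (MonoidAlgebra.algHom_ext' (MonoidHom.ext fun m => by
        show Algebra.TensorProduct.map (Φa k) (Φa k) (Bialgebra.comulAlgHom _ _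
            ((1 : A ⧸ I ^ (k + 1)) ⊗ₜ[A] (MonoidAlgebra.single m 1 : MonoidAlgebra A M))) =
          Bialgebra.comulAlgHom _ _ (Φa k ((1 : A ⧸ I ^ (k + 1)) ⊗ₜ[A] (MonoidAlgebra.single m 1 : MonoidAlgebra A M)))
        rw [hΦs, Bialgebra.comulAlgHom_apply, Bialgebra.comulAlgHom_apply, (hgl k m).comul_eq_tmul_self,
          (hx k m).comul_eq_tmul_self, Algebra.TensorProduct.map_tmul, hΦs]) (by ext)))
  -- bases
  have hbij : ∀ k, Function.Bijective (Φ k) := by
    intro k
    letI : Algebra (A ⧸ I ^ (k + 1)) (A ⧸ I) := (p k).toRingHom.toAlgebra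
    haveI : IsScalarTower A (A ⧸ I ^ (k + 1)) (A ⧸ I) := IsScalarTower.of_algebraMap_eq fun r => ((p k).commutes r).symm
    haveI := hflat (k + 1)
    let C' := (A ⧸ I ^ (k + 1)) ⊗[A] C
    let cb := Algebra.TensorProduct.cancelBaseChange A (A ⧸ I ^ (k + 1)) (A ⧸ I) (A ⧸ I) C
    have hcb : ∀ z : C', cb ((1 : A ⧸ I) ⊗ₜ z) = q k z := by
      intro z
      induction z using TensorProduct.induction_on with
      | zero => simp
      | tmul a b =>
        simp [cb, q, Algebra.smul_def]
        rfl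
      | add a b ha hb => simp only [TensorProduct.tmul_add, map_add, ha, hb]
    let b : Module.Basis M (A ⧸ I) ((A ⧸ I) ⊗[A ⧸ I ^ (k + 1)] C') :=
      ((MonoidAlgebra.basis M (A ⧸ I)).map (e₀ : (A ⧸ I) ⊗[A] C ≃ₐ[A ⧸ I] MonoidAlgebra (A ⧸ I) M).toLinearEquiv.symm).map
        cb.toLinearEquiv.symm
    obtain ⟨B, hB⟩ := exists_basis_lift (R := A ⧸ I ^ (k + 1)) (S := A ⧸ I) (hp k) (hpn k) (N := C') b (x k) fun m => by
      apply cb.injective
      rw [hcb, hxq]
      simp [b]
      rfl
    let b1 : Module.Basis M (A ⧸ I ^ (k + 1)) ((A ⧸ I ^ (k + 1)) ⊗[A] MonoidAlgebra A M) :=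
      Algebra.TensorProduct.basis _ (MonoidAlgebra.basis M A)
    have heq : ⇑(b1.equiv B (Equiv.refl M)) = ⇑(Φ k) := by
      suffices h : (b1.equiv B (Equiv.refl M)).toLinearMap = (Φa k).toLinearMap from funext fun z => congr($h z)
      refine b1.ext fun m => ?_
      simp only [LinearEquiv.coe_coe, Module.Basis.equiv_apply, Equiv.refl_apply, hB]
      simp [b1, hΦs]
    rw [← heq]
    exact LinearEquiv.bijective _
  let P := fun k => BialgEquiv.ofBijective (Φ k) (hbij k)
  let ψ : ∀ k, (A ⧸ I ^ (k + 1)) ⊗[A] C →ₐc[A ⧸ I ^ (k + 1)] (A ⧸ I ^ (k + 1)) ⊗[A] MonoidAlgebra A M := fun k =>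
    ((P k).symm : (A ⧸ I ^ (k + 1)) ⊗[A] C →ₐc[A ⧸ I ^ (k + 1)] (A ⧸ I ^ (k + 1)) ⊗[A] MonoidAlgebra A M)
  let G : ∀ k, C →ₐ[A] (A ⧸ I ^ (k + 1)) ⊗[A] MonoidAlgebra A M := fun k =>
    ((ψ k : (A ⧸ I ^ (k + 1)) ⊗[A] C →ₐ[A ⧸ I ^ (k + 1)] (A ⧸ I ^ (k + 1)) ⊗[A] MonoidAlgebra A M).restrictScalars A).comp
      Algebra.TensorProduct.includeRight
  refine ⟨G, fun k => compat_of_bialgHom (ψ k), fun k => ?_, fun k => ?_⟩
  · let f : (A ⧸ I ^ (k + 1 + 1)) →ₐ[A] A ⧸ I ^ (k + 1) :=
      Ideal.Quotient.factorₐ A (Ideal.pow_le_pow_right (Nat.le_succ (k + 1)))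
    have hfp : (p k).comp f = p (k + 1) := AlgHom.ext fun a => by
      obtain ⟨a, rfl⟩ := Ideal.Quotient.mk_surjective a
      rfl
    have hxf : ∀ m, Algebra.TensorProduct.map f (AlgHom.id A C) (x (k + 1) m) = x k m := fun m => by
      refine eqk k (isGroupLikeElem_map f (hx (k + 1) m)) (hx k m) ?_
      rw [hxq, ← hxq (k + 1) m]
      generalize x (k + 1) m = z
      induction z using TensorProduct.induction_on with
      | zero => simp
      | tmul a b =>
        simp [q, ← hfp]
      | add a b ha hb => simp only [map_add, ha, hb]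
    have hsq : ∀ w, Φ k (Algebra.TensorProduct.map f (AlgHom.id A (MonoidAlgebra A M)) w) =
        Algebra.TensorProduct.map f (AlgHom.id A C) (Φ (k + 1) w) := by
      intro w
      induction w using TensorProduct.induction_on with
      | zero => simp
      | add a b ha hb => simp only [map_add, ha, hb]
      | tmul a z =>
        induction z using MonoidAlgebra.induction_linear with
        | zero => simp
        | add p r hp hr => simp only [TensorProduct.tmul_add, map_add, hp, hr]
        | single m t =>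
          have e1 : ∀ (n : ℕ) (a : A ⧸ I ^ (n + 1)), a ⊗ₜ[A] (MonoidAlgebra.single m t : MonoidAlgebra A M) =
              (t • a) • ((1 : A ⧸ I ^ (n + 1)) ⊗ₜ[A] MonoidAlgebra.single m 1) := fun n a => by
            rw [TensorProduct.smul_tmul', smul_eq_mul, mul_one, TensorProduct.smul_tmul]
            simp
          rw [Algebra.TensorProduct.map_tmul, AlgHom.id_apply, e1, e1, map_smul, map_smul,
            show Φ k ((1 : A ⧸ I ^ (k + 1)) ⊗ₜ[A] (MonoidAlgebra.single m 1 : MonoidAlgebra A M)) = x k m from hΦs k m,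
            show Φ (k + 1) ((1 : A ⧸ I ^ (k + 1 + 1)) ⊗ₜ[A] MonoidAlgebra.single m 1) = x (k + 1) m from hΦs (k + 1) m,
            ← hxf m, ← map_smul f t a]
          generalize x (k + 1) m = z
          induction z using TensorProduct.induction_on with
          | zero => simp
          | tmul u v => simp [TensorProduct.smul_tmul']
          | add u v hu hv => simp only [smul_add, map_add, hu, hv]
    refine AlgHom.ext fun c => (hbij k).1 ?_
    show Φ k (Algebra.TensorProduct.map f (AlgHom.id A (MonoidAlgebra A M)) ((P (k + 1)).symm ((1 : _) ⊗ₜ c))) =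
      Φ k ((P k).symm ((1 : _) ⊗ₜ c))
    rw [hsq, show Φ (k + 1) ((P (k + 1)).symm _) = _ from (P (k + 1)).apply_symm_apply _,
      show Φ k ((P k).symm _) = _ from (P k).apply_symm_apply _]
    simp
  · have : ∀ z, Algebra.TensorProduct.lift (Algebra.ofId (A ⧸ I ^ (k + 1)) _) (G k) (fun _ _ => Commute.all _ _) z =
        (P k).symm z := by
      intro z
      induction z using TensorProduct.induction_on with
      | zero => simp
      | tmul a c =>
        rw [show a ⊗ₜ[A] c = a • ((1 : A ⧸ I ^ (k + 1)) ⊗ₜ[A] c) by simp [TensorProduct.smul_tmul'],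
          map_smul, map_smul]
        simp [G, ψ, ← Algebra.TensorProduct.one_def]
      | add a b ha hb => simp only [map_add, ha, hb]
    rw [funext this]
    exact EquivLike.bijective _

end Groth.Agent.MultType
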