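import Groth.Agent.MultType.HenselLift

/-!
Groups of multiplicative type over a Henselian local ring, split on the closed fibre, are split.
-/

universe u

open TensorProduct SGA3b MonoidAlgebra IsLocalRing
open scoped TensorProduct

namespace Groth.Agent.MultType

variable {R : Type u} [CommRing R] {A : Type u} [CommRing A] [HopfAlgebra R A]

/-- Group-like elements with the same residue are equal over a local ring. -/
lemma groupLike_eq_of_residue [IsLocalRing R] (hA : IsMultType R A) {x x' : A} (hx : IsGroupLikeElem R x)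
    (hx' : IsGroupLikeElem R x') (h : (1 : ResidueField R) ⊗ₜ[R] x = (1 : ResidueField R) ⊗ₜ[R] x') : x = x' := by
  classical
  let θ : ∀ z : A, Multiplicative (ULift.{u} ℕ) →* A := fun z =>
    { toFun := fun k => z ^ (Multiplicative.toAdd k).down
      map_one' := by simp
      map_mul' := fun a b => by simp [pow_add] }
  let φ : ∀ z : A, IsGroupLikeElem R z → (MonoidAlgebra R (Multiplicative (ULift.{u} ℕ)) →ₐc[R] A) := fun z hz =>
    BialgHom.ofAlgHom (MonoidAlgebra.lift R A _ (θ z))
      (by ext k; simp [θ, hz.pow.counit_eq_one]) (by ext k; simp [θ, hz.pow.comul_eq_tmul_self])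
  have hd : ∀ w : MonoidAlgebra R (Multiplicative (ULift.{u} ℕ)), φ x hx w - φ x' hx' w ∈ Ideal.map (algebraMap R A) (maximalIdeal R) := by
    intro w
    induction w using MonoidAlgebra.induction_linear with
    | zero => simp
    | add a b ha hb => rw [map_add, map_add, add_sub_add_comm]; exact Ideal.add_mem _ ha hb
    | single k r =>
      have hp : x ^ (Multiplicative.toAdd k).down - x' ^ (Multiplicative.toAdd k).down ∈
          Ideal.map (algebraMap R A) (maximalIdeal R) :=
        Ideal.mem_of_dvd _ (sub_dvd_pow_sub_pow x x' _) (mem_map_of_tmul_eq h)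
      have := Ideal.mul_mem_left _ (algebraMap R A r) hp
      simpa [φ, θ, mul_sub, Algebra.smul_def] using this
  haveI : Monoid.FG (Multiplicative (ULift.{u} ℕ)) := Monoid.fg_iff.2 ⟨{Multiplicative.ofAdd ⟨1⟩},
    eq_top_iff.2 fun k _ => Submonoid.mem_closure_singleton.2 ⟨(Multiplicative.toAdd k).down, by
      rw [← ofAdd_nsmul]
      exact congrArg Multiplicative.ofAdd (ULift.ext _ _ (by simp; rfl))⟩, Set.finite_singleton _⟩
  have hft : Algebra.FiniteType R (MonoidAlgebra R (Multiplicative (ULift.{u} ℕ))) := inferInstance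
  have := eq_of_mod_maximalIdeal (φ x hx) (φ x' hx') hA (Or.inr hft)
    (fun c m => Commute.all _ _) hd (MonoidAlgebra.single (Multiplicative.ofAdd ⟨1⟩) 1)
  simpa [φ, θ] using this

section pointwise

variable {R' : Type u} [CommRing R'] [Algebra R R'] {M : Type u} [CommGroup M]
  (e : (R' ⊗[R] A) ≃ₐc[R'] MonoidAlgebra R' M)

/-- The value of a group-like element of `A` at a point. -/
lemma exists_value {K : Type u} [Field K] [Algebra R K] (j : R' →ₐ[R] K) {x : A} (hx : IsGroupLikeElem R x) :
    ∃ s, (1 : K) ⊗ₜ[R] x = gam e j s := by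
  refine exists_eq_gam e j ?_
  have h1 := isGroupLikeElem_map (Algebra.ofId R K) (hx.map (Bialgebra.TensorProduct.lid R A).symm)
  rwa [show (Bialgebra.TensorProduct.lid R A).symm x = (1 : R) ⊗ₜ[R] x from rfl, Algebra.TensorProduct.map_tmul,
    map_one, AlgHom.id_apply] at h1

lemma mapAlgHom_emb_of_value {K : Type u} [Field K] [Algebra R K] {j : R' →ₐ[R] K} {x : A} {s : M}
    (h : (1 : K) ⊗ₜ[R] x = gam e j s) : mapAlgHom M j (emb e x) = single s 1 := by
  rw [← splitE_tmul, h, splitE_gam]

lemma coeff_of_value [DecidableEq M] {K : Type u} [Field K] [Algebra R K] {j : R' →ₐ[R] K} {x : A} {s : M}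
    (h : (1 : K) ⊗ₜ[R] x = gam e j s) (m : M) : j ((emb e x).coeff m) = if s = m then 1 else 0 := by
  refine (coeff_mapRingHom (j : R' →+* K) _ m).symm.trans ?_
  show (mapAlgHom M j (emb e x)).coeff m = _
  rw [mapAlgHom_emb_of_value e h, coeff_single, Finsupp.single_apply]

variable {M' : Type u} [CommGroup M'] (x : M' → A) (hx : ∀ u, IsGroupLikeElem R (x u))

/-- Values commute with extensions of the field. -/
lemma value_comp {K L : Type u} [Field K] [Algebra R K] [Field L] [Algebra R L] {j : R' →ₐ[R] K} {y : A} {s : M}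
    (h : (1 : K) ⊗ₜ[R] y = gam e j s) (g : K →ₐ[R] L) : (1 : L) ⊗ₜ[R] y = gam e (g.comp j) s := by
  rw [gam_comp, ← h, Algebra.TensorProduct.map_tmul, map_one, AlgHom.id_apply]

include hx in
/-- Pointwise bijectivity spreads from a closed point. -/
lemma bijective_value [IsLocalRing R] [Module.Flat R R'] (q : Ideal R') [q.IsPrime] [q.LiesOver (maximalIdeal R)]
    (hq : ∀ s : M, ∃! u, (1 : q.ResidueField) ⊗ₜ[R] x u = gam e (IsScalarTower.toAlgHom R R' q.ResidueField) s)
    {K : Type u} [Field K] [Algebra R K] (j : R' →ₐ[R] K) :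
    ∀ s : M, ∃! u, (1 : K) ⊗ₜ[R] x u = gam e j s := by
  classical
  let p : Ideal R := RingHom.ker (algebraMap R K)
  haveI : p.IsPrime := RingHom.ker_isPrime _
  have hpm : p ≤ maximalIdeal R := IsLocalRing.le_maximalIdeal (Ideal.IsPrime.ne_top inferInstance)
  obtain ⟨Q, hQq, hQ, hQp⟩ := Ideal.exists_ideal_le_liesOver_of_le (p := p) (q := maximalIdeal R) q hpm
  let iQ : R' →ₐ[R] Q.ResidueField := IsScalarTower.toAlgHom R R' Q.ResidueField
  let i₀ : R' →ₐ[R] q.ResidueField := IsScalarTower.toAlgHom R R' q.ResidueField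
  have hQv : ∀ (u : M') (s : M), (1 : q.ResidueField) ⊗ₜ[R] x u = gam e i₀ s →
      (1 : Q.ResidueField) ⊗ₜ[R] x u = gam e iQ s := by
    intro u s hs
    obtain ⟨t, ht⟩ := exists_value e iQ (hx u)
    suffices h : t = s by rw [ht, h]
    by_contra hne
    have h1 := coeff_of_value e ht s
    rw [if_neg hne] at h1
    have h3 := coeff_of_value e hs s
    rw [if_pos rfl, IsScalarTower.coe_toAlgHom', Ideal.algebraMap_residueField_eq_zero.2
      (hQq (Ideal.algebraMap_residueField_eq_zero.1 h1))] at h3
    exact zero_ne_one h3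
  -- a common overfield
  let F := p.ResidueField
  let fK : F →ₐ[R] K := Ideal.ResidueField.liftₐ p (Algebra.ofId R K) le_rfl
    (fun r hr => isUnit_iff_ne_zero.2 fun h => hr h)
  have hQF : ∀ r : R, r ∈ p ↔ algebraMap R Q.ResidueField r = 0 := fun r => by
    rw [IsScalarTower.algebraMap_apply R R' Q.ResidueField, Ideal.algebraMap_residueField_eq_zero, hQp.over]
    rfl
  let fQ : F →ₐ[R] Q.ResidueField := Ideal.ResidueField.liftₐ p (Algebra.ofId R Q.ResidueField)
    (fun r hr => (hQF r).1 hr) (fun r hr => isUnit_iff_ne_zero.2 fun h => hr ((hQF r).2 h))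
  letI : Algebra F K := fK.toRingHom.toAlgebra
  letI : Algebra F Q.ResidueField := fQ.toRingHom.toAlgebra
  haveI : IsScalarTower R F K := IsScalarTower.of_algebraMap_eq fun r => (fK.commutes r).symm
  haveI : IsScalarTower R F Q.ResidueField := IsScalarTower.of_algebraMap_eq fun r => (fQ.commutes r).symm
  haveI : Nontrivial (K ⊗[F] Q.ResidueField) :=
    (Algebra.TensorProduct.includeLeft_injective (R := F) (S := F) (A := K)
      (algebraMap F Q.ResidueField).injective).nontrivial
  obtain ⟨W, hW⟩ := Ideal.exists_maximal (K ⊗[F] Q.ResidueField)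
  letI : Field ((K ⊗[F] Q.ResidueField) ⧸ W) := Ideal.Quotient.field W
  let g₁ : K →ₐ[R] (K ⊗[F] Q.ResidueField) ⧸ W := (Ideal.Quotient.mkₐ R W).comp
    ((Algebra.TensorProduct.includeLeft : K →ₐ[F] K ⊗[F] Q.ResidueField).restrictScalars R)
  let g₂ : Q.ResidueField →ₐ[R] (K ⊗[F] Q.ResidueField) ⧸ W := (Ideal.Quotient.mkₐ R W).comp
    ((Algebra.TensorProduct.includeRight : Q.ResidueField →ₐ[F] K ⊗[F] Q.ResidueField).restrictScalars R)
  -- transported bijection
  have hval : ∀ (u : M') (s : M), (1 : K) ⊗ₜ[R] x u = gam e j s → ∀ t, gam e (g₂.comp iQ) t = gam e (g₁.comp j) s →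
      (1 : q.ResidueField) ⊗ₜ[R] x u = gam e i₀ t := by
    intro u s hu t hts
    obtain ⟨t', ht'⟩ := exists_value e i₀ (hx u)
    have h1 := value_comp e (hQv u t' ht') g₂
    have h2 := value_comp e hu g₁
    rw [h1, ← hts] at h2
    rw [ht', gam_injective e _ h2]
  intro s
  obtain ⟨t, ht⟩ := exists_mem_supp_transition e (g₂.comp iQ) (g₁.comp j) s
  obtain ⟨u, hu, huniq⟩ := hq t
  refine ⟨u, ?_, fun v hv => huniq v (hval v s hv t ht.symm)⟩
  obtain ⟨s', hs'⟩ := exists_value e j (hx u)
  have h1 := value_comp e (hQv u t hu) g₂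
  have h2 := value_comp e hs' g₁
  rw [h1, ← ht] at h2
  show (1 : K) ⊗ₜ[R] x u = gam e j s
  rw [hs', gam_injective e _ h2]

include hx in
/-- Group-like elements whose values form a basis at every point form a basis of the chart. -/
lemma bijective_of_values
    (h : ∀ (W : Ideal R') [W.IsPrime] (s : M), ∃! u,
      (1 : W.ResidueField) ⊗ₜ[R] x u = gam e (IsScalarTower.toAlgHom R R' W.ResidueField) s) :
    Function.Bijective (fun w : M' →₀ R' => w.sum fun u r => r • emb e (x u)) := by
  classical
  have hgl : ∀ u, IsGroupLikeElem R' (emb e (x u)) := fun u => by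
    have h1 := isGroupLikeElem_map (Algebra.ofId R R') ((hx u).map (Bialgebra.TensorProduct.lid R A).symm)
    rw [show (Bialgebra.TensorProduct.lid R A).symm (x u) = (1 : R) ⊗ₜ[R] x u from rfl,
      Algebra.TensorProduct.map_tmul, map_one, AlgHom.id_apply] at h1
    exact h1.map e
  let a : M' → M → R' := fun u m => (emb e (x u)).coeff m
  have hcross : ∀ u v m, u ≠ v → a u m * a v m = 0 := fun u v m huv => by
    refine (show IsIdempotentElem (a u m * a v m) from
      (show IsIdempotentElem (a u m) from (coeff_mul_coeff (hgl u) m m).trans (if_pos rfl)).mul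
        (show IsIdempotentElem (a v m) from (coeff_mul_coeff (hgl v) m m).trans (if_pos rfl))).eq_zero_of_isNilpotent
      (mem_nilradical.1 (mem_nilradical_of_forall _ fun W _ => ?_))
    obtain ⟨w, -, hw⟩ := h W m
    obtain ⟨su, hsu⟩ := exists_value e (IsScalarTower.toAlgHom R R' W.ResidueField) (hx u)
    obtain ⟨sv, hsv⟩ := exists_value e (IsScalarTower.toAlgHom R R' W.ResidueField) (hx v)
    rw [map_mul, ← IsScalarTower.coe_toAlgHom' R R' W.ResidueField, coeff_of_value e hsu m, coeff_of_value e hsv m]
    by_cases h1 : su = m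
    · by_cases h2 : sv = m
      · exact absurd ((hw u (h1 ▸ hsu)).trans (hw v (h2 ▸ hsv)).symm) huv
      · simp [if_neg h2]
    · simp [if_neg h1]
  have hG : ∀ (w : M' →₀ R') (m : M), ((w.sum fun u r => r • emb e (x u))).coeff m = w.sum fun u r => r * a u m := by
    intro w m
    rw [Finsupp.sum, coeff_sum, Finsupp.coe_finsetSum, Finset.sum_apply]
    exact Finset.sum_congr rfl fun u _ => by rw [coeff_smul, Finsupp.smul_apply, smul_eq_mul]
  constructor
  · intro w w' hww
    refine Finsupp.ext fun v => sub_eq_zero.1 ?_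
    have hm : ∀ m, (w v - w' v) * a v m = 0 := by
      intro m
      have h1 := congrArg (fun z : MonoidAlgebra R' M => z.coeff m * a v m) hww
      dsimp only at h1
      rw [hG, hG, Finsupp.sum, Finsupp.sum, Finset.sum_mul, Finset.sum_mul] at h1
      simp only [mul_assoc] at h1
      have h2 : ∀ z : M' →₀ R', ∑ u ∈ z.support, z u * (a u m * a v m) = z v * a v m := fun z => by
        rw [Finset.sum_eq_single v (fun u _ huv => by rw [hcross u v m huv, mul_zero])
          (fun hv => by rw [Finsupp.notMem_support_iff.1 hv, zero_mul]),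
          (coeff_mul_coeff (hgl v) m m).trans (if_pos rfl)]
      rw [h2, h2] at h1
      rw [sub_mul, h1, sub_self]
    have h1 := (hgl v).counit_eq_one
    rw [← MonoidAlgebra.sum_single (emb e (x v)), Finsupp.sum, map_sum] at h1
    simp only [MonoidAlgebra.counit_single, CommSemiring.counit_apply] at h1
    rw [← _root_.mul_one (w v - w' v), ← h1, Finset.mul_sum]
    exact Finset.sum_eq_zero fun m _ => hm m
  · suffices hs : ∀ m, ∃ w : M' →₀ R', (w.sum fun u r => r • emb e (x u)) = single m 1 by
      let G : (M' →₀ R') →ₗ[R'] MonoidAlgebra R' M := Finsupp.linearCombination R' fun u => emb e (x u)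
      show Function.Surjective G
      intro z
      induction z using MonoidAlgebra.induction_linear with
      | zero => exact ⟨0, map_zero G⟩
      | add p q hp hq =>
        obtain ⟨p, rfl⟩ := hp
        obtain ⟨q, rfl⟩ := hq
        exact ⟨p + q, map_add G p q⟩
      | single m r =>
        obtain ⟨w, hw⟩ := hs m
        refine ⟨r • w, ?_⟩
        rw [map_smul, show G w = single m 1 from hw]
        simp
    intro m
    have htop : Ideal.span (Set.range fun u => a u m) = ⊤ := by
      by_contra hne
      obtain ⟨W, hW, hle⟩ := Ideal.exists_le_maximal _ hne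
      haveI := hW.isPrime
      obtain ⟨u, hu, -⟩ := h W m
      have h1 := coeff_of_value e hu m
      rw [if_pos rfl, IsScalarTower.coe_toAlgHom',
        Ideal.algebraMap_residueField_eq_zero.2 (hle (Ideal.subset_span ⟨u, rfl⟩))] at h1
      exact zero_ne_one h1
    obtain ⟨T, hT, h1T⟩ := Submodule.mem_span_finite_of_mem_span
      (show (1 : R') ∈ Submodule.span R' (Set.range fun u => a u m) from (Ideal.eq_top_iff_one _).1 htop)
    obtain ⟨T', rfl⟩ : ∃ T' : Finset M', T = T'.image (fun u => a u m) := by
      obtain ⟨T', -, hT'⟩ := Finset.subset_set_image_iff.1 (Set.image_univ (f := fun u => a u m) ▸ hT)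
      exact ⟨T', hT'.symm⟩
    have hsum : ∑ u ∈ T', a u m = 1 := by
      have hle : Submodule.span R' (↑(T'.image fun u => a u m) : Set R') ≤ Ideal.span {∑ u ∈ T', a u m} := by
        refine Submodule.span_le.2 ?_
        intro y hy
        obtain ⟨u, hu, rfl⟩ := Finset.mem_image.1 (Finset.mem_coe.1 hy)
        refine Ideal.mem_span_singleton'.2 ⟨a u m, ?_⟩
        rw [Finset.mul_sum, Finset.sum_eq_single u (fun v _ hvu => hcross u v m (Ne.symm hvu))
          (fun h => absurd hu h)]
        exact (coeff_mul_coeff (hgl u) m m).trans (if_pos rfl)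
      have hunit : IsUnit (∑ u ∈ T', a u m) := isUnit_of_dvd_one (Ideal.mem_span_singleton.1 (hle h1T))
      refine hunit.mul_left_cancel ?_
      rw [_root_.mul_one, Finset.sum_mul]
      refine Finset.sum_congr rfl fun u hu => ?_
      rw [Finset.mul_sum, Finset.sum_eq_single u (fun v _ hvu => hcross u v m (Ne.symm hvu))
          (fun h => absurd hu h)]
      exact (coeff_mul_coeff (hgl u) m m).trans (if_pos rfl)
    refine ⟨∑ u ∈ T', Finsupp.single u (a u m), ?_⟩
    show Finsupp.linearCombination R' (fun u => emb e (x u)) _ = _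
    rw [map_sum]
    simp only [Finsupp.linearCombination_single]
    refine MonoidAlgebra.ext (Finsupp.ext fun k => ?_)
    rw [coeff_sum, Finsupp.coe_finsetSum, Finset.sum_apply, coeff_single, Finsupp.single_apply]
    simp only [coeff_smul, Finsupp.smul_apply, smul_eq_mul]
    rw [Finset.sum_congr rfl fun u _ => show a u m * (emb e (x u)).coeff k = if m = k then a u m else 0 from
      coeff_mul_coeff (hgl u) m k]
    split_ifs with hk
    · exact hsum
    · exact Finset.sum_const_zero

end pointwise

/-- A group of multiplicative type over a Henselian local ring, split on the closed fibre, is split. -/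
theorem isDiag_of_henselian [HenselianLocalRing R] (hA : IsMultType R A) (hft : Algebra.FiniteType R A)
    (h0 : IsDiag (ResidueField R) (ResidueField R ⊗[R] A)) : IsDiag R A := by
  classical
  obtain ⟨M', _, ⟨e₀⟩⟩ := h0
  have hsurj : ∀ z : ResidueField R ⊗[R] A, ∃ a : A, (1 : ResidueField R) ⊗ₜ[R] a = z := by
    intro z
    induction z using TensorProduct.induction_on with
    | zero => exact ⟨0, TensorProduct.tmul_zero _ _⟩
    | tmul r a =>
      obtain ⟨r, rfl⟩ := residue_surjective r
      exact ⟨r • a, by
        rw [TensorProduct.tmul_smul, TensorProduct.smul_tmul', Algebra.smul_def, _root_.mul_one]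
        rfl⟩
    | add p q hp hq =>
      obtain ⟨a, rfl⟩ := hp
      obtain ⟨b, rfl⟩ := hq
      exact ⟨a + b, TensorProduct.tmul_add _ _ _⟩
  choose a ha using fun u : M' => hsurj (e₀.symm (single u 1))
  choose x hx hxa using fun u : M' => exists_groupLike_henselian hA hft (a u)
    ((ha u).symm ▸ (MonoidAlgebra.isGroupLikeElem_single_one u).map e₀.symm)
  have hx0 : ∀ u, (1 : ResidueField R) ⊗ₜ[R] x u = e₀.symm (single u 1) := fun u => (hxa u).trans (ha u)
  let θ : M' →* A :=
    { toFun := x
      map_one' := groupLike_eq_of_residue hA (hx 1) IsGroupLikeElem.one (by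
        rw [hx0, ← one_def, map_one, Algebra.TensorProduct.one_def])
      map_mul' := fun u v => groupLike_eq_of_residue hA (hx _) ((hx u).mul (hx v)) (by
        rw [hx0, show (1 : ResidueField R) ⊗ₜ[R] (x u * x v) =
          ((1 : ResidueField R) ⊗ₜ[R] x u) * ((1 : ResidueField R) ⊗ₜ[R] x v) by simp, hx0, hx0, ← map_mul,
          MonoidAlgebra.single_mul_single, _root_.mul_one]) }
  let φ : MonoidAlgebra R M' →ₐc[R] A :=
    BialgHom.ofAlgHom (MonoidAlgebra.lift R A M' θ)
      (by ext u; simp [θ, (hx u).counit_eq_one]) (by ext u; simp [θ, (hx u).comul_eq_tmul_self])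
  obtain ⟨c, hc⟩ := exists_ff_chart hA
  obtain ⟨R', _, _, M, _, e, _⟩ : ∃ (R' : Type u) (_ : CommRing R') (_ : Algebra R R') (M : Type u) (_ : CommGroup M)
      (_ : (R' ⊗[R] A) ≃ₐc[R'] MonoidAlgebra R' M), Module.FaithfullyFlat R R' :=
    ⟨c.R', inferInstance, inferInstance, c.M, inferInstance, c.e, c.faithfullyFlat hc⟩
  have hmax : (maximalIdeal R).map (algebraMap R R') ≠ ⊤ := fun h =>
    Module.FaithfullyFlat.submodule_ne_top (M := R') (maximalIdeal.isMaximal R)
      (by rw [Ideal.smul_top_eq_map, h]; rfl)
  obtain ⟨q, hq, hIq⟩ := Ideal.exists_le_maximal _ hmax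
  haveI : q.LiesOver (maximalIdeal R) :=
    ⟨((maximalIdeal.isMaximal R).eq_of_le (Ideal.comap_ne_top _ hq.ne_top)
      (fun r hr => hIq (Ideal.mem_map_of_mem _ hr)))⟩
  let i₀ : R' →ₐ[R] q.ResidueField := IsScalarTower.toAlgHom R R' q.ResidueField
  have hm0 : ∀ r ∈ maximalIdeal R, algebraMap R q.ResidueField r = 0 := fun r hr => by
    rw [IsScalarTower.algebraMap_apply R R' q.ResidueField, Ideal.algebraMap_residueField_eq_zero]
    exact hIq (Ideal.mem_map_of_mem _ hr)
  let σ : ResidueField R →ₐ[R] q.ResidueField :=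
    Ideal.Quotient.liftₐ (maximalIdeal R) (Algebra.ofId R q.ResidueField) hm0
  let y : M' → q.ResidueField ⊗[R] A := fun u => (1 : q.ResidueField) ⊗ₜ[R] x u
  have hy : ∀ u, y u = Algebra.TensorProduct.map σ (AlgHom.id R A) (e₀.symm (single u 1)) := fun u => by
    rw [← hx0, Algebra.TensorProduct.map_tmul, map_one]
    rfl
  have hσs : ∀ (r : ResidueField R) (z : ResidueField R ⊗[R] A),
      Algebra.TensorProduct.map σ (AlgHom.id R A) (r • z) = σ r • Algebra.TensorProduct.map σ (AlgHom.id R A) z := by
    intro r z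
    induction z using TensorProduct.induction_on with
    | zero => simp
    | tmul p b => simp [TensorProduct.smul_tmul']
    | add p b hp hb => simp only [smul_add, map_add, hp, hb]
  have hspan : ⊤ ≤ Submodule.span q.ResidueField (Set.range y) := by
    have h1 : ∀ z : ResidueField R ⊗[R] A, Algebra.TensorProduct.map σ (AlgHom.id R A) z ∈
        Submodule.span q.ResidueField (Set.range y) := by
      intro z
      obtain ⟨w, rfl⟩ : ∃ w, e₀.symm w = z := ⟨e₀ z, e₀.symm_apply_apply z⟩
      induction w using MonoidAlgebra.induction_linear with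
      | zero => simp
      | add p r hp hr => rw [map_add, map_add]; exact Submodule.add_mem _ hp hr
      | single u r =>
        rw [show (single u r : MonoidAlgebra (ResidueField R) M') = r • single u 1 by simp, map_smul, hσs, ← hy]
        exact Submodule.smul_mem _ _ (Submodule.subset_span ⟨u, rfl⟩)
    intro z _
    induction z using TensorProduct.induction_on with
    | zero => exact Submodule.zero_mem _
    | tmul r b =>
      rw [show r ⊗ₜ[R] b = r • ((1 : q.ResidueField) ⊗ₜ[R] b) by simp [TensorProduct.smul_tmul']]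
      refine Submodule.smul_mem _ _ ?_
      have := h1 ((1 : ResidueField R) ⊗ₜ[R] b)
      rwa [Algebra.TensorProduct.map_tmul, map_one, AlgHom.id_apply] at this
    | add p r hp hr => exact Submodule.add_mem _ (hp trivial) (hr trivial)
  haveI : Module.Flat R A := by
    haveI : Module.Free R' (R' ⊗[R] A) := Module.Free.of_equiv
      ((MonoidAlgebra.coeffLinearEquiv (M := M) R').symm.trans
        (e : (R' ⊗[R] A) ≃ₐ[R'] MonoidAlgebra R' M).toLinearEquiv.symm)
    exact Module.Flat.of_flat_tensorProduct R A R'
  have hyinj : Function.Injective y := fun u v huv => by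
    rw [hy, hy] at huv
    exact MonoidAlgebra.single_left_injective one_ne_zero (EquivLike.injective e₀.symm
      (Module.Flat.rTensor_preserves_injective_linearMap (M := A) σ.toLinearMap
        (RingHom.injective (σ : ResidueField R →+* q.ResidueField)) huv))
  have hq0 : ∀ s : M, ∃! u, y u = gam e i₀ s := by
    intro s
    by_contra hcon
    have hnot : gam e i₀ s ∉ Set.range y := by
      rintro ⟨u, hu⟩
      exact hcon ⟨u, hu, fun v hv => hyinj (hv.trans hu.symm)⟩
    have hli := linearIndepOn_isGroupLikeElem (R := q.ResidueField) (A := q.ResidueField ⊗[R] A)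
    have hsub : insert (gam e i₀ s) (Set.range y) ⊆ {a | IsGroupLikeElem q.ResidueField a} := by
      rintro _ (rfl | ⟨u, rfl⟩)
      · exact isGroupLikeElem_gam e i₀ s
      · rw [hy]
        exact isGroupLikeElem_map σ ((MonoidAlgebra.isGroupLikeElem_single_one u).map e₀.symm)
    have h2 := (linearIndepOn_id_insert hnot).1 (hli.mono hsub)
    exact h2.2 (hspan Submodule.mem_top)
  have hbij := bijective_of_values e x hx fun W _ s =>
    bijective_value e x hx q hq0 (IsScalarTower.toAlgHom R R' W.ResidueField) s
  have hφbij : Function.Bijective ((φ : MonoidAlgebra R M' →ₐ[R] A).toLinearMap.lTensor R') := by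
    let E : R' ⊗[R] MonoidAlgebra R M' ≃ₗ[R'] (M' →₀ R') :=
      (MonoidAlgebra.scalarTensorEquiv R R' (M := M')).toLinearEquiv.trans (MonoidAlgebra.coeffLinearEquiv (M := M') R')
    let G : (M' →₀ R') →ₗ[R'] MonoidAlgebra R' M := Finsupp.linearCombination R' fun u => emb e (x u)
    have hG : Function.Bijective G := hbij
    have key : ∀ w, e ((φ : MonoidAlgebra R M' →ₐ[R] A).toLinearMap.lTensor R' w) = G (E w) := by
      intro w
      induction w using TensorProduct.induction_on with
      | zero => simp
      | add p r hp hr => simp only [map_add, hp, hr]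
      | tmul r z =>
        induction z using MonoidAlgebra.induction_linear with
        | zero => simp
        | add p r hp hr => simp only [TensorProduct.tmul_add, map_add, hp, hr]
        | single u t =>
          rw [LinearMap.lTensor_tmul, show (single u t : MonoidAlgebra R M') = t • single u 1 by simp, map_smul,
            TensorProduct.tmul_smul, TensorProduct.tmul_smul, ← algebraMap_smul R' t, ← algebraMap_smul R' t,
            map_smul, map_smul, map_smul]
          congr 1
          rw [show r ⊗ₜ[R] (φ : MonoidAlgebra R M' →ₐ[R] A).toLinearMap (single u 1) =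
              r • ((1 : R') ⊗ₜ[R] x u) by simp [φ, θ, TensorProduct.smul_tmul'], map_smul,
            show E (r ⊗ₜ[R] single u 1) = Finsupp.single u r by simp [E]]
          simp [G, emb_apply]
    have : ((φ : MonoidAlgebra R M' →ₐ[R] A).toLinearMap.lTensor R' : _ → _) = e.symm ∘ G ∘ E :=
      funext fun w => by
        show _ = e.symm (G (E w))
        rw [← key]
        exact (e.symm_apply_apply _).symm
    rw [this]
    exact (EquivLike.bijective e.symm).comp (hG.comp E.bijective)
  have hinj : Function.Injective φ :=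
    (Module.FaithfullyFlat.lTensor_injective_iff_injective R R' _).1 hφbij.1
  have hsur : Function.Surjective φ :=
    (Module.FaithfullyFlat.lTensor_surjective_iff_surjective R R' _).1 hφbij.2
  exact ⟨M', inferInstance, ⟨(BialgEquiv.ofBijective φ ⟨hinj, hsur⟩).symm⟩⟩

/-- Base change of a chart. -/
lemma isMultType_base {R : Type u} [CommRing R] {A : Type u} [CommRing A] [HopfAlgebra R A] (S : Type u) [CommRing S]
    [Algebra R S] (R' : Type u) [CommRing R'] [Algebra R R'] [Module.FaithfullyFlat R R'] (hd : IsDiag R' (R' ⊗[R] A)) :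
    IsMultType S (S ⊗[R] A) :=
  isMultType_of_ff (S ⊗[R] R') (isDiag_congr (cbc (R := R) (A := A) S (S ⊗[R] R')).symm
    (isDiag_of_algHom (Algebra.TensorProduct.includeRight : R' →ₐ[R] S ⊗[R] R') hd))

end Groth.Agent.MultType
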