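import Groth.Agent.MultType.Henselian
import Mathlib.RingTheory.Ideal.GoingDown

/-!
Lifting of group-like elements over a Henselian local ring.
-/

universe u

open TensorProduct SGA3b MonoidAlgebra IsLocalRing
open scoped TensorProduct

namespace Groth.Agent.MultType

/-- Finitely many nontrivial elements of a finitely generated abelian group avoid the `n`-th powers
for some positive `n`. -/
lemma exists_separating_pow {M : Type u} [CommGroup M] [Group.FG M] (F : Finset M) :
    ∃ n : ℕ, 0 < n ∧ ∀ g ∈ F, g ∈ (powMonoidHom n : M →* M).range → g = 1 := by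
  classical
  haveI : AddGroup.FG (Additive M) := inferInstance
  haveI : Module.Finite ℤ (Additive M) := Module.Finite.iff_addGroup_fg.2 inferInstance
  have hone : ∀ g : M, ∃ n : ℕ, 0 < n ∧ (g ∈ (powMonoidHom n : M →* M).range → g = 1) := by
    intro g
    by_contra hcon
    push Not at hcon
    obtain ⟨-, hg1⟩ := hcon 1 one_pos
    have hmem : ∀ p : ℕ, 0 < p → ∃ r : ℤ, r ∈ Ideal.span {(p : ℤ)} ∧ r • Additive.ofMul g = Additive.ofMul g := by
      intro p hp
      have : Additive.ofMul g ∈ ⨅ i : ℕ, (Ideal.span {(p : ℤ)}) ^ i • (⊤ : Submodule ℤ (Additive M)) := by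
        refine Submodule.mem_iInf _ |>.2 fun i => ?_
        obtain ⟨⟨h, hh⟩, -⟩ := hcon (p ^ i) (Nat.pow_pos hp)
        have : Additive.ofMul g = ((p : ℤ) ^ i) • Additive.ofMul h := by
          rw [← Nat.cast_pow, natCast_zsmul, ← ofMul_pow]
          exact congrArg Additive.ofMul hh.symm
        rw [this]
        exact Submodule.smul_mem_smul (by rw [Ideal.span_singleton_pow]; exact Ideal.mem_span_singleton_self _)
          Submodule.mem_top
      obtain ⟨r, hr⟩ := (Ideal.mem_iInf_smul_pow_eq_bot_iff _ _).1 this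
      exact ⟨r.1, r.2, hr⟩
    have htor : IsOfFinOrder g := by
      obtain ⟨r, hr, hrg⟩ := hmem 2 two_pos
      obtain ⟨k, hk⟩ := Ideal.mem_span_singleton.1 hr
      have h2 : (r - 1) • Additive.ofMul g = 0 := by rw [sub_smul, hrg, one_smul, sub_self]
      rw [← ofMul_zpow] at h2
      exact isOfFinOrder_iff_zpow_eq_one.2 ⟨r - 1, by rw [hk]; omega, congrArg Additive.toMul h2⟩
    have ho : orderOf g ≠ 1 := fun h => hg1 (orderOf_eq_one_iff.1 h)
    obtain ⟨r, hr, hrg⟩ := hmem _ htor.orderOf_pos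
    have h2 : (r - 1) • Additive.ofMul g = 0 := by rw [sub_smul, hrg, one_smul, sub_self]
    rw [← ofMul_zpow] at h2
    have h3 : (orderOf g : ℤ) ∣ r - 1 := orderOf_dvd_iff_zpow_eq_one.2 (congrArg Additive.toMul h2)
    have h4 : (orderOf g : ℤ) ∣ r := Ideal.mem_span_singleton.1 hr
    have h5 : (orderOf g : ℤ) ∣ 1 := by simpa using dvd_sub h4 h3
    exact ho (Nat.dvd_one.1 (by exact_mod_cast h5))
  choose n hn hgn using hone
  refine ⟨∏ g ∈ F, n g, Finset.prod_pos fun g _ => hn g, fun g hg => ?_⟩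
  rintro ⟨h, hh⟩
  refine hgn g ⟨h ^ (∏ x ∈ F.erase g, n x), ?_⟩
  show (h ^ (∏ x ∈ F.erase g, n x)) ^ n g = g
  rw [← pow_mul, Finset.prod_erase_mul F n hg]
  exact hh

variable {R : Type u} [CommRing R] {A : Type u} [CommRing A] [HopfAlgebra R A]

section transition

variable {R' : Type u} [CommRing R'] [Algebra R R'] {M : Type u} [CommGroup M]
  (e : (R' ⊗[R] A) ≃ₐc[R'] MonoidAlgebra R' M)

lemma splitE_tmul {T : Type u} [CommRing T] [Algebra R T] (j : R' →ₐ[R] T) (a : A) :
    splitE e j ((1 : T) ⊗ₜ[R] a) = mapAlgHom M j (emb e a) := by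
  have h : (splitE e j).symm (mapAlgHom M j (emb e a)) = (1 : T) ⊗ₜ[R] a := by
    rw [splitE_symm_apply, gamBialg_map, emb_apply,
      show e.symm (e ((1 : R') ⊗ₜ[R] a)) = (1 : R') ⊗ₜ[R] a from e.symm_apply_apply _]
    simp
  rw [← h]
  exact (splitE e j).apply_symm_apply _

/-- If `γ₂ s = γ₁ t` then `t` lies in the support of the transition. -/
lemma mem_supp_transition {K : Type u} [Field K] [Algebra R K] (j₁ j₂ : R' →ₐ[R] K) {s t : M}
    (h : gam e j₂ s = gam e j₁ t) :
    t ∈ (splitE e (Algebra.TensorProduct.includeLeft : R' →ₐ[R] R' ⊗[R] R')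
      (gam e (Algebra.TensorProduct.includeRight : R' →ₐ[R] R' ⊗[R] R') s)).coeff.support := by
  classical
  let f : R' ⊗[R] R' →ₐ[R] K := Algebra.TensorProduct.lift j₁ j₂ fun _ _ => Commute.all _ _
  have h1 : f.comp Algebra.TensorProduct.includeLeft = j₁ := AlgHom.ext fun x => by simp [f]
  have h2 : f.comp Algebra.TensorProduct.includeRight = j₂ := AlgHom.ext fun x => by simp [f]
  have h3 : mapAlgHom M f (splitE e (Algebra.TensorProduct.includeLeft : R' →ₐ[R] R' ⊗[R] R')
      (gam e (Algebra.TensorProduct.includeRight : R' →ₐ[R] R' ⊗[R] R') s)) = single t 1 := by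
    rw [← splitE_comp, ← gam_comp, h1, h2, h, splitE_gam]
  rw [Finsupp.mem_support_iff]
  intro h0
  have h4 : f ((splitE e (Algebra.TensorProduct.includeLeft : R' →ₐ[R] R' ⊗[R] R')
      (gam e (Algebra.TensorProduct.includeRight : R' →ₐ[R] R' ⊗[R] R') s)).coeff t) =
      (single t (1 : K) : MonoidAlgebra K M).coeff t := by
    rw [← h3]
    exact (coeff_mapRingHom (f : R' ⊗[R] R' →+* K) _ t).symm
  rw [h0, map_zero, coeff_single, Finsupp.single_eq_same] at h4
  exact zero_ne_one h4

lemma exists_mem_supp_transition {K : Type u} [Field K] [Algebra R K] (j₁ j₂ : R' →ₐ[R] K) (s : M) :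
    ∃ t, gam e j₂ s = gam e j₁ t := exists_eq_gam e j₁ (isGroupLikeElem_gam e j₂ s)

/-- Values modulo `n`-th powers follow the transition. -/
lemma qn_value_transition (n : ℕ) {K : Type u} [Field K] [Algebra R K] (j₁ j₂ : R' →ₐ[R] K) (z : K ⊗[R] A)
    {s t : M} (hst : gam e j₂ s = gam e j₁ t) (h : qn (R' := K) n (splitE e j₂ z) = single (s : M ⧸ _) 1) :
    qn (R' := K) n (splitE e j₁ z) = single (t : M ⧸ _) 1 := by
  choose f hf using exists_mem_supp_transition e j₁ j₂
  let fh : M →* M :=
    { toFun := f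
      map_one' := gam_injective e j₁ (by
        rw [← hf]
        exact ((gamHom e j₂).map_one).trans ((gamHom e j₁).map_one).symm)
      map_mul' := fun a b => gam_injective e j₁ (by
        rw [← hf]
        refine ((gamHom e j₂).map_mul a b).trans ?_
        rw [gamHom_apply, gamHom_apply, hf, hf]
        exact ((gamHom e j₁).map_mul _ _).symm) }
  let P := (powMonoidHom n : M →* M).range
  let fb : M ⧸ P →* M ⧸ P := QuotientGroup.map P P fh (by
    rintro _ ⟨k, rfl⟩
    exact ⟨f k, (map_pow fh k n).symm⟩)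
  have key : ∀ w : MonoidAlgebra K M, qn (R' := K) n (splitE e j₁ ((splitE e j₂).symm w)) =
      MonoidAlgebra.mapDomainAlgHom K K fb (qn (R' := K) n w) := by
    intro w
    induction w using MonoidAlgebra.induction_linear with
    | zero => simp
    | add a b ha hb => simp only [map_add, ha, hb]
    | single m r =>
      rw [splitE_symm_apply, gamBialg_single, hf, map_smul, splitE_gam, map_smul, qn_single, qn_single]
      simp [fb, fh]
      rfl
  have h2 := key (splitE e j₂ z)
  rw [show (splitE e j₂).symm (splitE e j₂ z) = z from (splitE e j₂).symm_apply_apply z, h] at h2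
  rw [h2, show t = fh s from gam_injective e j₁ (hst.symm.trans (hf s))]
  simp [fb]
  rfl

/-- The chart value modulo torsion of an element at a point. -/
lemma mapAlgHom_qn (n : ℕ) {K : Type u} [CommRing K] [Algebra R K] (j : R' →ₐ[R] K) (w : MonoidAlgebra R' M) :
    mapAlgHom (M ⧸ (powMonoidHom n : M →* M).range) j (qn n w) = qn (R' := K) n (mapAlgHom M j w) := by
  induction w using MonoidAlgebra.induction_linear with
  | zero => simp
  | add u v hu hv => simp only [map_add, hu, hv]
  | single u r =>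
    rw [qn_single, show mapAlgHom M j (single u r) = single u (j r) from mapRingHom_single (j : R' →+* K) u r,
      qn_single]
    exact mapRingHom_single (j : R' →+* K) _ r

lemma isGroupLikeElem_qn_emb (n : ℕ) {x : A} (hε : Coalgebra.counit (R := R) x = 1)
    (hΔ : Algebra.TensorProduct.map (Ideal.Quotient.mkₐ R (torsionIdeal R A n)) (Ideal.Quotient.mkₐ R (torsionIdeal R A n))
        (Coalgebra.comul x) = Ideal.Quotient.mk (torsionIdeal R A n) x ⊗ₜ[R] Ideal.Quotient.mk (torsionIdeal R A n) x) :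
    IsGroupLikeElem R' (qn n (emb e x)) := by
  constructor
  · rw [CoalgHomClass.counit_comp_apply, counit_emb, hε, map_one]
  · rw [← CoalgHomClass.map_comp_comul_apply (qn (R' := R') (M := M) n) (emb e x), comul_emb]
    let jl : A ⧸ torsionIdeal R A n →ₐ[R] MonoidAlgebra R' (M ⧸ (powMonoidHom n : M →* M).range) ⊗[R']
        MonoidAlgebra R' (M ⧸ (powMonoidHom n : M →* M).range) :=
      ((Algebra.TensorProduct.includeLeft : _ →ₐ[R'] _).restrictScalars R).comp (qQuot e n)
    let jr : A ⧸ torsionIdeal R A n →ₐ[R] MonoidAlgebra R' (M ⧸ (powMonoidHom n : M →* M).range) ⊗[R']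
        MonoidAlgebra R' (M ⧸ (powMonoidHom n : M →* M).range) :=
      ((Algebra.TensorProduct.includeRight : _ →ₐ[R'] _).restrictScalars R).comp (qQuot e n)
    have h2 := congrArg (Algebra.TensorProduct.lift jl jr fun _ _ => Commute.all _ _) hΔ
    rw [← (Coalgebra.Repr.arbitrary R x).eq] at h2
    simp only [map_sum, Algebra.TensorProduct.map_tmul, Algebra.TensorProduct.lift_tmul, jl, jr, AlgHom.comp_apply,
      AlgHom.restrictScalars_apply, Algebra.TensorProduct.includeLeft_apply,
      Algebra.TensorProduct.includeRight_apply, Algebra.TensorProduct.tmul_mul_tmul, _root_.one_mul,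
      _root_.mul_one, Ideal.Quotient.mkₐ_eq_mk, qQuot_mk] at h2
    simp only [map_sum, TensorProduct.map_tmul]
    exact h2

end transition

/-- Coefficients of a group-like element are orthogonal idempotents. -/
lemma coeff_mul_coeff {S : Type u} [CommRing S] {G : Type u} [CommGroup G] [DecidableEq G] {w : MonoidAlgebra S G}
    (hw : IsGroupLikeElem S w) (u v : G) : w.coeff u * w.coeff v = if u = v then w.coeff u else 0 := by
  let F : MonoidAlgebra S G ⊗[S] MonoidAlgebra S G →ₗ[S] S :=
    LinearMap.mul' S S ∘ₗ TensorProduct.map ((MonoidAlgebra.basis G S).coord u) ((MonoidAlgebra.basis G S).coord v)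
  have hF : F ∘ₗ Coalgebra.comul = (if u = v then (1 : S) else 0) • (MonoidAlgebra.basis G S).coord u :=
    (MonoidAlgebra.basis G S).ext fun k => by
      simp [F, coord_single, -Module.Basis.coord_apply]
      split_ifs <;> simp_all [coord_single, -Module.Basis.coord_apply]
  have h := congr($hF w)
  rw [LinearMap.comp_apply, hw.comul_eq_tmul_self] at h
  simp [F, -Module.Basis.coord_apply] at h
  have hc : ∀ (k : G) (z : MonoidAlgebra S G), (MonoidAlgebra.basis G S).coord k z = z.coeff k := fun k z => rfl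
  rw [hc, hc] at h
  rw [h]
  split_ifs <;> simp
  rfl

/-- A group-like element evaluates to a basis element at a point. -/
lemma exists_mapAlgHom_eq_single {R : Type u} [CommRing R] {S : Type u} [CommRing S] [Algebra R S] {G : Type u}
    [CommGroup G] {w : MonoidAlgebra S G} (hw : IsGroupLikeElem S w) {K : Type u} [Field K] [Algebra R K]
    (j : S →ₐ[R] K) : ∃ u, mapAlgHom G j w = single u 1 := by
  classical
  have hne : ∃ u, j (w.coeff u) ≠ 0 := by
    by_contra! h0
    have h := hw.counit_eq_one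
    rw [← MonoidAlgebra.sum_single w, Finsupp.sum, map_sum] at h
    simp only [MonoidAlgebra.counit_single, CommSemiring.counit_apply] at h
    have := congrArg j h
    rw [map_sum, map_one, Finset.sum_eq_zero fun u _ => h0 u] at this
    exact zero_ne_one this
  obtain ⟨u, hu⟩ := hne
  have hu1 : j (w.coeff u) = 1 := by
    have := congrArg j (coeff_mul_coeff hw u u)
    rw [if_pos rfl, map_mul] at this
    exact mul_left_cancel₀ hu (this.trans (_root_.mul_one _).symm)
  refine ⟨u, MonoidAlgebra.ext (Finsupp.ext fun v => ?_)⟩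
  rw [show (mapAlgHom G j w).coeff v = j (w.coeff v) from coeff_mapRingHom (j : S →+* K) w v, coeff_single]
  by_cases hv : u = v
  · subst hv; rw [Finsupp.single_eq_same, hu1]
  · rw [Finsupp.single_eq_of_ne (Ne.symm hv)]
    have := congrArg j (coeff_mul_coeff hw u v)
    rwa [if_neg hv, map_mul, map_zero, hu1, _root_.one_mul] at this

/-- Descent of an element along a faithfully flat map. -/
lemma exists_tmul_eq {R R' N : Type u} [CommRing R] [CommRing R'] [Algebra R R'] [Module.FaithfullyFlat R R']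
    [CommRing N] [Algebra R N] (x' : R' ⊗[R] N)
    (h : Algebra.TensorProduct.map (Algebra.TensorProduct.includeLeft : R' →ₐ[R] R' ⊗[R] R') (AlgHom.id R N) x' =
      Algebra.TensorProduct.map (Algebra.TensorProduct.includeRight : R' →ₐ[R] R' ⊗[R] R') (AlgHom.id R N) x') :
    ∃ x : N, (1 : R') ⊗ₜ[R] x = x' := by
  let P := LinearMap.range (TensorProduct.mk R R' N 1)
  suffices hh : Submodule.Quotient.mk (p := P) x' = 0 by
    obtain ⟨x, hx⟩ := (Submodule.Quotient.mk_eq_zero P).1 hh
    exact ⟨x, hx⟩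
  apply Module.FaithfullyFlat.tensorProduct_mk_injective (A := R) (B := R') ((R' ⊗[R] N) ⧸ P)
  rw [map_zero]
  show (1 : R') ⊗ₜ[R] Submodule.Quotient.mk (p := P) x' = 0
  let φ : (R' ⊗[R] R') ⊗[R] N →ₗ[R] R' ⊗[R] ((R' ⊗[R] N) ⧸ P) :=
    P.mkQ.lTensor R' ∘ₗ (TensorProduct.assoc R R' R' N).toLinearMap
  have h1 : ∀ z, φ (Algebra.TensorProduct.map Algebra.TensorProduct.includeRight (AlgHom.id R N) z) =
      (1 : R') ⊗ₜ[R] P.mkQ z := by
    intro z
    induction z using TensorProduct.induction_on with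
    | zero => simp
    | tmul p b => simp [φ]
    | add p b hp hb => simp only [map_add, TensorProduct.tmul_add, hp, hb]
  have h2 : ∀ z, φ (Algebra.TensorProduct.map (Algebra.TensorProduct.includeLeft : R' →ₐ[R] R' ⊗[R] R')
      (AlgHom.id R N) z) = 0 := by
    intro z
    induction z using TensorProduct.induction_on with
    | zero => simp
    | tmul p b =>
      have hb0 : Submodule.Quotient.mk (p := P) ((1 : R') ⊗ₜ[R] b) = 0 :=
        (Submodule.Quotient.mk_eq_zero P).2 ⟨b, rfl⟩
      simp [φ, hb0]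
    | add p b hp hb => simp only [map_add, hp, hb, add_zero]
  rw [← Submodule.mkQ_apply, ← h1, ← h, h2]

section gluing

variable {R' : Type u} [CommRing R'] [Algebra R R'] {M : Type u} [CommGroup M]
  (e : (R' ⊗[R] A) ≃ₐc[R'] MonoidAlgebra R' M) (n : ℕ) (x₀ : A)

/-- The value modulo `n`-th powers of `x₀` at the point `j` is that of `s`. -/
def HasVal {K : Type u} [Field K] [Algebra R K] (j : R' →ₐ[R] K) (s : M) : Prop :=
  mapAlgHom (M ⧸ (powMonoidHom n : M →* M).range) j (qn n (emb e x₀)) = single (s : M ⧸ _) 1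

variable {e n x₀} {K : Type u} [Field K] [Algebra R K] {j : R' →ₐ[R] K}

lemma HasVal.coeff {s : M} (h : HasVal e n x₀ j s) [DecidableEq (M ⧸ (powMonoidHom n : M →* M).range)]
    (u : M ⧸ (powMonoidHom n : M →* M).range) :
    j ((qn n (emb e x₀)).coeff u) = if (s : M ⧸ (powMonoidHom n : M →* M).range) = u then 1 else 0 := by
  refine (coeff_mapRingHom (j : R' →+* K) _ u).symm.trans ?_
  show (mapAlgHom (M ⧸ (powMonoidHom n : M →* M).range) j (qn n (emb e x₀))).coeff u = _
  rw [h, coeff_single, Finsupp.single_apply]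

lemma HasVal.unique {s t : M} (hs : HasVal e n x₀ j s) (ht : HasVal e n x₀ j t) :
    (s : M ⧸ (powMonoidHom n : M →* M).range) = t :=
  MonoidAlgebra.single_left_injective one_ne_zero (hs.symm.trans ht)

lemma HasVal.comp {s : M} (h : HasVal e n x₀ j s) {L : Type u} [Field L] [Algebra R L] (g : K →ₐ[R] L) :
    HasVal e n x₀ (g.comp j) s := by
  classical
  refine MonoidAlgebra.ext (Finsupp.ext fun u => ?_)
  rw [show (mapAlgHom (M ⧸ (powMonoidHom n : M →* M).range) (g.comp j) (qn n (emb e x₀))).coeff u =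
    g (j ((qn n (emb e x₀)).coeff u)) from coeff_mapRingHom ((g.comp j : R' →ₐ[R] L) : R' →+* L) _ u,
    h.coeff, coeff_single, Finsupp.single_apply]
  split_ifs <;> simp

lemma exists_val (hy : IsGroupLikeElem R' (qn n (emb e x₀))) (j : R' →ₐ[R] K) : ∃ s, HasVal e n x₀ j s := by
  obtain ⟨u, hu⟩ := exists_mapAlgHom_eq_single hy j
  obtain ⟨s, rfl⟩ := QuotientGroup.mk_surjective u
  exact ⟨s, hu⟩

lemma HasVal.transition {j₁ j₂ : R' →ₐ[R] K} {s t : M} (hst : gam e j₂ s = gam e j₁ t) (h : HasVal e n x₀ j₂ s) :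
    HasVal e n x₀ j₁ t := by
  have h' : qn (R' := K) n (splitE e j₂ ((1 : K) ⊗ₜ[R] x₀)) = single (s : M ⧸ _) 1 := by
    rw [splitE_tmul, ← mapAlgHom_qn]; exact h
  have := qn_value_transition e n j₁ j₂ _ hst h'
  rw [splitE_tmul, ← mapAlgHom_qn] at this
  exact this

/-- The value at a closed point. -/
lemma val_of_mem {m : M} {a : A} (hx : x₀ - a ∈ torsionIdeal R A n ⊔ (RingHom.ker (algebraMap R K)).map (algebraMap R A))
    (hm : (1 : K) ⊗ₜ[R] a = gam e j m) : HasVal e n x₀ j m := by
  let F : A →ₐ[R] MonoidAlgebra K (M ⧸ (powMonoidHom n : M →* M).range) :=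
    (mapAlgHom (M ⧸ (powMonoidHom n : M →* M).range) j).comp
      (((qn (R' := R') (M := M) n : MonoidAlgebra R' M →ₐ[R'] MonoidAlgebra R' (M ⧸ (powMonoidHom n : M →* M).range)
        ).restrictScalars R).comp (emb e))
  have hle : torsionIdeal R A n ⊔ (RingHom.ker (algebraMap R K)).map (algebraMap R A) ≤ RingHom.ker F := by
    refine sup_le (fun z hz => ?_) (Ideal.map_le_iff_le_comap.2 fun r hr => ?_)
    · show mapAlgHom (M ⧸ (powMonoidHom n : M →* M).range) j (qn n (emb e z)) = 0
      rw [qn_emb_eq_zero e n hz, map_zero]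
    · show F (algebraMap R A r) = 0
      rw [AlgHom.commutes, IsScalarTower.algebraMap_apply R K, show algebraMap R K r = 0 from hr, map_zero]
  have h := hle hx
  rw [RingHom.mem_ker, map_sub, sub_eq_zero] at h
  refine h.trans ?_
  show mapAlgHom (M ⧸ (powMonoidHom n : M →* M).range) j (qn n (emb e a)) = _
  rw [mapAlgHom_qn, ← splitE_tmul, hm, splitE_gam, qn_single]

/-- Over a flat chart all values lie in the transition orbit of the value at a closed point. -/
lemma exists_val_mem [IsLocalRing R] [Module.Flat R R'] (hy : IsGroupLikeElem R' (qn n (emb e x₀)))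
    (q : Ideal R') [q.IsPrime] [q.LiesOver (maximalIdeal R)] {m : M}
    (hm : HasVal e n x₀ (IsScalarTower.toAlgHom R R' q.ResidueField) m) (j : R' →ₐ[R] K) :
    ∃ t, HasVal e n x₀ j t ∧ t ∈ (splitE e (Algebra.TensorProduct.includeLeft : R' →ₐ[R] R' ⊗[R] R')
      (gam e (Algebra.TensorProduct.includeRight : R' →ₐ[R] R' ⊗[R] R') m)).coeff.support := by
  classical
  let p : Ideal R := RingHom.ker (algebraMap R K)
  haveI : p.IsPrime := RingHom.ker_isPrime _
  have hpm : p ≤ maximalIdeal R := IsLocalRing.le_maximalIdeal (Ideal.IsPrime.ne_top inferInstance)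
  obtain ⟨Q, hQq, hQ, hQp⟩ := Ideal.exists_ideal_le_liesOver_of_le (p := p) (q := maximalIdeal R) q hpm
  let iQ : R' →ₐ[R] Q.ResidueField := IsScalarTower.toAlgHom R R' Q.ResidueField
  have hKQ : HasVal e n x₀ iQ m := by
    obtain ⟨u, hu⟩ := exists_val hy iQ
    suffices h : (u : M ⧸ (powMonoidHom n : M →* M).range) = m by
      show _ = _; rw [← h]; exact hu
    by_contra hne
    have h1 := hu.coeff (m : M ⧸ (powMonoidHom n : M →* M).range)
    rw [if_neg hne] at h1
    have h3 := hm.coeff (m : M ⧸ (powMonoidHom n : M →* M).range)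
    rw [if_pos rfl, IsScalarTower.coe_toAlgHom', Ideal.algebraMap_residueField_eq_zero.2
      (hQq (Ideal.algebraMap_residueField_eq_zero.1 h1))] at h3
    exact zero_ne_one h3
  -- a common overfield
  let F := p.ResidueField
  let fK : F →ₐ[R] K := Ideal.ResidueField.liftₐ p (Algebra.ofId R K) le_rfl
    (fun r hr => isUnit_iff_ne_zero.2 fun h => hr h)
  have hQF : ∀ r : R, r ∈ p ↔ algebraMap R Q.ResidueField r = 0 := fun r => by
    rw [IsScalarTower.algebraMap_apply R R' Q.ResidueField, Ideal.algebraMap_residueField_eq_zero, hQp.over]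
    rfl
  let fQ : F →ₐ[R] Q.ResidueField := Ideal.ResidueField.liftₐ p (Algebra.ofId R Q.ResidueField)
    (fun r hr => (hQF r).1 hr) (fun r hr => isUnit_iff_ne_zero.2 fun h => hr ((hQF r).2 h))
  letI : Algebra F K := fK.toRingHom.toAlgebra
  letI : Algebra F Q.ResidueField := fQ.toRingHom.toAlgebra
  haveI : IsScalarTower R F K := IsScalarTower.of_algebraMap_eq fun r => (fK.commutes r).symm
  haveI : IsScalarTower R F Q.ResidueField := IsScalarTower.of_algebraMap_eq fun r => (fQ.commutes r).symm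
  haveI : Nontrivial (K ⊗[F] Q.ResidueField) :=
    (Algebra.TensorProduct.includeLeft_injective (R := F) (S := F) (A := K)
      (algebraMap F Q.ResidueField).injective).nontrivial
  obtain ⟨W, hW⟩ := Ideal.exists_maximal (K ⊗[F] Q.ResidueField)
  letI : Field ((K ⊗[F] Q.ResidueField) ⧸ W) := Ideal.Quotient.field W
  let g₁ : K →ₐ[R] (K ⊗[F] Q.ResidueField) ⧸ W := (Ideal.Quotient.mkₐ R W).comp
    ((Algebra.TensorProduct.includeLeft : K →ₐ[F] K ⊗[F] Q.ResidueField).restrictScalars R)
  let g₂ : Q.ResidueField →ₐ[R] (K ⊗[F] Q.ResidueField) ⧸ W := (Ideal.Quotient.mkₐ R W).comp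
    ((Algebra.TensorProduct.includeRight : Q.ResidueField →ₐ[F] K ⊗[F] Q.ResidueField).restrictScalars R)
  obtain ⟨t, ht⟩ := exists_mem_supp_transition e (g₁.comp j) (g₂.comp iQ) m
  obtain ⟨u, hu⟩ := exists_val hy j
  refine ⟨t, ?_, mem_supp_transition e _ _ ht⟩
  have h : (u : M ⧸ (powMonoidHom n : M →* M).range) = t := (hu.comp g₁).unique ((hKQ.comp g₂).transition ht)
  show _ = _
  rw [← h]
  exact hu

lemma mem_nilradical_of_forall {T : Type u} [CommRing T] (r : T)
    (h : ∀ (W : Ideal T) [W.IsPrime], algebraMap T W.ResidueField r = 0) : r ∈ nilradical T :=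
  mem_nilradical.2 (nilpotent_iff_mem_prime.2 fun W hW => by
    haveI := hW
    exact Ideal.algebraMap_residueField_eq_zero.1 (h W))

/-- Gluing the values into a group-like element of the chart. -/
lemma exists_chart_groupLike (hy : IsGroupLikeElem R' (qn n (emb e x₀))) (S : Finset M)
    (hinj : ∀ s ∈ S, ∀ t ∈ S, (s : M ⧸ (powMonoidHom n : M →* M).range) = t → s = t)
    (hall : ∀ (W : Ideal R') [W.IsPrime], ∃ s ∈ S, HasVal e n x₀ (IsScalarTower.toAlgHom R R' W.ResidueField) s) :
    ∃ x' : R' ⊗[R] A, IsGroupLikeElem R' x' ∧ ∀ {L : Type u} [Field L] [Algebra R L] (j : R' →ₐ[R] L),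
      ∀ s ∈ S, HasVal e n x₀ j s → Algebra.TensorProduct.map j (AlgHom.id R A) x' = gam e j s := by
  classical
  let cc : M → R' := fun s => (qn n (emb e x₀)).coeff (s : M ⧸ (powMonoidHom n : M →* M).range)
  have hidem : ∀ s, cc s * cc s = cc s := fun s => (coeff_mul_coeff hy _ _).trans (if_pos rfl)
  have zero_of_nil : ∀ {r : R'}, IsIdempotentElem r → r ∈ nilradical R' → r = 0 := fun {r} hi hn =>
    hi.eq_zero_of_isNilpotent (mem_nilradical.1 hn)
  have hortho : ∀ s ∈ S, ∀ t ∈ S, s ≠ t → cc s * cc t = 0 := fun s hs t ht hst =>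
    (coeff_mul_coeff hy _ _).trans (if_neg fun h => hst (hinj s hs t ht h))
  have hsumidem : IsIdempotentElem (∑ s ∈ S, cc s) := by
    show (∑ s ∈ S, cc s) * _ = _
    rw [Finset.sum_mul]
    refine Finset.sum_congr rfl fun s hs => ?_
    rw [Finset.mul_sum, Finset.sum_eq_single s (fun t ht hts => hortho s hs t ht (Ne.symm hts))
      (fun h => absurd hs h), hidem]
  have hsum : ∑ s ∈ S, cc s = 1 := (sub_eq_zero.1 (zero_of_nil hsumidem.one_sub
    (mem_nilradical_of_forall _ fun W _ => by
      obtain ⟨u, huS, hu⟩ := hall W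
      rw [map_sub, map_one, map_sum, Finset.sum_eq_single u (fun s hs hsu => ?_) (fun h => absurd huS h)]
      · rw [← IsScalarTower.coe_toAlgHom' R R' W.ResidueField, hu.coeff, if_pos rfl, sub_self]
      · rw [← IsScalarTower.coe_toAlgHom' R R' W.ResidueField, hu.coeff, if_neg fun h => hsu (hinj s hs u huS h.symm)]))).symm
  let i1 : R' →ₐ[R] R' := AlgHom.id R R'
  refine ⟨∑ s ∈ S, cc s • gam e i1 s, ⟨?_, ?_⟩, ?_⟩
  · simp only [map_sum, map_smul, (isGroupLikeElem_gam e i1 _).counit_eq_one, smul_eq_mul, _root_.mul_one]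
    exact hsum
  · simp only [map_sum, map_smul, (isGroupLikeElem_gam e i1 _).comul_eq_tmul_self, TensorProduct.sum_tmul]
    refine Finset.sum_congr rfl fun s hs => ?_
    rw [TensorProduct.tmul_sum, Finset.sum_eq_single s (fun t ht hts => by
      rw [TensorProduct.smul_tmul_smul, hortho s hs t ht (Ne.symm hts), zero_smul]) (fun h => absurd hs h),
      TensorProduct.smul_tmul_smul, hidem]
  · intro L _ _ j u huS hu
    have hjs : ∀ (r : R') (z : R' ⊗[R] A), Algebra.TensorProduct.map j (AlgHom.id R A) (r • z) =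
        j r • Algebra.TensorProduct.map j (AlgHom.id R A) z := by
      intro r z
      induction z using TensorProduct.induction_on with
      | zero => simp
      | tmul p b => simp [TensorProduct.smul_tmul']
      | add p b hp hb => simp only [smul_add, map_add, hp, hb]
    rw [map_sum, Finset.sum_eq_single u (fun s hs hsu => ?_) (fun h => absurd huS h)]
    · rw [hjs, hu.coeff, if_pos rfl, one_smul, ← gam_comp]
      rfl
    · rw [hjs, hu.coeff, if_neg fun h => hsu (hinj s hs u huS h.symm), zero_smul]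

/-- The glued element descends. -/
lemma map_eq_map_of_val (S S2 : Finset M)
    (hinj : ∀ s ∈ S2, ∀ t ∈ S2, (s : M ⧸ (powMonoidHom n : M →* M).range) = t → s = t) (hSS : S ⊆ S2)
    (hsupp : ∀ s ∈ S, (splitE e (Algebra.TensorProduct.includeLeft : R' →ₐ[R] R' ⊗[R] R')
      (gam e (Algebra.TensorProduct.includeRight : R' →ₐ[R] R' ⊗[R] R') s)).coeff.support ⊆ S2)
    (hall : ∀ {L : Type u} [Field L] [Algebra R L] (j : R' →ₐ[R] L), ∃ s ∈ S, HasVal e n x₀ j s)
    {x' : R' ⊗[R] A} (hx' : IsGroupLikeElem R' x')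
    (hval : ∀ {L : Type u} [Field L] [Algebra R L] (j : R' →ₐ[R] L),
      ∀ s ∈ S, HasVal e n x₀ j s → Algebra.TensorProduct.map j (AlgHom.id R A) x' = gam e j s) :
    Algebra.TensorProduct.map (Algebra.TensorProduct.includeLeft : R' →ₐ[R] R' ⊗[R] R') (AlgHom.id R A) x' =
      Algebra.TensorProduct.map (Algebra.TensorProduct.includeRight : R' →ₐ[R] R' ⊗[R] R') (AlgHom.id R A) x' := by
  refine groupLike_ext e Algebra.TensorProduct.includeLeft (isGroupLikeElem_map _ hx') (isGroupLikeElem_map _ hx')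
    fun k => mem_nilradical_of_forall _ fun W _ => ?_
  let f : R' ⊗[R] R' →ₐ[R] W.ResidueField := IsScalarTower.toAlgHom R _ _
  rw [map_sub, sub_eq_zero]
  show f _ = f _
  let l₁ : R' →ₐ[R] R' ⊗[R] R' := Algebra.TensorProduct.includeLeft
  let l₂ : R' →ₐ[R] R' ⊗[R] R' := Algebra.TensorProduct.includeRight
  have hcomm : ∀ z, f ((splitE e l₁ z).coeff k) =
      (splitE e (f.comp l₁) (Algebra.TensorProduct.map f (AlgHom.id R A) z)).coeff k := fun z => by
    rw [splitE_comp]
    exact (coeff_mapRingHom (f : R' ⊗[R] R' →+* W.ResidueField) _ k).symm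
  have hmm : ∀ (l : R' →ₐ[R] R' ⊗[R] R') (z : R' ⊗[R] A), Algebra.TensorProduct.map f (AlgHom.id R A)
      (Algebra.TensorProduct.map l (AlgHom.id R A) z) = Algebra.TensorProduct.map (f.comp l) (AlgHom.id R A) z := by
    intro l z
    induction z using TensorProduct.induction_on with
    | zero => simp
    | tmul p b => simp
    | add p b hp hb => simp only [map_add, hp, hb]
  rw [hcomm, hcomm, hmm, hmm]
  obtain ⟨s, hs, hqs⟩ := hall (f.comp l₁)
  obtain ⟨s', hs', hqs'⟩ := hall (f.comp l₂)
  obtain ⟨t, ht⟩ := exists_mem_supp_transition e (f.comp l₁) (f.comp l₂) s'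
  have hst : s = t := hinj s (hSS hs) t (hsupp s' hs' (mem_supp_transition e _ _ ht)) (hqs.unique (hqs'.transition ht))
  rw [hval _ s hs hqs, hval _ s' hs' hqs', ht, hst]

end gluing

/-- Over a Henselian local ring a residual group-like element lifts. -/
theorem exists_groupLike_henselian [HenselianLocalRing R] (hA : IsMultType R A) (hft : Algebra.FiniteType R A)
    (a : A) (ha : IsGroupLikeElem (ResidueField R) ((1 : ResidueField R) ⊗ₜ[R] a)) :
    ∃ x : A, IsGroupLikeElem R x ∧ (1 : ResidueField R) ⊗ₜ[R] x = (1 : ResidueField R) ⊗ₜ[R] a := by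
  classical
  obtain ⟨c, hc⟩ := exists_ff_chart hA
  obtain ⟨R', _, _, M, _, e, _⟩ : ∃ (R' : Type u) (_ : CommRing R') (_ : Algebra R R') (M : Type u) (_ : CommGroup M)
      (_ : (R' ⊗[R] A) ≃ₐc[R'] MonoidAlgebra R' M), Module.FaithfullyFlat R R' :=
    ⟨c.R', inferInstance, inferInstance, c.M, inferInstance, c.e, c.faithfullyFlat hc⟩
  haveI : Module.Flat R A := by
    haveI : Module.Free R' (R' ⊗[R] A) := Module.Free.of_equiv
      ((MonoidAlgebra.coeffLinearEquiv (M := M) R').symm.trans
        (e : (R' ⊗[R] A) ≃ₐ[R'] MonoidAlgebra R' M).toLinearEquiv.symm)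
    exact Module.Flat.of_flat_tensorProduct R A R'
  have hmax : (maximalIdeal R).map (algebraMap R R') ≠ ⊤ := fun h =>
    Module.FaithfullyFlat.submodule_ne_top (M := R') (maximalIdeal.isMaximal R)
      (by rw [Ideal.smul_top_eq_map, h]; rfl)
  obtain ⟨q, hq, hIq⟩ := Ideal.exists_le_maximal _ hmax
  haveI : Nontrivial R' := nontrivial_of_ne (1 : R') 0 fun h => hq.ne_top (q.eq_top_iff_one.2 (h ▸ q.zero_mem))
  haveI := fg_of_finiteType hft e
  haveI : q.LiesOver (maximalIdeal R) :=
    ⟨((maximalIdeal.isMaximal R).eq_of_le (Ideal.comap_ne_top _ hq.ne_top)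
      (fun r hr => hIq (Ideal.mem_map_of_mem _ hr)))⟩
  let i₀ : R' →ₐ[R] q.ResidueField := IsScalarTower.toAlgHom R R' q.ResidueField
  have hm0 : maximalIdeal R ≤ RingHom.ker (algebraMap R q.ResidueField) := fun r hr => by
    rw [RingHom.mem_ker, IsScalarTower.algebraMap_apply R R' q.ResidueField, Ideal.algebraMap_residueField_eq_zero]
    exact hIq (Ideal.mem_map_of_mem _ hr)
  let σ : ResidueField R →ₐ[R] q.ResidueField :=
    Ideal.Quotient.liftₐ (maximalIdeal R) (Algebra.ofId R q.ResidueField) hm0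
  have hσ : Algebra.TensorProduct.map σ (AlgHom.id R A) ((1 : ResidueField R) ⊗ₜ[R] a) =
      (1 : q.ResidueField) ⊗ₜ[R] a := by
    rw [Algebra.TensorProduct.map_tmul, map_one, AlgHom.id_apply]
  obtain ⟨m, hm⟩ := exists_eq_gam e i₀ (hσ ▸ isGroupLikeElem_map σ ha)
  let supp : M → Finset M := fun s => (splitE e (Algebra.TensorProduct.includeLeft : R' →ₐ[R] R' ⊗[R] R')
      (gam e (Algebra.TensorProduct.includeRight : R' →ₐ[R] R' ⊗[R] R') s)).coeff.support
  let S : Finset M := insert m (supp m)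
  let S2 : Finset M := S ∪ S.biUnion supp
  obtain ⟨n, hn, hsep⟩ := exists_separating_pow ((S2 ×ˢ S2).image fun p => p.1⁻¹ * p.2)
  have hinj : ∀ s ∈ S2, ∀ t ∈ S2, (s : M ⧸ (powMonoidHom n : M →* M).range) = t → s = t := fun s hs t ht hst =>
    inv_mul_eq_one.1 (hsep _ (Finset.mem_image.2 ⟨(s, t), Finset.mem_product.2 ⟨hs, ht⟩, rfl⟩)
      (QuotientGroup.eq.1 hst))
  obtain ⟨x₀, hε, hΔ, hxa⟩ := exists_groupLike_mod hA hft n hn a ha
  have hy := isGroupLikeElem_qn_emb e n hε hΔ
  have hm' : HasVal e n x₀ i₀ m := val_of_mem ((sup_le_sup (le_refl _) (Ideal.map_mono (f := algebraMap R A) hm0)) hxa) hm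
  have hmS : m ∈ S := Finset.mem_insert_self _ _
  have hall : ∀ {L : Type u} [Field L] [Algebra R L] (j : R' →ₐ[R] L), ∃ s ∈ S, HasVal e n x₀ j s := by
    intro L _ _ j
    obtain ⟨t, ht, hts⟩ := exists_val_mem hy q hm' j
    exact ⟨t, Finset.mem_insert_of_mem hts, ht⟩
  have hSS : S ⊆ S2 := Finset.subset_union_left
  obtain ⟨x', hx', hvalx⟩ := exists_chart_groupLike hy S (fun s hs t ht => hinj s (hSS hs) t (hSS ht))
    (fun W _ => hall _)
  have heq := map_eq_map_of_val S S2 hinj hSS (fun s hs t ht =>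
    Finset.mem_union_right _ (Finset.mem_biUnion.2 ⟨s, hs, ht⟩)) hall hx' hvalx
  obtain ⟨x, hx⟩ := exists_tmul_eq x' heq
  refine ⟨x, ?_, ?_⟩
  · have hgl : IsGroupLikeElem R ((1 : R) ⊗ₜ[R] x) := by
      refine isGroupLikeElem_of_map (Algebra.ofId R R') (FaithfulSMul.algebraMap_injective R R')
        (Module.Flat.rTensor_preserves_injective_linearMap (M := A ⊗[R] A) (Algebra.ofId R R').toLinearMap
          (FaithfulSMul.algebraMap_injective R R')) ?_
      rw [Algebra.TensorProduct.map_tmul, map_one, AlgHom.id_apply, hx]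
      exact hx'
    have := hgl.map (Bialgebra.TensorProduct.lid R A)
    simpa using this
  · have hσinj : Function.Injective (Algebra.TensorProduct.map σ (AlgHom.id R A)) :=
      Module.Flat.rTensor_preserves_injective_linearMap (M := A) σ.toLinearMap
        (RingHom.injective (σ : ResidueField R →+* q.ResidueField))
    apply hσinj
    have h := hvalx i₀ m hmS hm'
    rw [← hx, Algebra.TensorProduct.map_tmul, map_one, AlgHom.id_apply, ← hm] at h
    rw [hσ, Algebra.TensorProduct.map_tmul, map_one, AlgHom.id_apply]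
    exact h

end Groth.Agent.MultType
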