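import Groth.Agent.MultType.Quot

/-!
The torsion subgroups of a group of multiplicative type.
-/

universe u v

open TensorProduct WithConv MonoidAlgebra SGA3b
open scoped TensorProduct

namespace Groth.Agent.MultType

variable {R : Type u} [CommRing R] {R' : Type u} [CommRing R'] [Algebra R R']
  {A : Type u} [CommRing A] [HopfAlgebra R A] {M : Type u} [CommGroup M]

lemma powConv_sub_mem (n : ℕ) (a : A) :
    powConv R A n a - algebraMap R A (Coalgebra.counit a) ∈ torsionIdeal R A n := by
  have h : powConv R A n (a - algebraMap R A (Coalgebra.counit a)) =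
      powConv R A n a - algebraMap R A (Coalgebra.counit a) := by
    rw [map_sub, AlgHom.commutes]
  rw [← h]
  refine Ideal.mem_map_of_mem _ ?_
  show Bialgebra.counitAlgHom R A _ = 0
  rw [map_sub, AlgHom.commutes]
  simp

lemma torsionIdeal_le_iff {n : ℕ} {K : Ideal A} :
    torsionIdeal R A n ≤ K ↔ ∀ a, powConv R A n a - algebraMap R A (Coalgebra.counit a) ∈ K := by
  refine ⟨fun h a => h (powConv_sub_mem n a), fun h => Ideal.map_le_iff_le_comap.2 fun a ha => ?_⟩
  have ha' : Coalgebra.counit (R := R) a = 0 := ha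
  simpa [ha'] using h a

/-- The quotient by the `n`-th torsion ideal, in a chart. -/
lemma isDiag_and_finite_quot (hft : Algebra.FiniteType R A)
    (e : (R' ⊗[R] A) ≃ₐc[R'] MonoidAlgebra R' M) (n : ℕ) (hn : 0 < n)
    (J : Ideal A) [J.IsHopfIdeal R] (hJ : J = torsionIdeal R A n) :
    IsDiag R' (R' ⊗[R] (A ⧸ J)) ∧ Module.Finite R' (R' ⊗[R] (A ⧸ J)) := by
  classical
  let π : R' ⊗[R] A →ₐc[R'] R' ⊗[R] (A ⧸ J) :=
    Bialgebra.TensorProduct.map (BialgHom.id R' R') (Bialgebra.Quotient.mkBialgHom J)
  have hπ : ∀ (r : R') (a : A), π (r ⊗ₜ a) = r ⊗ₜ Ideal.Quotient.mk J a := fun r a => rfl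
  have hπs : Function.Surjective π := by
    intro z
    induction z using TensorProduct.induction_on with
    | zero => exact ⟨0, map_zero π⟩
    | tmul r a =>
      obtain ⟨a, rfl⟩ := Ideal.Quotient.mk_surjective a
      exact ⟨r ⊗ₜ a, hπ r a⟩
    | add a b ha hb =>
      obtain ⟨x, rfl⟩ := ha
      obtain ⟨y, rfl⟩ := hb
      exact ⟨x + y, map_add π x y⟩
  let G : MonoidAlgebra R' M →ₐc[R'] R' ⊗[R] (A ⧸ J) :=
    π.comp (e.symm : MonoidAlgebra R' M →ₐc[R'] R' ⊗[R] A)
  have hG : ∀ a, G (emb e a) = (1 : R') ⊗ₜ Ideal.Quotient.mk J a := fun a => by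
    show π (e.symm (e ((1 : R') ⊗ₜ a))) = _
    have : e.symm (e ((1 : R') ⊗ₜ[R] a)) = (1 : R') ⊗ₜ[R] a := e.symm_apply_apply _
    rw [this, hπ]
  let θ : M →* R' ⊗[R] (A ⧸ J) := (G : MonoidAlgebra R' M →* _).comp (MonoidAlgebra.of R' M)
  have hθ : ∀ m, θ m = G (single m 1) := fun m => rfl
  have hGs : Function.Surjective G := hπs.comp (EquivLike.surjective e.symm)
  have hspan : Submodule.span R' (Set.range θ) = ⊤ := by
    refine eq_top_iff.2 fun z _ => ?_
    obtain ⟨y, rfl⟩ := hGs z
    induction y using MonoidAlgebra.induction_linear with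
    | zero => simp
    | add a b ha hb => rw [map_add]; exact Submodule.add_mem _ (ha trivial) (hb trivial)
    | single m r =>
      rw [show (single m r : MonoidAlgebra R' M) = r • single m 1 by simp, map_smul]
      exact Submodule.smul_mem _ _ (Submodule.subset_span ⟨m, hθ m⟩)
  -- `n`-th powers are killed
  have hpow : ∀ k : M, θ (k ^ n) = 1 := by
    intro k
    let y : MonoidAlgebra R' M →ₐ[R'] R' ⊗[R] (A ⧸ J) :=
      (Algebra.ofId R' _).comp (Bialgebra.counitAlgHom R' (MonoidAlgebra R' M))
    have h : (G : MonoidAlgebra R' M →ₐ[R'] _).comp (pw n) = y := algHom_ext_emb e fun a => by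
      show G (pw n (emb e a)) = algebraMap R' _ (Coalgebra.counit (R := R') (emb e a))
      rw [← emb_powConv, hG, counit_emb, ← IsScalarTower.algebraMap_apply,
        Ideal.Quotient.eq.2 (hJ ▸ powConv_sub_mem n a)]
      rw [Ideal.Quotient.mk_algebraMap, ← Algebra.TensorProduct.includeRight_apply, AlgHom.commutes]
    have h' := congr($h (single k 1))
    simpa [y, hθ, Algebra.TensorProduct.one_def] using h'
  let P : Subgroup M := (powMonoidHom n : M →* M).range
  let q : MonoidAlgebra R' M →ₐ[R'] MonoidAlgebra R' (M ⧸ P) :=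
    MonoidAlgebra.mapDomainAlgHom R' R' (QuotientGroup.mk' P)
  have hq : J ≤ RingHom.ker ((q.restrictScalars R).comp (emb e)) := by
    rw [hJ, torsionIdeal_le_iff]
    intro a
    have h : q.comp (pw n) = (Algebra.ofId R' _).comp (Bialgebra.counitAlgHom R' _) :=
      MonoidAlgebra.algHom_ext' (MonoidHom.ext fun k => by
        simp [q, show ((k ^ n : M) : M ⧸ P) = 1 from (QuotientGroup.eq_one_iff _).2 ⟨k, rfl⟩,
          one_def]) (by ext)
    show q (emb e (powConv R A n a - algebraMap R A (Coalgebra.counit a))) = 0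
    rw [map_sub, map_sub, emb_powConv, AlgHom.commutes, sub_eq_zero]
    refine (congr($h (emb e a))).trans ?_
    show algebraMap R' _ (Coalgebra.counit (R := R') (emb e a)) = _
    rw [counit_emb, ← IsScalarTower.algebraMap_apply]
    exact ((q.restrictScalars R).commutes _).symm
  let F : R' ⊗[R] (A ⧸ J) →ₐ[R'] MonoidAlgebra R' (M ⧸ P) :=
    Algebra.TensorProduct.lift (Algebra.ofId R' _)
      (Ideal.Quotient.liftₐ J ((q.restrictScalars R).comp (emb e)) hq) fun _ _ => Commute.all _ _
  have hF : ∀ m, F (θ m) = single (m : M ⧸ P) 1 := by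
    have h : F.comp (G : MonoidAlgebra R' M →ₐ[R'] _) = q := algHom_ext_emb e fun a => by
      show F (G (emb e a)) = _
      rw [hG]
      simp [F, ← one_def]
    intro m
    refine (congr($h (single m 1))).trans ?_
    simp [q]
  have hli : LinearIndepOn R' id (Set.range θ) := by
    choose ι hι using fun x : Set.range θ => x.2
    have hinj : Function.Injective fun x : Set.range θ => (ι x : M ⧸ P) := by
      intro x y hxy
      obtain ⟨k, hk⟩ := QuotientGroup.eq.1 hxy
      refine Subtype.ext ?_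
      rw [← hι x, ← hι y, show ι y = ι x * k ^ n by
        rw [show k ^ n = (ι x)⁻¹ * ι y from hk, mul_inv_cancel_left], map_mul, hpow, _root_.mul_one]
    refine LinearIndependent.of_comp F.toLinearMap ?_
    have hfun : (⇑F.toLinearMap ∘ fun x : Set.range θ => id (x : R' ⊗[R] (A ⧸ J))) =
        ⇑(MonoidAlgebra.basis (M ⧸ P) R') ∘ fun x => (ι x : M ⧸ P) := funext fun x => by
      show F (x : R' ⊗[R] (A ⧸ J)) = _
      rw [← hι x, hF]
      simp
    rw [hfun]
    exact (MonoidAlgebra.basis (M ⧸ P) R').linearIndependent.comp _ hinj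
  refine ⟨isDiag_of_hom θ (fun m => (MonoidAlgebra.isGroupLikeElem_single_one m).map G) hspan hli, ?_⟩
  rcases subsingleton_or_nontrivial R' with _ | _
  · haveI : Subsingleton (R' ⊗[R] (A ⧸ J)) := Module.subsingleton R' _
    infer_instance
  · haveI := fg_of_finiteType hft e
    haveI : Group.FG (M ⧸ P) := QuotientGroup.fg P
    have htor : Monoid.IsTorsion (M ⧸ P) := by
      intro x
      induction x using QuotientGroup.induction_on with
      | H k => exact isOfFinOrder_iff_pow_eq_one.2 ⟨n, hn, (QuotientGroup.eq_one_iff _).2 ⟨k, rfl⟩⟩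
    haveI : Finite (M ⧸ P) := CommGroup.finite_of_fg_torsion (M ⧸ P) htor
    have hfin : (Set.range θ).Finite := by
      have : Set.range θ ⊆ Set.range fun x : M ⧸ P => θ x.out := by
        rintro _ ⟨m, rfl⟩
        refine ⟨(m : M ⧸ P), ?_⟩
        obtain ⟨⟨_, k, rfl⟩, hk⟩ := QuotientGroup.mk_out_eq_mul P m
        show θ _ = θ m
        rw [hk, map_mul]
        show θ m * θ (k ^ n) = θ m
        rw [hpow, _root_.mul_one]
      exact (Set.finite_range _).subset this
    exact ⟨⟨hfin.toFinset, by rw [Set.Finite.coe_toFinset, hspan]⟩⟩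

end Groth.Agent.MultType
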