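import Groth.Agent.MultType.Cover
import Groth.Agent.MultType.Torsion

/-!
Values at points of group-like elements in a split coefficient ring.
-/

universe u

open TensorProduct SGA3b MonoidAlgebra
open scoped TensorProduct

namespace Groth.Agent.MultType

variable {R : Type u} [CommRing R] {R' : Type u} [CommRing R'] [Algebra R R']
  {A : Type u} [CommRing A] [HopfAlgebra R A] {M : Type u} [CommGroup M]
  (e : (R' ⊗[R] A) ≃ₐc[R'] MonoidAlgebra R' M)

section

variable {T : Type u} [CommRing T] [Algebra R T] (i : R' →ₐ[R] T)

/-- The image in `T ⊗ A` of a basis element of the chart. -/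
noncomputable def gam (m : M) : T ⊗[R] A :=
  Algebra.TensorProduct.map i (AlgHom.id R A) (e.symm (single m 1))

lemma isGroupLikeElem_gam (m : M) : IsGroupLikeElem T (gam e i m) :=
  isGroupLikeElem_map i ((MonoidAlgebra.isGroupLikeElem_single_one m).map e.symm)

/-- `gam` as a monoid hom. -/
noncomputable def gamHom : M →* T ⊗[R] A where
  toFun := gam e i
  map_one' := by simp [gam, ← one_def, Algebra.TensorProduct.one_def]
  map_mul' a b := by simp [gam, ← map_mul]

@[simp] lemma gamHom_apply (m : M) : gamHom e i m = gam e i m := rfl

/-- The map `T[M] → T ⊗ A`. -/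
noncomputable def gamBialg : MonoidAlgebra T M →ₐc[T] T ⊗[R] A :=
  BialgHom.ofAlgHom (MonoidAlgebra.lift T (T ⊗[R] A) M (gamHom e i))
    (by ext m; simp [(isGroupLikeElem_gam e i m).counit_eq_one])
    (by ext m; simp [(isGroupLikeElem_gam e i m).comul_eq_tmul_self])

lemma gamBialg_single (m : M) (t : T) : gamBialg e i (single m t) = t • gam e i m := by
  simp [gamBialg]

lemma gamBialg_map (w : MonoidAlgebra R' M) :
    gamBialg e i (mapAlgHom M i w) = Algebra.TensorProduct.map i (AlgHom.id R A) (e.symm w) := by
  induction w using MonoidAlgebra.induction_linear with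
  | zero => simp
  | add a b ha hb => simp only [map_add, ha, hb]
  | single m r =>
    rw [show mapAlgHom M i (single m r) = single m (i r) from mapRingHom_single (i : R' →+* T) m r,
      gamBialg_single, gam, show (single m r : MonoidAlgebra R' M) = r • single m 1 by simp, map_smul]
    generalize e.symm (single m 1) = z
    induction z using TensorProduct.induction_on with
    | zero => simp
    | tmul s a => simp [TensorProduct.smul_tmul']
    | add a b ha hb => simp only [smul_add, map_add, ha, hb]

/-- The candidate inverse of `gamBialg`. -/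
noncomputable def evT : T ⊗[R] A →ₐ[T] MonoidAlgebra T M :=
  Algebra.TensorProduct.lift (Algebra.ofId T _) ((mapAlgHom M i).comp (emb e)) fun _ _ => Commute.all _ _

lemma evT_map (z : R' ⊗[R] A) :
    evT e i (Algebra.TensorProduct.map i (AlgHom.id R A) z) = mapAlgHom M i (e z) := by
  induction z using TensorProduct.induction_on with
  | zero => simp
  | add a b ha hb => simp only [map_add, ha, hb]
  | tmul r a =>
    have he : e (r ⊗ₜ[R] a) = algebraMap R' (MonoidAlgebra R' M) r * emb e a := by
      rw [← Algebra.smul_def, emb_apply, ← map_smul, TensorProduct.smul_tmul', smul_eq_mul, _root_.mul_one]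
    rw [he, map_mul, Algebra.TensorProduct.map_tmul]
    simp only [evT, Algebra.TensorProduct.lift_tmul, AlgHom.id_apply, AlgHom.comp_apply, Algebra.ofId_apply]
    congr 1
    simp

lemma gamBialg_bijective : Function.Bijective (gamBialg e i) := by
  have h1 : ∀ z, evT e i (gamBialg e i z) = z := by
    intro z
    induction z using MonoidAlgebra.induction_linear with
    | zero => simp
    | add a b ha hb => simp only [map_add, ha, hb]
    | single m t =>
      rw [gamBialg_single, map_smul, gam, evT_map,
        show e (e.symm (single m 1)) = single m 1 from e.apply_symm_apply _,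
        show mapAlgHom M i (single m 1) = single m (i 1) from mapRingHom_single (i : R' →+* T) m 1]
      simp
  have h2 : (gamBialg e i : MonoidAlgebra T M →ₐ[T] T ⊗[R] A).comp (evT e i) = AlgHom.id _ _ :=
    Algebra.TensorProduct.ext (by ext) (AlgHom.ext fun a => by
      show gamBialg e i (evT e i ((1 : T) ⊗ₜ[R] a)) = (1 : T) ⊗ₜ[R] a
      rw [show evT e i ((1 : T) ⊗ₜ[R] a) = mapAlgHom M i (emb e a) by simp [evT, ← one_def], gamBialg_map,
        emb_apply, show e.symm (e ((1 : R') ⊗ₜ[R] a)) = (1 : R') ⊗ₜ[R] a from e.symm_apply_apply _]
      simp)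
  exact ⟨Function.LeftInverse.injective h1, fun z => ⟨evT e i z, congr($h2 z)⟩⟩

/-- The splitting over `T` induced by the chart along `i`. -/
noncomputable def splitE : T ⊗[R] A ≃ₐc[T] MonoidAlgebra T M :=
  (BialgEquiv.ofBijective (gamBialg e i) (gamBialg_bijective e i)).symm

lemma splitE_symm_apply (w : MonoidAlgebra T M) : (splitE e i).symm w = gamBialg e i w := rfl

lemma splitE_gam (m : M) : splitE e i (gam e i m) = single m 1 := by
  have h := (splitE e i).apply_symm_apply (single m 1)
  rw [splitE_symm_apply, gamBialg_single, one_smul] at h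
  exact h

lemma gam_injective [Nontrivial T] : Function.Injective (gam e i) := fun a b h =>
  MonoidAlgebra.single_left_injective (one_ne_zero : (1 : T) ≠ 0)
    ((splitE_gam e i a).symm.trans ((congrArg (splitE e i) h).trans (splitE_gam e i b)))

/-- Group-like elements of a split algebra are equal if their coefficients agree modulo nilpotents. -/
lemma groupLike_ext {x y : T ⊗[R] A} (hx : IsGroupLikeElem T x) (hy : IsGroupLikeElem T y)
    (h : ∀ m, (splitE e i x).coeff m - (splitE e i y).coeff m ∈ nilradical T) : x = y := by
  apply EquivLike.injective (splitE e i)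
  refine groupLike_eq_of_nil ⟨M, inferInstance, ⟨BialgEquiv.refl T _⟩⟩ (hx.map (splitE e i)) (hy.map (splitE e i))
    (nilradical T) le_rfl (mem_map_single_iff.2 fun m => ?_)
  rw [coeff_sub, Finsupp.sub_apply]
  exact h m

variable {U : Type u} [CommRing U] [Algebra R U] (g : T →ₐ[R] U)

lemma gam_comp (m : M) : gam e (g.comp i) m = Algebra.TensorProduct.map g (AlgHom.id R A) (gam e i m) := by
  unfold gam
  generalize e.symm (single m 1) = z
  induction z using TensorProduct.induction_on with
  | zero => simp
  | tmul s a => simp
  | add a b ha hb => simp only [map_add, ha, hb]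

lemma splitE_comp (x : T ⊗[R] A) :
    splitE e (g.comp i) (Algebra.TensorProduct.map g (AlgHom.id R A) x) = mapAlgHom M g (splitE e i x) := by
  obtain ⟨w, rfl⟩ : ∃ w, (splitE e i).symm w = x := ⟨_, (splitE e i).symm_apply_apply x⟩
  rw [show splitE e i ((splitE e i).symm w) = w from (splitE e i).apply_symm_apply w]
  have h : Algebra.TensorProduct.map g (AlgHom.id R A) ((splitE e i).symm w) =
      (splitE e (g.comp i)).symm (mapAlgHom M g w) := by
    rw [splitE_symm_apply, splitE_symm_apply]
    induction w using MonoidAlgebra.induction_linear with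
    | zero => simp
    | add a b ha hb => simp only [map_add, ha, hb]
    | single m t =>
      rw [show mapAlgHom M g (single m t) = single m (g t) from mapRingHom_single (g : T →+* U) m t,
        gamBialg_single, gamBialg_single, gam_comp]
      generalize gam e i m = z
      induction z using TensorProduct.induction_on with
      | zero => simp
      | tmul s a => simp [TensorProduct.smul_tmul']
      | add a b ha hb => simp only [smul_add, map_add, ha, hb]
  rw [h]
  exact (splitE e (g.comp i)).apply_symm_apply _

end

/-- A group-like element over a field with a chart point is a basis element. -/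
lemma exists_eq_gam {K : Type u} [Field K] [Algebra R K] (i : R' →ₐ[R] K) {x : K ⊗[R] A}
    (hx : IsGroupLikeElem K x) : ∃ m, x = gam e i m := by
  obtain ⟨m, hm⟩ := MonoidAlgebra.isGroupLikeElem_iff_mem_range_of.1 (hx.map (splitE e i))
  refine ⟨m, EquivLike.injective (splitE e i) ?_⟩
  rw [splitE_gam]
  exact hm.symm

end Groth.Agent.MultType
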