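import Groth.Agent.MultType.Henselian
import Groth.Agent.ZetaPts.Alg

/-!
The torsion subgroups of a group of multiplicative type are schematically dense in it (SGA3 IX 4.7).
-/

universe u

open TensorProduct SGA3b MonoidAlgebra
open scoped TensorProduct

namespace Groth.Agent.MultType

lemma pow_mem_pow {L : Type u} [CommRing L] {m : Ideal L} {p : ℕ} (hp : (p : L) ∈ m) {v : L}
    (hv : v - 1 ∈ m) : ∀ k : ℕ, v ^ p ^ k - 1 ∈ m ^ (k + 1) := by
  intro k
  induction k with
  | zero => simpa using hv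
  | succ k ih =>
    set w := v ^ p ^ k with hw
    have h1 : w - 1 ∈ m := Ideal.pow_le_self (Nat.succ_ne_zero k) ih
    have h2 : (∑ i ∈ Finset.range p, w ^ i) ∈ m := by
      have h3 : (∑ i ∈ Finset.range p, (w ^ i - 1)) ∈ m := sum_mem fun i _ => by
        obtain ⟨d, hd⟩ := sub_one_dvd_pow_sub_one w i
        rw [hd]
        exact m.mul_mem_right _ h1
      rw [Finset.sum_sub_distrib, Finset.sum_const, Finset.card_range, nsmul_one] at h3
      simpa using m.add_mem h3 hp
    rw [show v ^ p ^ (k + 1) = w ^ p by rw [hw, pow_succ, pow_mul], ← geom_sum_mul, pow_succ' m]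
    exact Ideal.mul_mem_mul h2 ih

/-- The quotient by `n`-th powers kills whatever a map with trivial `n`-th powers kills. -/
lemma eq_zero_of_qn {S : Type u} [CommRing S] {M : Type u} [CommGroup M] {T : Type u} [CommRing T]
    [Algebra S T] (π : MonoidAlgebra S M →ₐ[S] T) (n : ℕ) (hn : ∀ m : M, π (single (m ^ n) 1) = 1)
    {x : MonoidAlgebra S M} (hx : qn n x = 0) : π x = 0 := by
  let η : M →* T := (π : MonoidAlgebra S M →* T).comp (MonoidAlgebra.of S M)
  let u : M →* Tˣ := η.toHomUnits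
  have hker : (powMonoidHom n : M →* M).range ≤ u.ker := by
    rintro _ ⟨m, rfl⟩
    exact Units.ext (hn m)
  let θ : MonoidAlgebra S (M ⧸ (powMonoidHom n : M →* M).range) →ₐ[S] T :=
    MonoidAlgebra.lift S T _ ((Units.coeHom T).comp (QuotientGroup.lift _ u hker))
  have h : θ.comp (qn (R' := S) (M := M) n : MonoidAlgebra S M →ₐ[S] _) = π :=
    MonoidAlgebra.algHom_ext' (MonoidHom.ext fun m => by
      show θ (qn n (single m 1)) = π (single m 1)
      rw [qn_single]
      simp [θ, u, η]) (by ext)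
  rw [← h]
  show θ (qn n x) = 0
  rw [hx, map_zero]

/-- Noetherian case. -/
lemma exists_pow_eq_zero_of_int {S : Type u} [CommRing S] [Algebra.FiniteType ℤ S] {M : Type u}
    [CommGroup M] [Monoid.FG M] (g f : MonoidAlgebra S M)
    (h : ∀ n : ℕ, 0 < n → ∃ N : ℕ, qn n (g * f ^ N) = 0) : ∃ N : ℕ, g * f ^ N = 0 := by
  let P := MonoidAlgebra S M
  haveI : Algebra.FiniteType ℤ P := Algebra.FiniteType.trans (R := ℤ) (S := S) (A := P) inferInstance inferInstance
  let L := Localization.Away f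
  haveI : Algebra.FiniteType P L := inferInstance
  haveI : Algebra.FiniteType ℤ L := Algebra.FiniteType.trans (R := ℤ) (S := P) (A := L) inferInstance inferInstance
  haveI : IsNoetherianRing L := Algebra.FiniteType.isNoetherianRing ℤ L
  suffices hz : algebraMap P L g = 0 by
    obtain ⟨⟨_, N, rfl⟩, hN⟩ := (IsLocalization.map_eq_zero_iff (Submonoid.powers f) L g).1 hz
    exact ⟨N, by rw [_root_.mul_comm]; exact hN⟩
  set y := algebraMap P L g with hy
  by_contra hy0
  obtain ⟨m, hm, hle⟩ := Ideal.exists_le_maximal ((Submodule.span L {y}).annihilator) (fun h => hy0 (by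
    rw [Ideal.eq_top_iff_one, Submodule.mem_annihilator_span_singleton, one_smul] at h
    exact h))
  letI := Ideal.Quotient.field m
  haveI hLint : @Algebra.FiniteType ℤ L _ _ (Ring.toIntAlgebra L) := by
    convert! (inferInstance : Algebra.FiniteType ℤ L)
    exact Subsingleton.elim _ _
  haveI : Finite (L ⧸ m) := @ZetaPts.finite_residue_of_isMaximal L _ hLint m hm
  haveI := Fintype.ofFinite (L ⧸ m)
  obtain ⟨p, hp⟩ := CharP.exists (L ⧸ m)
  have hp' : (p : L) ∈ m := by
    rw [← Ideal.Quotient.eq_zero_iff_mem, map_natCast]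
    exact CharP.cast_eq_zero _ _
  have hppos : 0 < p := (CharP.char_is_prime (L ⧸ m) p).pos
  set q := Fintype.card (L ⧸ m) with hq
  have hq1 : 0 < q - 1 := Nat.sub_pos_of_lt Fintype.one_lt_card
  have hmem : ∀ k : ℕ, y ∈ m ^ (k + 1) := by
    intro k
    obtain ⟨N, hN⟩ := h ((q - 1) * p ^ k) (Nat.mul_pos hq1 (pow_pos hppos k))
    let π : MonoidAlgebra S M →ₐ[S] L ⧸ m ^ (k + 1) :=
      (Ideal.Quotient.mkₐ S (m ^ (k + 1))).comp (IsScalarTower.toAlgHom S P L)
    have hπ : ∀ x, π x = Ideal.Quotient.mk (m ^ (k + 1)) (algebraMap P L x) := fun x => rfl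
    have hker : π (g * f ^ N) = 0 := by
      refine eq_zero_of_qn π ((q - 1) * p ^ k) (fun mm => ?_) hN
      set v := algebraMap P L (single mm 1) with hv
      have hu : IsUnit v := ((Group.isUnit mm).map (MonoidAlgebra.of S M)).map (algebraMap P L)
      have hv1 : v ^ (q - 1) - 1 ∈ m := by
        rw [← Ideal.Quotient.eq_zero_iff_mem, map_sub, map_one, map_pow,
          FiniteField.pow_card_sub_one_eq_one _ (hu.map (Ideal.Quotient.mk m)).ne_zero, sub_self]
      have h1 : (single mm (1 : S)) ^ ((q - 1) * p ^ k) = single (mm ^ ((q - 1) * p ^ k)) (1 : S) := by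
        rw [MonoidAlgebra.single_pow, one_pow]
      rw [hπ, ← h1, map_pow, ← hv, pow_mul, ← sub_eq_zero, ← map_one (Ideal.Quotient.mk (m ^ (k + 1))),
        ← map_sub, Ideal.Quotient.eq_zero_iff_mem]
      exact pow_mem_pow hp' hv1 k
    rw [hπ, map_mul, map_pow, Ideal.Quotient.eq_zero_iff_mem] at hker
    exact (Ideal.unit_mul_mem_iff_mem _ ((IsLocalization.Away.algebraMap_isUnit f).pow N)).1
      (by rwa [_root_.mul_comm] at hker)
  have hinf : y ∈ (⨅ i : ℕ, m ^ i • ⊤ : Submodule L L) := by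
    rw [Submodule.mem_iInf]
    intro i
    rw [smul_eq_mul, Ideal.mul_top]
    exact Ideal.pow_le_pow_right (Nat.le_succ i) (hmem i)
  obtain ⟨⟨r, hr⟩, hry⟩ := (Ideal.mem_iInf_smul_pow_eq_bot_iff m y).1 hinf
  have : 1 - r ∈ m := hle ((Submodule.mem_annihilator_span_singleton _ _).2 (by
    show (1 - r) • y = 0
    rw [sub_smul, one_smul, hry, sub_self]))
  exact hm.ne_top ((Ideal.eq_top_iff_one _).2 (by simpa using m.add_mem this hr))

lemma qn_mapRange {S₀ S : Type u} [CommRing S₀] [CommRing S] (φ : S₀ →+* S) {M : Type u} [CommGroup M]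
    (n : ℕ) (x : MonoidAlgebra S₀ M) :
    qn n (mapRingHom M φ x) = mapRingHom _ φ (qn n x) := by
  induction x using MonoidAlgebra.induction_linear with
  | zero => simp
  | add x y hx hy => simp only [map_add, hx, hy]
  | single m r => simp [qn_single]

/-- Elements killed, up to powers of `f`, in all the finite quotients are killed by a power of `f`. -/
theorem exists_pow_eq_zero_of_qn {S : Type u} [CommRing S] {M : Type u} [CommGroup M] [Monoid.FG M]
    (g f : MonoidAlgebra S M) (h : ∀ n : ℕ, 0 < n → ∃ N : ℕ, qn n (g * f ^ N) = 0) :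
    ∃ N : ℕ, g * f ^ N = 0 := by
  classical
  let S₀ := Algebra.adjoin ℤ (↑(g.coeff.support.image g.coeff ∪ f.coeff.support.image f.coeff) : Set S)
  haveI : Algebra.FiniteType ℤ S₀ :=
    ⟨(Subalgebra.fg_top _).2 (Subalgebra.fg_adjoin_finset _)⟩
  let φ : S₀ →+* S := S₀.val.toRingHom
  have hlift : ∀ w : MonoidAlgebra S M, (∀ a ∈ w.coeff.support, w.coeff a ∈ S₀) →
      ∃ w₀ : MonoidAlgebra S₀ M, mapRingHom M φ w₀ = w := by
    intro w hw
    refine ⟨∑ a ∈ w.coeff.support.attach, single a.1 ⟨w.coeff a.1, hw a.1 a.2⟩, ?_⟩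
    rw [map_sum]
    conv_rhs => rw [← MonoidAlgebra.sum_coeff_single w, Finsupp.sum, ← Finset.sum_attach]
    exact Finset.sum_congr rfl fun a _ => by simp [φ]
  obtain ⟨g₀, hg₀⟩ := hlift g fun a ha => Algebra.subset_adjoin (by
    exact Finset.mem_union_left _ (Finset.mem_image_of_mem _ ha))
  obtain ⟨f₀, hf₀⟩ := hlift f fun a ha => Algebra.subset_adjoin (by
    exact Finset.mem_union_right _ (Finset.mem_image_of_mem _ ha))
  have hinj : ∀ (G : Type u) [Group G], Function.Injective (mapRingHom G φ) := fun G _ a b hab => by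
    ext k
    simpa [φ] using congr(($hab).coeff k)
  obtain ⟨N, hN⟩ := exists_pow_eq_zero_of_int g₀ f₀ fun n hn => by
    obtain ⟨N, hN⟩ := h n hn
    exact ⟨N, hinj _ (by rw [← qn_mapRange, map_mul, map_pow, map_zero, hg₀, hf₀, hN])⟩
  exact ⟨N, by rw [← hg₀, ← hf₀, ← map_pow, ← map_mul, hN, map_zero]⟩

theorem iInf_torsionIdeal_away {R : Type u} [CommRing R] {A : Type u} [CommRing A] [HopfAlgebra R A]
    (hft : Algebra.FiniteType R A) (hA : IsMultType R A) (a : A) :
    ⨅ n : {n : ℕ // 0 < n}, Ideal.map (algebraMap A (Localization.Away a)) (torsionIdeal R A n.1) = ⊥ := by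
  rw [eq_bot_iff]
  intro x hx
  rw [Submodule.mem_bot]
  obtain ⟨⟨b, s⟩, hb⟩ := IsLocalization.surj (Submonoid.powers a) x
  have hu : IsUnit (algebraMap A (Localization.Away a) s) := IsLocalization.map_units _ s
  rw [← hu.mul_left_eq_zero, hb]
  have hmem : ∀ n : {n : ℕ // 0 < n}, ∃ N : ℕ, a ^ N * b ∈ torsionIdeal R A n.1 := by
    intro n
    have h1 : algebraMap A (Localization.Away a) b ∈
        Ideal.map (algebraMap A (Localization.Away a)) (torsionIdeal R A n.1) := by
      rw [← hb]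
      exact Ideal.mul_mem_right _ _ ((Ideal.mem_iInf).1 hx n)
    obtain ⟨_, ⟨N, rfl⟩, hN⟩ :=
      (IsLocalization.algebraMap_mem_map_algebraMap_iff (Submonoid.powers a) _ _ _).1 h1
    exact ⟨N, hN⟩
  obtain ⟨sc, hsc, hc⟩ := exists_charts hA
  refine eq_zero_of_charts (R := R) hsc fun f hf => ?_
  obtain ⟨c, rfl⟩ := hc f hf
  rcases subsingleton_or_nontrivial c.R' with h | h
  · obtain ⟨j, hj⟩ := c.exists_pow_smul_eq_zero (x := b) (by
      rw [Subsingleton.elim (1 : c.R') 0, TensorProduct.zero_tmul])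
    exact ⟨j, by rw [Algebra.smul_def, IsScalarTower.algebraMap_apply R A, ← map_mul, ← Algebra.smul_def, hj,
      map_zero]⟩
  haveI := hft
  haveI : Algebra.FiniteType c.R' (MonoidAlgebra c.R' c.M) :=
    Algebra.FiniteType.equiv (inferInstance : Algebra.FiniteType c.R' (c.R' ⊗[R] A)) c.e.toAlgEquiv
  haveI : Monoid.FG c.M := MonoidAlgebra.finiteType_iff_fg.1 this
  obtain ⟨N, hN⟩ := exists_pow_eq_zero_of_qn (emb c.e b) (emb c.e a) fun n hn => by
    obtain ⟨N, hN⟩ := hmem ⟨n, hn⟩
    refine ⟨N, ?_⟩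
    have := qn_emb_eq_zero c.e n hN
    rwa [map_mul, map_pow, _root_.mul_comm] at this
  rw [← map_pow, ← map_mul, emb_apply] at hN
  obtain ⟨j, hj⟩ := c.exists_pow_smul_eq_zero (c.e.injective (hN.trans (map_zero c.e).symm))
  refine ⟨j, ?_⟩
  have h2 := congr(algebraMap A (Localization.Away a) $hj)
  rw [← smul_mul_assoc, map_mul, map_zero, map_pow,
    (((IsLocalization.Away.algebraMap_isUnit a).pow N)).mul_left_eq_zero] at h2
  rwa [Algebra.smul_def, IsScalarTower.algebraMap_apply R A, ← map_mul, ← Algebra.smul_def]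

end Groth.Agent.MultType
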