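import Groth.Agent.MultType.Glue
import Groth.Agent.MultType.Connected

/-!
Gluing of isomorphisms, diagonalisation over a product.
-/

universe u

open TensorProduct
open scoped TensorProduct

namespace Groth.Agent.MultType.Glue

/-- Base change of a bialgebra isomorphism. -/
lemma exists_baseChangeEquiv {S : Type u} [CommRing S] (T : Type u) [CommRing T] [Algebra S T] {A B : Type u}
    [CommRing A] [Bialgebra S A] [CommRing B] [Bialgebra S B] (e : A ≃ₐc[S] B) :
    ∃ e' : T ⊗[S] A ≃ₐc[T] T ⊗[S] B, ∀ t a, e' (t ⊗ₜ a) = t ⊗ₜ e a := by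
  let f := Bialgebra.TensorProduct.map (BialgHom.id T T) (e : A →ₐc[S] B)
  let g := Bialgebra.TensorProduct.map (BialgHom.id T T) (e.symm : B →ₐc[S] A)
  have h1 : ∀ z, g (f z) = z := by
    intro z
    induction z using TensorProduct.induction_on with
    | zero => simp
    | add a b ha hb => simp only [map_add, ha, hb]
    | tmul t a => simp [f, g]
  have h2 : ∀ z, f (g z) = z := by
    intro z
    induction z using TensorProduct.induction_on with
    | zero => simp
    | add a b ha hb => simp only [map_add, ha, hb]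
    | tmul t a => simp [f, g]
  exact ⟨BialgEquiv.ofBijective f ⟨Function.LeftInverse.injective h1, Function.RightInverse.surjective h2⟩,
    fun t a => rfl⟩

/-- Group algebras of isomorphic groups. -/
lemma nonempty_equiv_of_mulEquiv (S : Type u) [CommRing S] {M N : Type u} [CommGroup M] [CommGroup N] (f : M ≃* N) :
    Nonempty (MonoidAlgebra S M ≃ₐc[S] MonoidAlgebra S N) := by
  let a := MonoidAlgebra.mapDomainBialgHom S f.toMonoidHom
  let b := MonoidAlgebra.mapDomainBialgHom S f.symm.toMonoidHom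
  have h1 : ∀ z, b (a z) = z := by
    intro z
    induction z using MonoidAlgebra.induction_linear with
    | zero => simp
    | add p q hp hq => simp only [map_add, hp, hq]
    | single m r => simp [a, b]
  have h2 : ∀ z, a (b z) = z := by
    intro z
    induction z using MonoidAlgebra.induction_linear with
    | zero => simp
    | add p q hp hq => simp only [map_add, hp, hq]
    | single m r => simp [a, b]
  exact ⟨BialgEquiv.ofBijective a ⟨Function.LeftInverse.injective h1, Function.RightInverse.surjective h2⟩⟩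

/-- A diagonalisation is inherited by algebras. -/
lemma nonempty_diag_map {R : Type u} [CommRing R] {A : Type u} [CommRing A] [HopfAlgebra R A] {S T : Type u}
    [CommRing S] [Algebra R S] [CommRing T] [Algebra R T] (f : S →ₐ[R] T) {M : Type u} [CommGroup M]
    (e : S ⊗[R] A ≃ₐc[S] MonoidAlgebra S M) : Nonempty (T ⊗[R] A ≃ₐc[T] MonoidAlgebra T M) := by
  letI : Algebra S T := f.toRingHom.toAlgebra
  haveI : IsScalarTower R S T := IsScalarTower.of_algebraMap_eq fun r => (f.commutes r).symm
  exact ⟨(cbc (R := R) (A := A) S T).symm.trans (scalarEquiv T e)⟩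

variable {R : Type u} [CommRing R] {J : Type} [Fintype J] {e : J → R}
  {T : J → Type u} [∀ j, CommRing (T j)] [∀ j, Algebra R (T j)]

lemma IsSplit.exists_eq (h : IsSplit e T) {X : Type*} [AddCommGroup X] [Module R X] (w : ∀ j, T j ⊗[R] X) :
    ∃ x : X, ∀ j, (1 : T j) ⊗ₜ[R] x = w j := by
  classical
  have hs : ∀ j (z : T j ⊗[R] X), ∃ x : X, (1 : T j) ⊗ₜ[R] x = z := by
    intro j z
    induction z using TensorProduct.induction_on with
    | zero => exact ⟨0, by rw [TensorProduct.tmul_zero]⟩
    | add p q hp hq =>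
      obtain ⟨p, rfl⟩ := hp
      obtain ⟨q, rfl⟩ := hq
      exact ⟨p + q, TensorProduct.tmul_add _ _ _⟩
    | tmul t p =>
      obtain ⟨r, rfl⟩ := h.surj j t
      exact ⟨r • p, by rw [Algebra.algebraMap_eq_smul_one, TensorProduct.smul_tmul]⟩
  choose x hx using fun j => hs j (w j)
  refine ⟨∑ j, e j • x j, fun i => ?_⟩
  rw [TensorProduct.tmul_sum, Finset.sum_eq_single i
    (fun j _ hji => by rw [TensorProduct.tmul_smul]; exact h.smul_eq_zero hji ((1 : T i) ⊗ₜ[R] x j))
    (fun hi => absurd (Finset.mem_univ i) hi), TensorProduct.tmul_smul, h.smul_eq i ((1 : T i) ⊗ₜ[R] x i), hx]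

/-- Isomorphisms on all the factors glue. -/
theorem exists_equiv_glue (h : IsSplit e T) {X Y : Type u} [CommRing X] [HopfAlgebra R X] [CommRing Y] [HopfAlgebra R Y]
    (ε : ∀ j, T j ⊗[R] X ≃ₐc[T j] T j ⊗[R] Y) : Nonempty (X ≃ₐc[R] Y) := by
  choose φ hφ using fun x : X => h.exists_eq fun j => ε j ((1 : T j) ⊗ₜ x)
  have ext_ : ∀ {Z : Type u} [AddCommGroup Z] [Module R Z] (a b : Z),
      (∀ j, (1 : T j) ⊗ₜ[R] a = (1 : T j) ⊗ₜ[R] b) → a = b := fun a b hab =>
    sub_eq_zero.1 (h.eq_zero fun j => by rw [TensorProduct.tmul_sub, hab, sub_self])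
  let φa : X →ₐ[R] Y :=
    { toFun := φ
      map_one' := ext_ _ _ fun j => by rw [hφ, ← Algebra.TensorProduct.one_def, map_one]; rfl
      map_mul' := fun a b => ext_ _ _ fun j => by
        rw [hφ, show (1 : T j) ⊗ₜ[R] (φ a * φ b) = ((1 : T j) ⊗ₜ[R] φ a) * ((1 : T j) ⊗ₜ[R] φ b) by
          simp, hφ, hφ, ← map_mul]
        simp
      map_zero' := ext_ _ _ fun j => by simp only [hφ, TensorProduct.tmul_zero, map_zero]
      map_add' := fun a b => ext_ _ _ fun j => by simp only [hφ, TensorProduct.tmul_add, map_add]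
      commutes' := fun r => ext_ _ _ fun j => by
        rw [hφ, Algebra.algebraMap_eq_smul_one, Algebra.algebraMap_eq_smul_one, TensorProduct.tmul_smul,
          TensorProduct.tmul_smul, ← IsScalarTower.algebraMap_smul (T j) r, map_smul,
          IsScalarTower.algebraMap_smul, ← Algebra.TensorProduct.one_def, map_one]
        rfl }
  have hφa : ∀ x j, (1 : T j) ⊗ₜ[R] φa x = ε j ((1 : T j) ⊗ₜ x) := hφ
  have hdef : DefectLE (⊥ : Ideal R) φa := fun x => by
    suffices hx : Algebra.TensorProduct.map φa φa (Coalgebra.comul x) = Coalgebra.comul (φa x) by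
      rw [hx, sub_self]; exact Submodule.zero_mem _
    refine ext_ _ _ fun j => ?_
    have h2 := congrArg (kap (R := R) (A := Y) (T j)) (CoalgHomClass.map_comp_comul_apply (ε j) ((1 : T j) ⊗ₜ[R] x))
    rw [← hφa, kap_comul, jΔ, Algebra.TensorProduct.map_tmul, AlgHom.id_apply, Bialgebra.comulAlgHom_apply] at h2
    rw [← h2, TensorProduct.comul_tmul, CommSemiring.comul_apply]
    induction Coalgebra.comul (R := R) x using TensorProduct.induction_on with
    | zero => simp
    | add p q hp hq => simp only [TensorProduct.tmul_add, map_add, hp, hq]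
    | tmul p q =>
      simp only [TensorProduct.AlgebraTensorModule.tensorTensorTensorComm_tmul, TensorProduct.map_tmul,
        Algebra.TensorProduct.map_tmul]
      show _ = kap (T j) (ε j ((1 : T j) ⊗ₜ[R] p) ⊗ₜ[T j] ε j ((1 : T j) ⊗ₜ[R] q))
      rw [← hφa, ← hφa, kap_tmul]
      simp [j₁, j₂]
  obtain ⟨Φ, hΦ⟩ := exists_bialgHom_of_defect hdef
  refine ⟨BialgEquiv.ofBijective Φ ⟨fun a b hab => ext_ _ _ fun j => (ε j).injective ?_, fun y => ?_⟩⟩
  · show ε j ((1 : T j) ⊗ₜ a) = ε j ((1 : T j) ⊗ₜ b)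
    rw [← hφa, ← hφa, ← hΦ, ← hΦ, hab]
  · obtain ⟨x, hx⟩ := h.exists_eq fun j => (ε j).symm ((1 : T j) ⊗ₜ y)
    exact ⟨x, ext_ _ _ fun j => by rw [hΦ, hφa, hx, BialgEquiv.apply_symm_apply]⟩

/-- Diagonalisations over the factors of a product give one over the product. -/
lemma isSplit_pi (S : J → Type u) [∀ j, CommRing (S j)] [DecidableEq J] :
    letI : ∀ j, Algebra (∀ i, S i) (S j) := fun j => (Pi.evalRingHom S j).toAlgebra
    IsSplit (R := ∀ i, S i) (fun j => Pi.single j 1) S := by
  letI : ∀ j, Algebra (∀ i, S i) (S j) := fun j => (Pi.evalRingHom S j).toAlgebra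
  refine ⟨Finset.univ_sum_single (1 : ∀ i, S i), fun j x => ⟨Pi.single j x, Pi.single_eq_same j x⟩, fun j => Pi.single_eq_same j 1,
    fun i j hij => Pi.single_eq_of_ne (Ne.symm hij) 1, fun j r hr => funext fun i => ?_⟩
  by_cases hij : i = j
  · subst hij
    have hr' : r i = 0 := hr
    simp [hr']
  · simp [Pi.single_eq_of_ne hij]

lemma isDiag_pi {A : Type u} [CommRing A] [HopfAlgebra R A] {ι : Type} [Fintype ι] (S : ι → Type u)
    [∀ i, CommRing (S i)] [∀ i, Algebra R (S i)] {M : Type u} [CommGroup M]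
    (hd : ∀ i, Nonempty (S i ⊗[R] A ≃ₐc[S i] MonoidAlgebra (S i) M)) :
    SGA3b.IsDiag (∀ i, S i) ((∀ i, S i) ⊗[R] A) := by
  classical
  let P := ∀ i, S i
  letI : ∀ i, Algebra P (S i) := fun i => (Pi.evalRingHom S i).toAlgebra
  haveI : ∀ i, IsScalarTower R P (S i) := fun i => IsScalarTower.of_algebraMap_eq fun r => rfl
  exact ⟨M, inferInstance, exists_equiv_glue (isSplit_pi S) fun i =>
    ((cbc (R := R) (A := A) P (S i)).trans (hd i).some).trans
      (scalarEquiv (S i) (BialgEquiv.refl P (MonoidAlgebra P M))).symm⟩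

end Groth.Agent.MultType.Glue
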