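import Groth.Agent.MultType.PointValue
import Groth.Agent.MultType.Fibre
import Groth.Agent.Hensel.Idempotent

/-!
Group-like elements modulo torsion over a Henselian local ring.
-/

universe u

open TensorProduct SGA3b MonoidAlgebra WithConv IsLocalRing
open scoped TensorProduct

namespace Groth.Agent.MultType

variable {R : Type u} [CommRing R] {A : Type u} [CommRing A] [HopfAlgebra R A]

section chart

variable {R' : Type u} [CommRing R'] [Algebra R R'] {M : Type u} [CommGroup M]
  (e : (R' ⊗[R] A) ≃ₐc[R'] MonoidAlgebra R' M) (n : ℕ)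

/-- The quotient of the chart by `n`-th powers. -/
noncomputable def qn : MonoidAlgebra R' M →ₐc[R'] MonoidAlgebra R' (M ⧸ (powMonoidHom n : M →* M).range) :=
  MonoidAlgebra.mapDomainBialgHom R' (QuotientGroup.mk' _)

lemma qn_single (m : M) (r : R') : qn n (single m r) = single (m : M ⧸ (powMonoidHom n : M →* M).range) r := by
  simp [qn]

/-- The map from the quotient by the torsion ideal to the split quotient. -/
lemma qn_emb_eq_zero {a : A} (ha : a ∈ torsionIdeal R A n) : qn n (emb e a) = 0 := by
  let q : MonoidAlgebra R' M →ₐ[R'] MonoidAlgebra R' (M ⧸ (powMonoidHom n : M →* M).range) :=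
    MonoidAlgebra.mapDomainAlgHom R' R' (QuotientGroup.mk' _)
  have hq : torsionIdeal R A n ≤ RingHom.ker ((q.restrictScalars R).comp (emb e)) := by
    rw [torsionIdeal_le_iff]
    intro a
    have h : q.comp (pw n) = (Algebra.ofId R' _).comp (Bialgebra.counitAlgHom R' _) :=
      MonoidAlgebra.algHom_ext' (MonoidHom.ext fun k => by
        simp [q, show ((k ^ n : M) : M ⧸ (powMonoidHom n : M →* M).range) = 1 from
          (QuotientGroup.eq_one_iff _).2 ⟨k, rfl⟩, one_def]) (by ext)
    show q (emb e (powConv R A n a - algebraMap R A (Coalgebra.counit a))) = 0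
    rw [map_sub, map_sub, emb_powConv, AlgHom.commutes, sub_eq_zero]
    refine (congr($h (emb e a))).trans ?_
    show algebraMap R' _ (Coalgebra.counit (R := R') (emb e a)) = _
    rw [counit_emb, ← IsScalarTower.algebraMap_apply]
    exact ((q.restrictScalars R).commutes _).symm
  exact hq ha

/-- The chart on the quotient by the torsion ideal. -/
noncomputable def qQuot : (A ⧸ torsionIdeal R A n) →ₐ[R] MonoidAlgebra R' (M ⧸ (powMonoidHom n : M →* M).range) :=
  Ideal.Quotient.liftₐ (torsionIdeal R A n)
    (((qn (R' := R') (M := M) n : MonoidAlgebra R' M →ₐ[R'] _).restrictScalars R).comp (emb e))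
    (fun _ ha => by exact qn_emb_eq_zero e n ha)

lemma qQuot_mk (a : A) : qQuot e n (Ideal.Quotient.mk _ a) = qn n (emb e a) := rfl

/-- The split quotient modulo torsion. -/
noncomputable def quotEquiv : R' ⊗[R] (A ⧸ torsionIdeal R A n) ≃ₐ[R']
    MonoidAlgebra R' (M ⧸ (powMonoidHom n : M →* M).range) :=
  AlgEquiv.ofBijective
    (Algebra.TensorProduct.lift (Algebra.ofId R' _) (qQuot e n) fun _ _ => Commute.all _ _)
    (by
      set J := torsionIdeal R A n
      set F : R' ⊗[R] (A ⧸ J) →ₐ[R'] MonoidAlgebra R' (M ⧸ (powMonoidHom n : M →* M).range) :=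
        Algebra.TensorProduct.lift (Algebra.ofId R' _) (qQuot e n) (fun _ _ => Commute.all _ _) with hF
      let π : R' ⊗[R] A →ₐ[R'] R' ⊗[R] (A ⧸ J) :=
        Algebra.TensorProduct.map (AlgHom.id R' R') (Ideal.Quotient.mkₐ R J)
      let G : MonoidAlgebra R' M →ₐ[R'] R' ⊗[R] (A ⧸ J) :=
        π.comp (e.symm : MonoidAlgebra R' M →ₐc[R'] R' ⊗[R] A)
      have hG : ∀ a, G (emb e a) = (1 : R') ⊗ₜ Ideal.Quotient.mk J a := fun a => by
        show π (e.symm (e ((1 : R') ⊗ₜ a))) = _
        rw [show e.symm (e ((1 : R') ⊗ₜ[R] a)) = (1 : R') ⊗ₜ[R] a from e.symm_apply_apply _]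
        simp [π]
      have hFG : ∀ w, F (G w) = qn n w := by
        have : F.comp G = (qn (R' := R') (M := M) n : MonoidAlgebra R' M →ₐ[R'] _) := algHom_ext_emb e fun a => by
          show F (G (emb e a)) = _
          rw [hG]
          rw [hF, Algebra.TensorProduct.lift_tmul, map_one, _root_.one_mul]
          rfl
        exact fun w => congr($this w)
      have hGs : Function.Surjective G :=
        (Function.Surjective.comp (g := π) (fun z => by
          induction z using TensorProduct.induction_on with
          | zero => exact ⟨0, map_zero π⟩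
          | tmul r a =>
            obtain ⟨a, rfl⟩ := Ideal.Quotient.mk_surjective a
            exact ⟨r ⊗ₜ a, by simp [π]⟩
          | add a b ha hb =>
            obtain ⟨x, rfl⟩ := ha
            obtain ⟨y, rfl⟩ := hb
            exact ⟨x + y, map_add π x y⟩) (EquivLike.surjective e.symm) : _)
      have hpow : ∀ k : M, G (single (k ^ n) 1) = 1 := by
        intro k
        have h : G.comp (pw n) = (Algebra.ofId R' _).comp (Bialgebra.counitAlgHom R' (MonoidAlgebra R' M)) :=
          algHom_ext_emb e fun a => by
            show G (pw n (emb e a)) = algebraMap R' _ (Coalgebra.counit (R := R') (emb e a))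
            rw [← emb_powConv, hG, counit_emb, ← IsScalarTower.algebraMap_apply,
              Ideal.Quotient.eq.2 (powConv_sub_mem n a)]
            rw [Ideal.Quotient.mk_algebraMap, ← Algebra.TensorProduct.includeRight_apply, AlgHom.commutes]
        have h' := congr($h (single k 1))
        simpa [Algebra.TensorProduct.one_def] using h'
      let θ : M →* R' ⊗[R] (A ⧸ J) := (G : MonoidAlgebra R' M →* _).comp (MonoidAlgebra.of R' M)
      let θ' : M ⧸ (powMonoidHom n : M →* M).range →* R' ⊗[R] (A ⧸ J) :=
        (Units.coeHom _).comp (QuotientGroup.lift _ θ.toHomUnits (by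
          rintro _ ⟨k, rfl⟩
          exact Units.ext (hpow k)))
      let G' := MonoidAlgebra.lift R' (R' ⊗[R] (A ⧸ J)) _ θ'
      have hG' : ∀ w, G' (qn n w) = G w := by
        intro w
        induction w using MonoidAlgebra.induction_linear with
        | zero => simp
        | add a b ha hb => simp only [map_add, ha, hb]
        | single m r =>
          rw [qn_single, MonoidAlgebra.lift_single, show single m r = r • (single m 1 : MonoidAlgebra R' M) by simp,
            map_smul]
          rfl
      refine ⟨fun x y hxy => ?_, fun z => ?_⟩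
      · obtain ⟨w, rfl⟩ := hGs x
        obtain ⟨v, rfl⟩ := hGs y
        rw [hFG, hFG] at hxy
        rw [← hG', hxy, hG']
      · induction z using MonoidAlgebra.induction_linear with
        | zero => exact ⟨0, map_zero F⟩
        | add a b ha hb =>
          obtain ⟨x, rfl⟩ := ha
          obtain ⟨y, rfl⟩ := hb
          exact ⟨x + y, map_add F x y⟩
        | single m r =>
          induction m using QuotientGroup.induction_on with
          | H m => exact ⟨G (single m r), (hFG _).trans (qn_single n m r)⟩)

lemma quotEquiv_mk (a : A) :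
    quotEquiv e n ((1 : R') ⊗ₜ[R] Ideal.Quotient.mk (torsionIdeal R A n) a) = qn n (emb e a) := by
  show Algebra.TensorProduct.lift (Algebra.ofId R' _) (qQuot e n) (fun _ _ => Commute.all _ _)
    ((1 : R') ⊗ₜ[R] Ideal.Quotient.mk (torsionIdeal R A n) a) = _
  rw [Algebra.TensorProduct.lift_tmul, map_one, _root_.one_mul]
  rfl

/-- A functional killing the torsion ideal, in the chart. -/
lemma exists_repr (f : A →ₗ[R] R) (hf : ∀ a ∈ torsionIdeal R A n, f a = 0) :
    ∃ u : MonoidAlgebra R' (M ⧸ (powMonoidHom n : M →* M).range) →ₗ[R'] R',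
      ∀ a, algebraMap R R' (f a) = u (qn n (emb e a)) := by
  set J := torsionIdeal R A n
  let fb : (A ⧸ J) →ₗ[R] R' := (Algebra.linearMap R R') ∘ₗ
    ((Submodule.liftQ (J.restrictScalars R) f hf : (A ⧸ J.restrictScalars R) →ₗ[R] R) ∘ₗ
      (Submodule.Quotient.restrictScalarsEquiv R J).symm.toLinearMap)
  let u0 : R' ⊗[R] (A ⧸ J) →ₗ[R'] R' :=
    TensorProduct.AlgebraTensorModule.lift (((LinearMap.lsmul R' (A ⧸ J →ₗ[R] R')).flip fb))
  refine ⟨u0 ∘ₗ (quotEquiv e n).symm.toLinearMap, fun a => ?_⟩
  rw [LinearMap.comp_apply, ← quotEquiv_mk]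
  show _ = u0 ((quotEquiv e n).symm ((quotEquiv e n) _))
  rw [AlgEquiv.symm_apply_apply]
  simp [u0, fb]
  rfl

end chart

variable [HenselianLocalRing R]

/-- A point of the reduced closed fibre of a finite algebra over a Henselian local ring lifts. -/
lemma exists_point_lift (D : Type u) [CommRing D] [Algebra R D] [Module.Finite R D]
    (hD : IsReduced (D ⧸ (maximalIdeal R).map (algebraMap R D)))
    (ev : D →ₗ[R] R) (h₀ : D →+* ResidueField R) (hev : ∀ f, h₀ f = residue R (ev f)) :
    ∃ h : D →ₐ[R] R, ∀ f, residue R (h f) = h₀ f := by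
  have h₀smul : ∀ (r : R) (f : D), h₀ (r • f) = residue R r * h₀ f := fun r f => by
    rw [hev, map_smul, smul_eq_mul, map_mul, hev]
  set mD : Ideal D := (maximalIdeal R).map (algebraMap R D) with hmD
  have hker : ∀ f ∈ mD, h₀ f = 0 := by
    intro f hf
    have : mD ≤ RingHom.ker h₀ := Ideal.map_le_iff_le_comap.2 fun r hr => by
      show h₀ (algebraMap R D r) = 0
      rw [Algebra.algebraMap_eq_smul_one, h₀smul, (residue_eq_zero_iff r).2 hr, zero_mul]
    exact this hf
  let h₀' : D ⧸ mD →+* ResidueField R := Ideal.Quotient.lift mD h₀ hker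
  haveI : IsArtinianRing (D ⧸ mD) := by
    letI : Algebra (ResidueField R) (D ⧸ mD) :=
      (Ideal.Quotient.lift (maximalIdeal R) (algebraMap R (D ⧸ mD)) fun r hr => by
        rw [IsScalarTower.algebraMap_apply R D (D ⧸ mD)]
        exact Ideal.Quotient.eq_zero_iff_mem.2 (Ideal.mem_map_of_mem _ hr)).toAlgebra
    haveI : IsScalarTower R (ResidueField R) (D ⧸ mD) := IsScalarTower.of_algebraMap_eq fun r => rfl
    haveI : Module.Finite (ResidueField R) (D ⧸ mD) := Module.Finite.of_restrictScalars_finite R _ _
    exact IsArtinianRing.of_finite (ResidueField R) (D ⧸ mD)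
  -- the idempotent of the point `a`
  set N₀ : Ideal (D ⧸ mD) := RingHom.ker h₀'
  have hsq : IsIdempotentElem N₀ := by
    refine le_antisymm Ideal.mul_le_left fun z hz => ?_
    obtain ⟨k, y, hy⟩ := IsArtinian.exists_pow_succ_smul_dvd z (1 : D ⧸ mD)
    rw [smul_eq_mul, smul_eq_mul, _root_.mul_one] at hy
    have hnil : (z * (1 - z * y)) ^ (k + 1) = 0 := by
      have : z ^ k * (1 - z * y) = 0 := by rw [mul_sub, _root_.mul_one, ← mul_assoc, ← pow_succ, hy, sub_self]
      rw [mul_pow, pow_succ' (1 - z * y) k, pow_succ z k]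
      linear_combination (z * (1 - z * y) ^ k) * this
    have h2 := eq_zero_of_pow_eq_zero hnil
    have h3 : z = z * (z * y) := by linear_combination h2
    rw [h3]
    exact Ideal.mul_mem_mul hz (N₀.mul_mem_right _ hz)
  obtain ⟨ε, hε, hεN⟩ := (Ideal.isIdempotentElem_iff_of_fg N₀ (IsNoetherian.noetherian N₀)).1 hsq
  haveI : HenselianRing R (maximalIdeal R) := inferInstance
  obtain ⟨E, hE, hEε⟩ := Hensel.surjOn_idempotent (I := maximalIdeal R) D (hε.one_sub :
    IsIdempotentElem (1 - ε))
  have hh₀E : h₀ E = 1 := by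
    have h1 : h₀' ε = 0 := by
      show ε ∈ N₀
      rw [hεN]
      exact Ideal.mem_span_singleton_self ε
    have h2 : h₀' (Ideal.Quotient.mk mD E) = 1 := by rw [hEε, map_sub, map_one, h1, sub_zero]
    exact h2
  have hEu : IsUnit (ev E) := by
    by_contra hne
    exact one_ne_zero (hh₀E.symm.trans ((hev E).trans ((residue_eq_zero_iff _).2 hne)))
  let N : Submodule R D := LinearMap.range (LinearMap.mulLeft R E)
  have hNle : N ≤ Submodule.span R {E} := by
    refine Submodule.le_of_le_smul_of_le_jacobson_bot (I := maximalIdeal R) ?_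
      (le_of_eq (IsLocalRing.jacobson_eq_maximalIdeal ⊥ bot_ne_top).symm) ?_
    · exact Module.Finite.fg_top.map (LinearMap.mulLeft R E) |> fun h => by rwa [Submodule.map_top] at h
    · rintro _ ⟨f, rfl⟩
      obtain ⟨r, hr⟩ := residue_surjective (h₀ f)
      have h1 : Ideal.Quotient.mk mD (f - algebraMap R D r) ∈ N₀ := by
        show h₀ (f - algebraMap R D r) = 0
        rw [map_sub, Algebra.algebraMap_eq_smul_one, h₀smul, map_one, _root_.mul_one, hr, sub_self]
      rw [hεN, Ideal.mem_span_singleton'] at h1
      obtain ⟨y, hy⟩ := h1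
      have h2 : E * (f - algebraMap R D r) ∈ mD := by
        rw [← Ideal.Quotient.eq_zero_iff_mem, map_mul, hEε, ← hy]
        linear_combination (-y) * hε.eq
      have h3 : E * (E * (f - algebraMap R D r)) ∈ maximalIdeal R • N := by
        have h4 : E * (f - algebraMap R D r) ∈ maximalIdeal R • (⊤ : Submodule R D) := by
          rw [Ideal.smul_top_eq_map]; exact h2
        refine Submodule.smul_induction_on (p := fun z => E * z ∈ maximalIdeal R • N) h4 (fun r hr z _ => ?_)
          (fun z z' hz hz' => by rw [mul_add]; exact Submodule.add_mem _ hz hz')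
        rw [mul_smul_comm]
        exact Submodule.smul_mem_smul hr ⟨z, rfl⟩
      rw [← mul_assoc, hE.eq] at h3
      refine Submodule.mem_sup.2 ⟨r • E, Submodule.smul_mem _ _ (Submodule.mem_span_singleton_self E),
        E * (f - algebraMap R D r), h3, ?_⟩
      show r • E + E * (f - algebraMap R D r) = E * f
      rw [mul_sub, Algebra.smul_def, _root_.mul_comm E (algebraMap R D r)]
      ring
  have hexr : ∀ f : D, ∃ r : R, r • E = E * f := fun f =>
    Submodule.mem_span_singleton.1 (hNle ⟨f, rfl⟩)
  choose h hh using hexr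
  have huniq : ∀ r r' : R, r • E = r' • E → r = r' := by
    intro r r' hrr
    have := congrArg ev hrr
    rw [map_smul, map_smul, smul_eq_mul, smul_eq_mul] at this
    exact hEu.mul_right_cancel this
  have hmod : ∀ f, residue R (h f) = h₀ f := fun f => by
    have := congrArg h₀ (hh f)
    rwa [h₀smul, map_mul, hh₀E, _root_.mul_one, _root_.one_mul] at this
  have hone : h 1 = 1 := huniq _ _ (by rw [hh, one_smul, _root_.mul_one])
  have hmul : ∀ f g, h (f * g) = h f * h g := fun f g => huniq _ _ (by
    calc h (f * g) • E = E * (f * g) := hh _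
      _ = (E * f) * g := (mul_assoc _ _ _).symm
      _ = (h f • E) * g := by rw [hh]
      _ = h f • (E * g) := smul_mul_assoc _ _ _
      _ = (h f * h g) • E := by rw [← hh g, mul_smul])
  let hl : D →ₗ[R] R :=
    { toFun := h
      map_add' := fun f g => huniq _ _ (by rw [hh, add_smul, hh, hh, mul_add])
      map_smul' := fun r f => huniq _ _ (by rw [hh, RingHom.id_apply, smul_eq_mul, mul_smul, hh, mul_smul_comm]) }
  exact ⟨AlgHom.ofLinearMap hl hone hmul, hmod⟩

set_option maxHeartbeats 1000000 in
theorem exists_groupLike_mod (hA : IsMultType R A) (hft : Algebra.FiniteType R A) (n : ℕ) (hn : 0 < n)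
    (a : A) (ha : IsGroupLikeElem (ResidueField R) ((1 : ResidueField R) ⊗ₜ[R] a)) :
    ∃ x : A, Coalgebra.counit (R := R) x = 1 ∧
      Algebra.TensorProduct.map (Ideal.Quotient.mkₐ R (torsionIdeal R A n)) (Ideal.Quotient.mkₐ R (torsionIdeal R A n))
        (Coalgebra.comul x) = Ideal.Quotient.mk (torsionIdeal R A n) x ⊗ₜ[R] Ideal.Quotient.mk (torsionIdeal R A n) x ∧
      x - a ∈ torsionIdeal R A n ⊔ (maximalIdeal R).map (algebraMap R A) := by
  classical
  obtain ⟨c, hc⟩ := exists_ff_chart hA
  haveI := c.faithfullyFlat hc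
  have hinjR : Function.Injective (algebraMap R c.R') := FaithfulSMul.algebraMap_injective R c.R'
  set J := torsionIdeal R A n
  set Q := A ⧸ J
  haveI : Module.Finite R Q := finite_quot_torsionIdeal hA hft n hn
  haveI : Module.Flat R Q := by
    haveI : Module.Free c.R' (c.R' ⊗[R] Q) := Module.Free.of_equiv (quotEquiv c.e n).toLinearEquiv.symm
    exact Module.Flat.of_flat_tensorProduct R Q c.R'
  haveI : Module.Free R Q := Module.free_of_flat_of_isLocalRing
  -- convolution of functionals killing `J`
  have hmul : ∀ f g : WithConv (A →ₗ[R] R), (∀ x ∈ J, f x = 0) → (∀ x ∈ J, g x = 0) →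
      ∃ w : MonoidAlgebra c.R' (c.M ⧸ (powMonoidHom n : c.M →* c.M).range) →ₗ[c.R'] c.R',
        ∀ x, algebraMap R c.R' ((f * g) x) = w (qn n (emb c.e x)) ∧
          algebraMap R c.R' ((g * f) x) = w (qn n (emb c.e x)) := by
    intro f g hf hg
    obtain ⟨u, hu⟩ := exists_repr c.e n f.ofConv hf
    obtain ⟨v, hv⟩ := exists_repr c.e n g.ofConv hg
    let w := (MonoidAlgebra.basis (c.M ⧸ (powMonoidHom n : c.M →* c.M).range) c.R').constr c.R'
      fun s => u (single s 1) * v (single s 1)
    have hw : ∀ s, w (single s 1) = u (single s 1) * v (single s 1) := fun s => by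
      rw [← MonoidAlgebra.basis_apply, Module.Basis.constr_basis]
      simp
    let ql := (qn (R' := c.R') (M := c.M) n : MonoidAlgebra c.R' c.M →ₐ[c.R'] MonoidAlgebra c.R' (c.M ⧸ (powMonoidHom n : c.M →* c.M).range)).toLinearMap
    have h1 := res_convMul c.e (u ∘ₗ ql) (v ∘ₗ ql) (w ∘ₗ ql) fun m => by
      show u (qn n (single m 1)) * v (qn n (single m 1)) = w (qn n (single m 1))
      rw [qn_single, hw]
    have h2 := res_convMul c.e (v ∘ₗ ql) (u ∘ₗ ql) (w ∘ₗ ql) fun m => by
      show v (qn n (single m 1)) * u (qn n (single m 1)) = w (qn n (single m 1))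
      rw [qn_single, hw, _root_.mul_comm]
    refine ⟨w, fun x => ⟨?_, ?_⟩⟩
    · refine Eq.trans ?_ (congr($h1 x))
      rw [(Coalgebra.Repr.arbitrary R x).convMul_apply, (Coalgebra.Repr.arbitrary R x).convMul_apply, map_sum]
      exact Finset.sum_congr rfl fun i _ => (map_mul _ _ _).trans (congrArg₂ (· * ·) (hu _) (hv _))
    · refine Eq.trans ?_ (congr($h2 x))
      rw [(Coalgebra.Repr.arbitrary R x).convMul_apply, (Coalgebra.Repr.arbitrary R x).convMul_apply, map_sum]
      exact Finset.sum_congr rfl fun i _ => (map_mul _ _ _).trans (congrArg₂ (· * ·) (hv _) (hu _))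
  let D : Subalgebra R (WithConv (A →ₗ[R] R)) :=
    { carrier := {f | ∀ x ∈ J, f x = 0}
      mul_mem' := fun {f g} hf hg x hx => by
        obtain ⟨w, hw⟩ := hmul f g hf hg
        apply hinjR
        rw [(hw x).1, qn_emb_eq_zero c.e n hx, map_zero, map_zero]
      one_mem' := fun x hx => by
        show algebraMap R R (Coalgebra.counit x) = 0
        rw [Algebra.algebraMap_self, RingHom.id_apply]
        apply hinjR
        rw [map_zero, ← counit_emb c.e x, ← CoalgHomClass.counit_comp_apply (qn n), qn_emb_eq_zero c.e n hx,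
          map_zero]
      add_mem' := fun {f g} hf hg x hx => by
        show f x + g x = 0
        rw [hf x hx, hg x hx, add_zero]
      zero_mem' := fun x hx => rfl
      algebraMap_mem' := fun r x hx => by
        show r • (algebraMap R R (Coalgebra.counit x)) = 0
        have h1 : algebraMap R R (Coalgebra.counit x) = 0 := by
          rw [Algebra.algebraMap_self, RingHom.id_apply]
          apply hinjR
          rw [map_zero, ← counit_emb c.e x, ← CoalgHomClass.counit_comp_apply (qn n), qn_emb_eq_zero c.e n hx,
            map_zero]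
        rw [h1, smul_zero] }
  letI : CommRing D :=
    { (inferInstance : Ring D) with
      mul_comm := fun f g => by
        obtain ⟨w, hw⟩ := hmul f g f.2 g.2
        exact Subtype.ext (WithConv.ext (LinearMap.ext fun x => hinjR ((hw x).1.trans (hw x).2.symm))) }
  let mkl : A →ₗ[R] Q := (Ideal.Quotient.mkₐ R J).toLinearMap
  let toD : (Q →ₗ[R] R) →ₗ[R] D :=
    { toFun := fun φ => ⟨toConv (φ ∘ₗ mkl), fun x hx => by
        show φ (Ideal.Quotient.mk J x) = 0
        rw [Ideal.Quotient.eq_zero_iff_mem.2 hx, map_zero]⟩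
      map_add' := fun _ _ => rfl
      map_smul' := fun _ _ => rfl }
  have htoD : Function.Surjective toD := by
    intro f
    refine ⟨(Submodule.liftQ (J.restrictScalars R) f.1.ofConv f.2 : (A ⧸ J.restrictScalars R) →ₗ[R] R) ∘ₗ
      (Submodule.Quotient.restrictScalarsEquiv R J).symm.toLinearMap, Subtype.ext (WithConv.ext (LinearMap.ext fun x => ?_))⟩
    rfl
  haveI : Module.Finite R D := Module.Finite.of_surjective toD htoD
  -- evaluation at `a` in the residue field
  have hcomul : ∀ f g : D, residue R ((f.1 * g.1) a) = residue R (f.1 a) * residue R (g.1 a) := by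
    intro f g
    have hΔ := ((isGroupLikeElem_iff (R := R) (A := A) _).1 ha).2
    simp only [jΔ, j₁, j₂, Algebra.TensorProduct.map_tmul, AlgHom.id_apply, Algebra.TensorProduct.tmul_mul_tmul,
      _root_.one_mul, Algebra.TensorProduct.includeLeft_apply, Algebra.TensorProduct.includeRight_apply,
      _root_.mul_one, Bialgebra.comulAlgHom_apply] at hΔ
    let μ : A ⊗[R] A →ₗ[R] R := LinearMap.mul' R R ∘ₗ TensorProduct.map f.1.ofConv g.1.ofConv
    have h := congrArg (fun z => TensorProduct.rid R (ResidueField R) (μ.lTensor (ResidueField R) z)) hΔ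
    simp only [LinearMap.lTensor_tmul, TensorProduct.rid_tmul] at h
    have e1 : μ (Coalgebra.comul a) = (f.1 * g.1) a := rfl
    have e2 : μ (a ⊗ₜ[R] a) = f.1 a * g.1 a := by simp [μ]
    rw [e1, e2, Algebra.smul_def, Algebra.smul_def, _root_.mul_one, _root_.mul_one] at h
    rw [← map_mul]
    exact h
  have hcounit : residue R (Coalgebra.counit (R := R) a) = 1 := by
    have h := ((isGroupLikeElem_iff (R := R) (A := A) _).1 ha).1
    simpa [jε] using h
  let h₀ : D →+* ResidueField R :=
    { toFun := fun f => residue R (f.1 a)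
      map_one' := by show residue R (algebraMap R R (Coalgebra.counit a)) = 1; simpa using hcounit
      map_mul' := hcomul
      map_zero' := map_zero _
      map_add' := fun f g => map_add _ _ _ }
  have h₀smul : ∀ (r : R) (f : D), h₀ (r • f) = residue R r * h₀ f := fun r f => by
    show residue R ((r • f.1 : WithConv (A →ₗ[R] R)) a) = residue R r * residue R (f.1 a)
    exact map_mul (residue R) r (f.1 a)
  set mD : Ideal D := (maximalIdeal R).map (algebraMap R D) with hmD
  -- the reduced closed fibre
  have hred : IsReduced (D ⧸ mD) := by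
    refine isReduced_iff_pow_one_lt 2 one_lt_two |>.2 fun z hz => ?_
    obtain ⟨f, rfl⟩ := Ideal.Quotient.mk_surjective z
    rw [← map_pow, Ideal.Quotient.eq_zero_iff_mem] at hz
    rw [Ideal.Quotient.eq_zero_iff_mem]
    have hval : ∀ x, f.1 x ∈ maximalIdeal R := by
      intro x
      obtain ⟨u, hu⟩ := exists_repr c.e n f.1.ofConv f.2
      let ql := (qn (R' := c.R') (M := c.M) n : MonoidAlgebra c.R' c.M →ₐ[c.R'] MonoidAlgebra c.R' (c.M ⧸ (powMonoidHom n : c.M →* c.M).range)).toLinearMap
      have hres : ∀ g : D, ∃ v : MonoidAlgebra c.R' (c.M ⧸ (powMonoidHom n : c.M →* c.M).range) →ₗ[c.R'] c.R',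
          ∀ y, algebraMap R c.R' (g.1 y) = v (qn n (emb c.e y)) := fun g => exists_repr c.e n g.1.ofConv g.2
      set I' := (maximalIdeal R).map (algebraMap R c.R')
      obtain ⟨v, hv⟩ := hres (f ^ 2)
      have hsq : ∀ s, u (single s 1) * u (single s 1) ∈ I' := by
        intro s
        let w := (MonoidAlgebra.basis (c.M ⧸ (powMonoidHom n : c.M →* c.M).range) c.R').constr c.R'
          fun s => u (single s 1) * u (single s 1)
        have hw : ∀ s, w (single s 1) = u (single s 1) * u (single s 1) := fun s => by
          rw [← MonoidAlgebra.basis_apply, Module.Basis.constr_basis]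
          simp
        have h1 := res_convMul c.e (u ∘ₗ ql) (u ∘ₗ ql) (w ∘ₗ ql) fun m => by
          show u (qn n (single m 1)) * u (qn n (single m 1)) = w (qn n (single m 1))
          rw [qn_single, hw]
        have hwx : ∀ y, w (qn n (emb c.e y)) = algebraMap R c.R' ((f ^ 2).1 y) := fun y => by
          refine (congr($h1 y)).symm.trans ?_
          rw [(Coalgebra.Repr.arbitrary R y).convMul_apply]
          show _ = algebraMap R c.R' ((f.1 ^ 2) y)
          rw [pow_two, (Coalgebra.Repr.arbitrary R y).convMul_apply, map_sum]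
          exact Finset.sum_congr rfl fun i _ =>
            ((map_mul _ _ _).trans (congrArg₂ (· * ·) (hu _) (hu _))).symm
        have hev : ∀ g ∈ mD, ∀ y, (g : D).1 y ∈ maximalIdeal R := by
          intro g hg y
          have hg' : g ∈ (maximalIdeal R) • (⊤ : Submodule R D) := by
            rw [Ideal.smul_top_eq_map]; exact hg
          refine Submodule.smul_induction_on (p := fun g => (g : D).1 y ∈ maximalIdeal R) hg'
            (fun r hr g _ => Ideal.mul_mem_right _ _ hr) (fun g g' hg hg' => Ideal.add_mem _ hg hg')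
        have hall : ∀ z : c.R' ⊗[R] Q, w (quotEquiv c.e n z) ∈ I' := by
          intro z
          induction z using TensorProduct.induction_on with
          | zero => simp
          | tmul r q =>
            obtain ⟨y, rfl⟩ := Ideal.Quotient.mk_surjective q
            rw [show r ⊗ₜ[R] Ideal.Quotient.mk J y = r • ((1 : c.R') ⊗ₜ[R] Ideal.Quotient.mk J y) by
              simp [TensorProduct.smul_tmul'], map_smul, quotEquiv_mk, map_smul, hwx]
            exact Ideal.mul_mem_left _ _ (Ideal.mem_map_of_mem _ (hev _ hz y))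
          | add p q hp hq => rw [map_add, map_add]; exact Ideal.add_mem _ hp hq
        rw [← hw]
        obtain ⟨z, hzs⟩ := (quotEquiv c.e n).surjective (single s 1)
        rw [← hzs]
        exact hall z
      -- a group-like over a point of the closed fibre is a basis element
      have hmax : (maximalIdeal R).map (algebraMap R c.R') ≠ ⊤ := fun h =>
        Module.FaithfullyFlat.submodule_ne_top (M := c.R') (maximalIdeal.isMaximal R)
          (by rw [Ideal.smul_top_eq_map, h]; rfl)
      obtain ⟨P, hP, hIP⟩ := Ideal.exists_le_maximal _ hmax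
      have hu0 : ∀ z, u z ∈ P := by
        intro z
        induction z using MonoidAlgebra.induction_linear with
        | zero => simp
        | add p q hp hq => rw [map_add]; exact Ideal.add_mem _ hp hq
        | single s r =>
          rw [show single s r = r • (single s 1 : MonoidAlgebra c.R' _) by simp, map_smul]
          exact Ideal.mul_mem_left _ _ ((hP.isPrime.mem_or_mem (hIP (hsq s))).elim id id)
      by_contra hx
      have hunit : IsUnit (f.1 x) := by_contra fun h => hx h
      have := hu0 (qn n (emb c.e x))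
      rw [← hu] at this
      exact hP.ne_top (Ideal.eq_top_of_isUnit_mem _ this (hunit.map _))
    let b := Module.Free.chooseBasis R Q
    have hf : f = ∑ i, (f.1 (Function.surjInv (f := Ideal.Quotient.mk J) Ideal.Quotient.mk_surjective (b i))) •
        toD (b.coord i) := by
      obtain ⟨φ, rfl⟩ := htoD f
      have h1 : ∀ q, (toD φ).1 (Function.surjInv (f := Ideal.Quotient.mk J) Ideal.Quotient.mk_surjective q) = φ q :=
        fun q => congrArg φ (Function.surjInv_eq (f := Ideal.Quotient.mk J) _ q)
      simp only [h1, ← map_smul, ← map_sum]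
      exact congrArg toD (b.sum_dual_apply_smul_coord φ).symm
    rw [hf]
    refine Ideal.sum_mem _ fun i _ => ?_
    rw [Algebra.smul_def]
    exact Ideal.mul_mem_right _ _ (Ideal.mem_map_of_mem _ (hval _))
  let ev : D →ₗ[R] R :=
    { toFun := fun f => f.1 a
      map_add' := fun _ _ => rfl
      map_smul' := fun _ _ => rfl }
  obtain ⟨h, hmod⟩ := exists_point_lift D hred ev h₀ fun f => rfl
  -- the element
  let b := Module.Free.chooseBasis R Q
  let y : Q := ∑ i, h (toD (b.coord i)) • b i
  obtain ⟨x, hx⟩ := Ideal.Quotient.mk_surjective (I := J) y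
  have hφx : ∀ φ : Q →ₗ[R] R, φ y = h (toD φ) := by
    intro φ
    show φ y = h (toD φ)
    conv_rhs => rw [← b.sum_dual_apply_smul_coord φ]
    simp only [y, map_sum, map_smul, smul_eq_mul]
    exact Finset.sum_congr rfl fun i _ => _root_.mul_comm _ _
  have hDx : ∀ f : D, f.1 x = h f := by
    intro f
    obtain ⟨φ, rfl⟩ := htoD f
    show φ (Ideal.Quotient.mk J x) = _
    rw [hx, hφx]
  refine ⟨x, ?_, ?_, ?_⟩
  · have h1 : h 1 = 1 := map_one h
    have h2 := hDx 1
    rw [h1] at h2
    simpa using h2
  · let bb := b.tensorProduct b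
    refine bb.ext_elem fun ij => ?_
    obtain ⟨i, j⟩ := ij
    let μ : Q ⊗[R] Q →ₗ[R] R := LinearMap.mul' R R ∘ₗ TensorProduct.map (b.coord i) (b.coord j)
    have hμ : ∀ z, bb.repr z (i, j) = μ z := by
      intro z
      induction z using TensorProduct.induction_on with
      | zero => simp
      | tmul p q => simp [bb, μ, _root_.mul_comm]
      | add p q hp hq => simp only [map_add, Finsupp.add_apply, hp, hq]
    rw [hμ, hμ]
    have e1 : μ (Algebra.TensorProduct.map (Ideal.Quotient.mkₐ R J) (Ideal.Quotient.mkₐ R J) (Coalgebra.comul x)) =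
        ((toD (b.coord i)).1 * (toD (b.coord j)).1) x := by
      rw [← (Coalgebra.Repr.arbitrary R x).eq, (Coalgebra.Repr.arbitrary R x).convMul_apply]
      simp only [map_sum, Algebra.TensorProduct.map_tmul]
      exact Finset.sum_congr rfl fun k _ => by simp [μ]; rfl
    rw [e1, show (toD (b.coord i)).1 * (toD (b.coord j)).1 = (toD (b.coord i) * toD (b.coord j) : D).1 from rfl,
      hDx, map_mul, ← hDx, ← hDx]
    simp [μ]
    rfl
  · have hxa : Ideal.Quotient.mk J (x - a) ∈ (maximalIdeal R) • (⊤ : Submodule R Q) := by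
      rw [← b.sum_repr (Ideal.Quotient.mk J (x - a))]
      refine Submodule.sum_mem _ fun i _ => Submodule.smul_mem_smul ?_ Submodule.mem_top
      rw [← residue_eq_zero_iff, ← Module.Basis.coord_apply, map_sub, map_sub, map_sub, sub_eq_zero,
        show b.coord i (Ideal.Quotient.mk J x) = (toD (b.coord i)).1 x from rfl, hDx, hmod]
      rfl
    rw [Ideal.smul_top_eq_map, Submodule.restrictScalars_mem, IsScalarTower.algebraMap_eq R A Q,
      ← Ideal.map_map] at hxa
    obtain ⟨z, hz, hzx⟩ := (Ideal.mem_map_iff_of_surjective _ Ideal.Quotient.mk_surjective).1 hxa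
    rw [← sub_add_cancel (x - a) z]
    exact Ideal.add_mem _ (Ideal.mem_sup_left (Ideal.Quotient.eq.1 hzx.symm)) (Ideal.mem_sup_right hz)

end Groth.Agent.MultType
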