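import Mathlib.RingTheory.HopfAlgebra.Convolution
import Mathlib.RingTheory.Ideal.Cotangent
import Mathlib.RingTheory.Flat.Basic
import Mathlib.LinearAlgebra.TensorProduct.RightExactness

/-!
The kernel of a surjective homomorphism of commutative Hopf algebras with trivial cotangent space at the
origin is idempotent.
-/

universe u

open TensorProduct WithConv
open scoped TensorProduct

namespace Groth.Agent.MultType

variable {A : Type u} [CommRing A] {C : Type u} [CommRing C] [HopfAlgebra A C]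
  {B : Type u} [CommRing B] [HopfAlgebra A B]

/-- If the kernel `N` of a surjection `C → B`, `B` flat, satisfies `N = aug * N`, it is idempotent. -/
theorem isIdempotentElem_ker [Module.Flat A B] (φ : C →ₐc[A] B) (hφ : Function.Surjective φ)
    (hN : RingHom.ker (φ : C →ₐ[A] B) ≤
      RingHom.ker (Bialgebra.counitAlgHom A C) * RingHom.ker (φ : C →ₐ[A] B)) :
    IsIdempotentElem (RingHom.ker (φ : C →ₐ[A] B)) := by
  classical
  set N := RingHom.ker (φ : C →ₐ[A] B) with hNdef
  refine le_antisymm Ideal.mul_le_left fun n hn => ?_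
  let L : B →ₐ[A] B ⊗[A] C := Algebra.TensorProduct.includeLeft
  let Rr : C →ₐ[A] B ⊗[A] C := Algebra.TensorProduct.includeRight
  let Lφ : C →ₐ[A] B ⊗[A] C := L.comp (φ : C →ₐ[A] B)
  let LφS : C →ₐ[A] B ⊗[A] C := Lφ.comp (HopfAlgebra.antipodeAlgHom A C)
  have hS : toConv Lφ * toConv LφS = 1 := mul_inv_cancel (toConv Lφ)
  let mk : (C →ₐ[A] B ⊗[A] C) → (B ⊗[A] C →ₐ[A] B ⊗[A] C) := fun g =>
    Algebra.TensorProduct.lift L g fun _ _ => Commute.all _ _
  have hmkR : ∀ g, (mk g).comp Rr = g := fun g => AlgHom.ext fun c => by simp [mk, Rr]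
  have hmkL : ∀ g, (mk g).comp L = L := fun g => AlgHom.ext fun b => by simp [mk, L]
  let τ := mk (toConv Lφ * toConv Rr).ofConv
  let τ' := mk (toConv LφS * toConv Rr).ofConv
  have hinv : τ'.comp τ = AlgHom.id A _ := by
    refine Algebra.TensorProduct.ext ?_ ?_
    · show ((τ'.comp τ).comp L) = L
      rw [AlgHom.comp_assoc, hmkL, hmkL]
    · show (τ'.comp τ).comp Rr = Rr
      rw [AlgHom.comp_assoc, hmkR]
      rw [AlgHom.comp_convMul_distrib τ' (toConv Lφ) (toConv Rr)]
      show (toConv (τ'.comp Lφ) * toConv (τ'.comp Rr)).ofConv = Rr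
      rw [hmkR, show τ'.comp Lφ = Lφ from by rw [← AlgHom.comp_assoc, hmkL], toConv_ofConv,
        ← mul_assoc, hS, one_mul]
  let Q : B ⊗[A] C →ₐ[A] B ⊗[A] B := Algebra.TensorProduct.map (AlgHom.id A B) (φ : C →ₐ[A] B)
  let LB : B →ₐ[A] B ⊗[A] B := Algebra.TensorProduct.includeLeft
  let RB : B →ₐ[A] B ⊗[A] B := Algebra.TensorProduct.includeRight
  have hQL : Q.comp L = LB := AlgHom.ext fun b => by simp [Q, L, LB]
  have hQR : Q.comp Rr = RB.comp (φ : C →ₐ[A] B) := AlgHom.ext fun c => by simp [Q, Rr, RB]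
  -- both translations preserve the kernel of `Q` on the right factor
  have hQτ : ∀ c ∈ N, Q (τ (Rr c)) = 0 := by
    intro c hc
    have h : Q.comp (toConv Lφ * toConv Rr).ofConv = (toConv LB * toConv RB).ofConv.comp (φ : C →ₐ[A] B) := by
      rw [AlgHom.comp_convMul_distrib Q (toConv Lφ) (toConv Rr), AlgHom.convMul_comp_bialgHom_distrib]
      show (toConv (Q.comp Lφ) * toConv (Q.comp Rr)).ofConv = _
      rw [← AlgHom.comp_assoc, hQL, hQR]
    rw [show τ (Rr c) = (toConv Lφ * toConv Rr).ofConv c from AlgHom.congr_fun (hmkR _) c,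
      ← AlgHom.comp_apply, h, AlgHom.comp_apply, show (φ : C →ₐ[A] B) c = 0 from hc, map_zero]
  have hQτ' : ∀ c ∈ N, Q (τ' (Rr c)) = 0 := by
    intro c hc
    let SB : B →ₐ[A] B := HopfAlgebra.antipodeAlgHom A B
    have hinvB : toConv ((φ : C →ₐ[A] B).comp (HopfAlgebra.antipodeAlgHom A C)) =
        toConv (SB.comp (φ : C →ₐ[A] B)) := by
      refine left_inv_eq_right_inv (inv_mul_cancel (toConv (φ : C →ₐ[A] B))) ?_
      have h3 := AlgHom.convMul_comp_bialgHom_distrib (toConv (AlgHom.id A B)) (toConv SB) φ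
      rw [show toConv (AlgHom.id A B) * toConv SB = 1 from mul_inv_cancel (toConv (AlgHom.id A B))] at h3
      refine WithConv.ext (h3.symm.trans (AlgHom.ext fun x => ?_))
      show algebraMap A B (Coalgebra.counit (φ x)) = algebraMap A B (Coalgebra.counit x)
      rw [CoalgHomClass.counit_comp_apply]
    have h : Q.comp (toConv LφS * toConv Rr).ofConv =
        (toConv (LB.comp SB) * toConv RB).ofConv.comp (φ : C →ₐ[A] B) := by
      rw [AlgHom.comp_convMul_distrib Q (toConv LφS) (toConv Rr), AlgHom.convMul_comp_bialgHom_distrib]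
      show (toConv (Q.comp LφS) * toConv (Q.comp Rr)).ofConv = _
      rw [hQR, show Q.comp LφS = LB.comp ((φ : C →ₐ[A] B).comp (HopfAlgebra.antipodeAlgHom A C)) by
        rw [← AlgHom.comp_assoc, ← AlgHom.comp_assoc Q L, hQL]; rfl,
        show (φ : C →ₐ[A] B).comp (HopfAlgebra.antipodeAlgHom A C) = SB.comp (φ : C →ₐ[A] B) from
          congrArg WithConv.ofConv hinvB, ← AlgHom.comp_assoc]
    rw [show τ' (Rr c) = (toConv LφS * toConv Rr).ofConv c from AlgHom.congr_fun (hmkR _) c,
      ← AlgHom.comp_apply, h, AlgHom.comp_apply, show (φ : C →ₐ[A] B) c = 0 from hc, map_zero]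
  let ι : B ⊗[A] N →ₗ[A] B ⊗[A] C := (N.subtype.restrictScalars A).lTensor B
  have hιinj : Function.Injective ι :=
    Module.Flat.lTensor_preserves_injective_linearMap (M := B) _ Subtype.val_injective
  have hrange : ∀ z, Q z = 0 → ∃ w, ι w = z := by
    have hex := lTensor_exact B (f := N.subtype.restrictScalars A) (g := (φ : C →ₐ[A] B).toLinearMap)
      (fun y => ⟨fun hy => ⟨⟨y, hy⟩, rfl⟩, fun ⟨w, hw⟩ => hw ▸ w.2⟩) hφ
    intro z hz
    refine (hex z).1 (Eq.trans ?_ hz)
    clear hz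
    induction z using TensorProduct.induction_on with
    | zero => simp
    | tmul b c => simp [Q]
    | add p q hp hq => simp only [map_add, hp, hq]
  let sId : B ⊗[A] C →ₐ[A] B :=
    Algebra.TensorProduct.lift (AlgHom.id A B) ((Algebra.ofId A B).comp (Bialgebra.counitAlgHom A C))
      fun _ _ => Commute.all _ _
  let sΔ : B ⊗[A] C →ₐ[A] B := Algebra.TensorProduct.lift (AlgHom.id A B) (φ : C →ₐ[A] B) fun _ _ => Commute.all _ _
  have hsτ' : sΔ.comp τ' = sId := by
    have hsL : sΔ.comp L = AlgHom.id A B := AlgHom.ext fun b => by simp [sΔ, L]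
    refine Algebra.TensorProduct.ext ?_ ?_
    · show (sΔ.comp τ').comp L = sId.comp L
      rw [AlgHom.comp_assoc, hmkL, hsL]
      exact AlgHom.ext fun b => by simp [sId, L]
    · show (sΔ.comp τ').comp Rr = sId.comp Rr
      rw [AlgHom.comp_assoc, hmkR, AlgHom.comp_convMul_distrib sΔ (toConv LφS) (toConv Rr)]
      show (toConv (sΔ.comp LφS) * toConv (sΔ.comp Rr)).ofConv = _
      rw [show sΔ.comp Rr = (φ : C →ₐ[A] B) from AlgHom.ext fun c => by simp [sΔ, Rr],
        show sΔ.comp LφS = (φ : C →ₐ[A] B).comp (HopfAlgebra.antipodeAlgHom A C) by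
          rw [← AlgHom.comp_assoc, ← AlgHom.comp_assoc sΔ L, hsL, AlgHom.id_comp]]
      have h3 := AlgHom.comp_convMul_distrib (φ : C →ₐ[A] B) (toConv (HopfAlgebra.antipodeAlgHom A C))
        (toConv (AlgHom.id A C))
      rw [AlgHom.antipode_id_cancel] at h3
      refine h3.symm.trans (AlgHom.ext fun x => ?_)
      show (φ : C →ₐ[A] B) (algebraMap A C (Coalgebra.counit x)) = _
      rw [AlgHom.commutes]
      simp [sId, Rr]
  let KQ : Ideal (B ⊗[A] C) := RingHom.ker Q
  have hgen : ∀ c ∈ N, Rr c ∈ RingHom.ker sId * KQ := by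
    intro c hc
    refine Submodule.mul_induction_on (hN hc) (fun a ha m hm => ?_) (fun x y hx hy => by
      rw [map_add]; exact Ideal.add_mem _ hx hy)
    rw [map_mul]
    refine Ideal.mul_mem_mul ?_ ?_
    · show sId (Rr a) = 0
      simp [sId, Rr, show Coalgebra.counit (R := A) a = 0 from ha]
    · show Q (Rr m) = 0
      simp [Q, Rr, show φ m = 0 from hm]
  have hKQle : KQ ≤ RingHom.ker sId * KQ := by
    intro z hz
    obtain ⟨w, rfl⟩ := hrange z hz
    clear hz
    induction w using TensorProduct.induction_on with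
    | zero => simp
    | add p q hp hq => rw [map_add]; exact Ideal.add_mem _ hp hq
    | tmul b m =>
      rw [show ι (b ⊗ₜ m) = L b * Rr m.1 by simp [ι, L, Rr]]
      exact Ideal.mul_mem_left _ _ (hgen m.1 m.2)
  have hstep : Rr n ∈ RingHom.ker sΔ * KQ := by
    have h1 : τ' (τ (Rr n)) = Rr n := AlgHom.congr_fun hinv (Rr n)
    rw [← h1]
    have h2 : τ (Rr n) ∈ RingHom.ker sId * KQ := hKQle (hQτ n hn)
    refine Submodule.mul_induction_on h2 (fun a ha m hm => ?_) (fun x y hx hy => by
      rw [map_add]; exact Ideal.add_mem _ hx hy)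
    rw [map_mul]
    refine Ideal.mul_mem_mul ?_ ?_
    · show sΔ (τ' a) = 0
      rw [← AlgHom.comp_apply, hsτ']
      exact ha
    · obtain ⟨w, rfl⟩ := hrange m hm
      clear hm
      show Q (τ' (ι w)) = 0
      induction w using TensorProduct.induction_on with
      | zero => simp
      | add p q hp hq => rw [map_add, map_add, map_add, hp, hq, add_zero]
      | tmul b c =>
        rw [show ι (b ⊗ₜ c) = L b * Rr c.1 by simp [ι, L, Rr], map_mul, map_mul, hQτ' c.1 c.2, mul_zero]
  -- the conormal module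
  let e : (C ⧸ N) ≃ₐ[A] B := Ideal.quotientKerAlgEquivOfSurjective (f := (φ : C →ₐ[A] B)) hφ
  haveI : IsScalarTower C (C ⧸ N) N.Cotangent := inferInstance
  haveI : IsScalarTower A (C ⧸ N) N.Cotangent := ⟨fun r b x => by
    obtain ⟨c, rfl⟩ := Ideal.Quotient.mk_surjective b
    show Ideal.Quotient.mk N (r • c) • x = r • (Ideal.Quotient.mk N c • x)
    rw [← Ideal.Quotient.algebraMap_eq, algebraMap_smul, algebraMap_smul, smul_assoc]⟩
  haveI : SMulCommClass (C ⧸ N) A N.Cotangent := ⟨fun b r x => by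
    rw [← algebraMap_smul (C ⧸ N) r x, ← algebraMap_smul (C ⧸ N) r (b • x), smul_smul, smul_smul, mul_comm]⟩
  let μ : B ⊗[A] N →ₗ[A] N.Cotangent := TensorProduct.lift (LinearMap.mk₂ A
    (fun b m => e.symm b • N.toCotangent m)
    (fun b b' m => by rw [map_add, add_smul])
    (fun r b m => by rw [map_smul, smul_assoc])
    (fun b m m' => by rw [map_add, smul_add])
    (fun r b m => by rw [LinearMap.map_smul_of_tower, smul_comm]))
  have hμ : ∀ (p : B ⊗[A] C) (w : B ⊗[A] N), ∃ w', ι w' = p * ι w ∧ μ w' = e.symm (sΔ p) • μ w := by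
    intro p w
    induction p using TensorProduct.induction_on with
    | zero => exact ⟨0, by simp, by simp⟩
    | add p q hp hq =>
      obtain ⟨w₁, h1, h1'⟩ := hp
      obtain ⟨w₂, h2, h2'⟩ := hq
      exact ⟨w₁ + w₂, by rw [map_add, h1, h2, add_mul], by rw [map_add, map_add, map_add, h1', h2', add_smul]⟩
    | tmul b c =>
      induction w using TensorProduct.induction_on with
      | zero => exact ⟨0, by simp, by simp⟩
      | add p q hp hq =>
        obtain ⟨w₁, h1, h1'⟩ := hp
        obtain ⟨w₂, h2, h2'⟩ := hq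
        exact ⟨w₁ + w₂, by rw [map_add, h1, h2, map_add, mul_add], by rw [map_add, h1', h2', map_add, smul_add]⟩
      | tmul b' m =>
        refine ⟨(b * b') ⊗ₜ (c • m), by simp [ι], ?_⟩
        have he : e.symm ((φ : C →ₐ[A] B) c) = Ideal.Quotient.mk N c := e.symm_apply_eq.2 rfl
        show e.symm (b * b') • N.toCotangent (c • m) =
          e.symm (sΔ (b ⊗ₜ c)) • (e.symm b' • N.toCotangent m)
        rw [show sΔ (b ⊗ₜ c) = b * (φ : C →ₐ[A] B) c by simp [sΔ], map_mul, map_mul, he, map_smul, smul_smul,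
          ← algebraMap_smul (C ⧸ N) c (N.toCotangent m), smul_smul, Ideal.Quotient.algebraMap_eq]
        congr 1
        ring
  have hfin : ∀ z ∈ RingHom.ker sΔ * KQ, ∃ w, ι w = z ∧ μ w = 0 := by
    intro z hz
    refine Submodule.mul_induction_on hz (fun a ha m hm => ?_) (fun x y hx hy => ?_)
    · obtain ⟨w, rfl⟩ := hrange m hm
      obtain ⟨w', h1, h2⟩ := hμ a w
      exact ⟨w', h1, by rw [h2, show sΔ a = 0 from ha, map_zero, zero_smul]⟩
    · obtain ⟨w₁, h1, h1'⟩ := hx
      obtain ⟨w₂, h2, h2'⟩ := hy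
      exact ⟨w₁ + w₂, by rw [map_add, h1, h2], by rw [map_add, h1', h2', add_zero]⟩
  obtain ⟨w, hw, hw0⟩ := hfin _ hstep
  have hw1 : w = (1 : B) ⊗ₜ ⟨n, hn⟩ := hιinj (hw.trans (by simp [ι, Rr]))
  rw [hw1] at hw0
  have h0 : N.toCotangent ⟨n, hn⟩ = 0 := by simpa [μ] using hw0
  rw [Ideal.toCotangent_eq_zero, pow_two] at h0
  exact h0

end Groth.Agent.MultType
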