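import Groth.Agent.MultType.LiftNil

/-!
Lifting of group homomorphisms along a surjection of base rings with nilpotent kernel.
-/

universe u v

open TensorProduct WithConv SGA3b
open scoped TensorProduct

namespace Groth.Agent.MultType

variable {R : Type u} [CommRing R] {C : Type u} [CommRing C] [HopfAlgebra R C]
  {A : Type u} [CommRing A] [Bialgebra R A]

/-- `a ↦ 1 ⊗ (a ⊗ 1)` on coefficients in `S`. -/
noncomputable def j₁ (S : Type u) [CommRing S] [Algebra R S] : S ⊗[R] A →ₐ[S] S ⊗[R] (A ⊗[R] A) :=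
  Algebra.TensorProduct.map (AlgHom.id S S) Algebra.TensorProduct.includeLeft

/-- `a ↦ 1 ⊗ (1 ⊗ a)` on coefficients in `S`. -/
noncomputable def j₂ (S : Type u) [CommRing S] [Algebra R S] : S ⊗[R] A →ₐ[S] S ⊗[R] (A ⊗[R] A) :=
  Algebra.TensorProduct.map (AlgHom.id S S) Algebra.TensorProduct.includeRight

/-- The comultiplication with coefficients in `S`. -/
noncomputable def jΔ (S : Type u) [CommRing S] [Algebra R S] : S ⊗[R] A →ₐ[S] S ⊗[R] (A ⊗[R] A) :=
  Algebra.TensorProduct.map (AlgHom.id S S) (Bialgebra.comulAlgHom R A)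

/-- An `S`-valued point of the scheme of homomorphisms. -/
def Compat {S : Type u} [CommRing S] [Algebra R S] (g : C →ₐ[R] S ⊗[R] A) : Prop :=
  ∀ c, Algebra.TensorProduct.lift (((j₁ (R := R) (A := A) S).restrictScalars R).comp g) (((j₂ (R := R) (A := A) S).restrictScalars R).comp g)
    (fun _ _ => Commute.all _ _) (Coalgebra.comul c) = jΔ (R := R) (A := A) S (g c)

/-- `(S ⊗ A) ⊗[S] (S ⊗ A) ≅ S ⊗ (A ⊗ A)`. -/
noncomputable def kap (S : Type u) [CommRing S] [Algebra R S] :
    (S ⊗[R] A) ⊗[S] (S ⊗[R] A) ≃ₗ[S] S ⊗[R] (A ⊗[R] A) :=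
  (TensorProduct.AlgebraTensorModule.cancelBaseChange R S S (S ⊗[R] A) A).trans
    (TensorProduct.AlgebraTensorModule.assoc R R S S A A)

lemma kap_tmul (S : Type u) [CommRing S] [Algebra R S] (x y : S ⊗[R] A) :
    kap S (x ⊗ₜ[S] y) = j₁ S x * j₂ S y := by
  induction x using TensorProduct.induction_on with
  | zero => simp
  | add a b ha hb => rw [TensorProduct.add_tmul, map_add, ha, hb, map_add, add_mul]
  | tmul s a =>
    induction y using TensorProduct.induction_on with
    | zero => simp
    | add p q hp hq => rw [TensorProduct.tmul_add, map_add, hp, hq, map_add, mul_add]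
    | tmul t b =>
      simp [kap, j₁, j₂, TensorProduct.smul_tmul', mul_comm]

lemma kap_comul (S : Type u) [CommRing S] [Algebra R S] (x : S ⊗[R] A) :
    kap S (Coalgebra.comul (R := S) x) = jΔ S x := by
  have h : ∀ a : A, kap S (Coalgebra.comul (R := S) ((1 : S) ⊗ₜ[R] a)) = jΔ S ((1 : S) ⊗ₜ[R] a) := fun a => by
    rw [TensorProduct.comul_tmul, CommSemiring.comul_apply, ← (Coalgebra.Repr.arbitrary R a).eq]
    simp only [TensorProduct.tmul_sum, map_sum, TensorProduct.AlgebraTensorModule.tensorTensorTensorComm_tmul,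
      kap_tmul]
    rw [jΔ, Algebra.TensorProduct.map_tmul, Bialgebra.comulAlgHom_apply, ← (Coalgebra.Repr.arbitrary R a).eq]
    simp [j₁, j₂, TensorProduct.tmul_sum]
  induction x using TensorProduct.induction_on with
  | zero => simp
  | tmul s a =>
    rw [show s ⊗ₜ[R] a = s • ((1 : S) ⊗ₜ[R] a) by simp [TensorProduct.smul_tmul']]
    simp only [map_smul, h]
  | add p q hp hq => simp only [map_add, hp, hq]

/-- An integral stays one after base change. -/
lemma IsRightInt.baseChange (S : Type u) [CommRing S] [Algebra R S] {l : A →ₗ[R] R} (h : IsRightInt l) :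
    IsRightInt (R := S) (A := S ⊗[R] A)
      ((TensorProduct.AlgebraTensorModule.rid R S S).toLinearMap ∘ₗ
        TensorProduct.AlgebraTensorModule.map LinearMap.id l) := by
  intro x
  induction x using TensorProduct.induction_on with
  | zero => simp
  | add p q hp hq => rw [map_add, map_add, map_add, hp, hq, map_add, TensorProduct.add_tmul]
  | tmul s a =>
    have hint := congr(TensorProduct.lid R A $(h a))
    rw [← (Coalgebra.Repr.arbitrary R a).eq] at hint
    simp only [map_sum, TensorProduct.comm_tmul, LinearMap.rTensor_tmul, TensorProduct.lid_tmul] at hint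
    rw [show s ⊗ₜ[R] a = s • ((1 : S) ⊗ₜ[R] a) by simp [TensorProduct.smul_tmul']]
    simp only [map_smul, ← TensorProduct.smul_tmul']
    congr 1
    rw [TensorProduct.comul_tmul, CommSemiring.comul_apply, ← (Coalgebra.Repr.arbitrary R a).eq]
    simp only [TensorProduct.tmul_sum, map_sum, TensorProduct.AlgebraTensorModule.tensorTensorTensorComm_tmul,
      TensorProduct.comm_tmul, LinearMap.rTensor_tmul, LinearMap.comp_apply,
      TensorProduct.AlgebraTensorModule.map_tmul, LinearEquiv.coe_coe, LinearMap.id_apply,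
      TensorProduct.AlgebraTensorModule.rid_tmul]
    apply (TensorProduct.lid S (S ⊗[R] A)).injective
    simp only [map_sum, TensorProduct.lid_tmul, Algebra.smul_def (R := R) (A := S), _root_.mul_one,
      algebraMap_smul, ← TensorProduct.tmul_smul, ← TensorProduct.tmul_sum, hint]
    rw [TensorProduct.tmul_smul, ← Algebra.TensorProduct.one_def]

lemma mem_map_ker {S S' : Type u} [CommRing S] [Algebra R S] [CommRing S'] [Algebra R S']
    (π : S' →ₐ[R] S) (hπ : Function.Surjective π) {N : Type u} [CommRing N] [Algebra R N]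
    (x : S' ⊗[R] N) (hx : Algebra.TensorProduct.map π (AlgHom.id R N) x = 0) :
    x ∈ Ideal.map (algebraMap S' (S' ⊗[R] N)) (RingHom.ker π) := by
  have hex := rTensor_exact N (LinearMap.exact_subtype_ker_map π.toLinearMap) hπ
  have hx' : π.toLinearMap.rTensor N x = 0 := by
    have : ∀ y, π.toLinearMap.rTensor N y = Algebra.TensorProduct.map π (AlgHom.id R N) y := by
      intro y
      induction y using TensorProduct.induction_on with
      | zero => simp
      | tmul a b => simp
      | add a b ha hb => rw [map_add, map_add, ha, hb]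
    rw [this, hx]
  obtain ⟨y, rfl⟩ := (hex x).1 hx'
  clear hx hx' hex
  induction y using TensorProduct.induction_on with
  | zero => simp
  | tmul k n =>
    show (k : S') ⊗ₜ[R] n ∈ _
    rw [show (k : S') ⊗ₜ[R] n = algebraMap S' (S' ⊗[R] N) (k : S') * ((1 : S') ⊗ₜ[R] n) by simp]
    exact Ideal.mul_mem_right _ _ (Ideal.mem_map_of_mem _ k.2)
  | add a b ha hb => rw [map_add]; exact Ideal.add_mem _ ha hb

/-- Lifting of a point of the scheme of homomorphisms. -/
theorem exists_compat_lift [Algebra.FormallySmooth R C] (l : A →ₗ[R] R) (h1 : l 1 = 1) (hr : IsRightInt l)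
    {S S' : Type u} [CommRing S] [Algebra R S] [CommRing S'] [Algebra R S']
    (π : S' →ₐ[R] S) (hπ : Function.Surjective π) (hn : IsNilpotent (RingHom.ker π))
    (g : C →ₐ[R] S ⊗[R] A) (hg : Compat g) :
    ∃ g' : C →ₐ[R] S' ⊗[R] A, Compat g' ∧ (Algebra.TensorProduct.map π (AlgHom.id R A)).comp g' = g := by
  set J := RingHom.ker π with hJ
  let πA : S' ⊗[R] A →ₐ[R] S ⊗[R] A := Algebra.TensorProduct.map π (AlgHom.id R A)
  let πB : S' ⊗[R] (A ⊗[R] A) →ₐ[R] S ⊗[R] (A ⊗[R] A) := Algebra.TensorProduct.map π (AlgHom.id R (A ⊗[R] A))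
  have hπA : Function.Surjective πA := by
    intro z
    induction z using TensorProduct.induction_on with
    | zero => exact ⟨0, map_zero _⟩
    | tmul s a => obtain ⟨s, rfl⟩ := hπ s; exact ⟨s ⊗ₜ a, rfl⟩
    | add p q hp hq =>
      obtain ⟨p, rfl⟩ := hp
      obtain ⟨q, rfl⟩ := hq
      exact ⟨p + q, map_add _ _ _⟩
  have hnA : IsNilpotent (RingHom.ker πA) := by
    obtain ⟨n, hn⟩ := hn
    refine ⟨n, le_bot_iff.1 ((Ideal.pow_right_mono (fun x hx => mem_map_ker π hπ x hx) n).trans ?_)⟩
    rw [← Ideal.map_pow, hn]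
    simp
  let G : C →ₐ[R] S' ⊗[R] A := Algebra.FormallySmooth.liftOfSurjective g πA hπA hnA
  have hG : πA.comp G = g := Algebra.FormallySmooth.comp_liftOfSurjective g πA hπA hnA
  let φ : S' ⊗[R] C →ₐ[S'] S' ⊗[R] A :=
    Algebra.TensorProduct.lift (Algebra.ofId _ _) G fun _ _ => Commute.all _ _
  have hφ : ∀ c, φ ((1 : S') ⊗ₜ[R] c) = G c := fun c => by simp [φ, ← Algebra.TensorProduct.one_def]
  -- naturality
  have nat : ∀ (T T' : Type u) [CommRing T] [Algebra R T] [CommRing T'] [Algebra R T'] (p : T' →ₐ[R] T)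
      (f : A →ₐ[R] A ⊗[R] A) (x : T' ⊗[R] A),
      Algebra.TensorProduct.map p (AlgHom.id R (A ⊗[R] A)) (Algebra.TensorProduct.map (AlgHom.id T' T') f x) =
        Algebra.TensorProduct.map (AlgHom.id T T) f (Algebra.TensorProduct.map p (AlgHom.id R A) x) := by
    intro T T' _ _ _ _ p f x
    induction x using TensorProduct.induction_on with
    | zero => simp
    | tmul s a => simp
    | add a b ha hb => simp only [map_add, ha, hb]
  have hdef : DefectLE J φ := by
    intro x
    suffices h : ∀ c : C, Algebra.TensorProduct.map φ φ (Coalgebra.comul (R := S') ((1 : S') ⊗ₜ[R] c)) -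
        Coalgebra.comul (R := S') (φ ((1 : S') ⊗ₜ[R] c)) ∈
        Ideal.map (algebraMap S' ((S' ⊗[R] A) ⊗[S'] (S' ⊗[R] A))) J by
      induction x using TensorProduct.induction_on with
      | zero => simp
      | add p q hp hq =>
        have := Ideal.add_mem _ hp hq
        simp only [map_add]
        rwa [add_sub_add_comm]
      | tmul s c =>
        rw [show s ⊗ₜ[R] c = s • ((1 : S') ⊗ₜ[R] c) by simp [TensorProduct.smul_tmul']]
        simp only [map_smul, ← smul_sub]
        exact Submodule.smul_of_tower_mem _ s (h c)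
    intro c
    have e2 : kap S' (Coalgebra.comul (R := S') (φ ((1 : S') ⊗ₜ[R] c))) = jΔ S' (G c) := by
      rw [kap_comul, hφ]
    have e1 : kap S' (Algebra.TensorProduct.map φ φ (Coalgebra.comul (R := S') ((1 : S') ⊗ₜ[R] c))) =
        Algebra.TensorProduct.lift (((j₁ (R := R) (A := A) S').restrictScalars R).comp G) (((j₂ (R := R) (A := A) S').restrictScalars R).comp G)
          (fun _ _ => Commute.all _ _) (Coalgebra.comul c) := by
      rw [TensorProduct.comul_tmul, CommSemiring.comul_apply, ← (Coalgebra.Repr.arbitrary R c).eq]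
      simp only [TensorProduct.tmul_sum, map_sum, TensorProduct.AlgebraTensorModule.tensorTensorTensorComm_tmul,
        Algebra.TensorProduct.map_tmul, kap_tmul, Algebra.TensorProduct.lift_tmul, hφ]
      rfl
    set z := Algebra.TensorProduct.map φ φ (Coalgebra.comul (R := S') ((1 : S') ⊗ₜ[R] c)) -
      Coalgebra.comul (R := S') (φ ((1 : S') ⊗ₜ[R] c)) with hz
    have hker : πB (kap S' z) = 0 := by
      rw [hz, map_sub, e1, e2, map_sub]
      have h1 : πB (jΔ S' (G c)) = jΔ S (g c) := by
        rw [← hG]; exact nat S S' π _ _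
      have h2 : πB (Algebra.TensorProduct.lift (((j₁ (R := R) (A := A) S').restrictScalars R).comp G)
          (((j₂ (R := R) (A := A) S').restrictScalars R).comp G) (fun _ _ => Commute.all _ _) (Coalgebra.comul c)) =
          Algebra.TensorProduct.lift (((j₁ (R := R) (A := A) S).restrictScalars R).comp g) (((j₂ (R := R) (A := A) S).restrictScalars R).comp g)
            (fun _ _ => Commute.all _ _) (Coalgebra.comul c) := by
        rw [← (Coalgebra.Repr.arbitrary R c).eq]
        simp only [map_sum, Algebra.TensorProduct.lift_tmul, map_mul, ← hG]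
        exact Finset.sum_congr rfl fun i _ => congrArg₂ (· * ·) (nat S S' π _ _) (nat S S' π _ _)
      rw [h1, h2, hg c, sub_self]
    have hmem := mem_map_ker π hπ _ hker
    have hmem' : kap S' z ∈ J • (⊤ : Submodule S' (S' ⊗[R] (A ⊗[R] A))) := by
      rw [Ideal.smul_top_eq_map]; exact hmem
    have h3 : z ∈ J • (⊤ : Submodule S' ((S' ⊗[R] A) ⊗[S'] (S' ⊗[R] A))) := by
      rw [← (kap S').symm_apply_apply z]
      refine Submodule.smul_induction_on hmem' (fun k hk y _ => ?_) (fun a b ha hb => ?_)
      · rw [map_smul]; exact Submodule.smul_mem_smul hk Submodule.mem_top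
      · rw [map_add]; exact Submodule.add_mem _ ha hb
    rw [Ideal.smul_top_eq_map] at h3
    exact h3
  obtain ⟨ψ, hψ⟩ := exists_bialgHom (R := S')
    ((TensorProduct.AlgebraTensorModule.rid R S' S').toLinearMap ∘ₗ
      TensorProduct.AlgebraTensorModule.map LinearMap.id l)
    (by simp [Algebra.TensorProduct.one_def, h1]) (hr.baseChange S') hn φ hdef
  let g' : C →ₐ[R] S' ⊗[R] A :=
    ((ψ : S' ⊗[R] C →ₐ[S'] S' ⊗[R] A).restrictScalars R).comp Algebra.TensorProduct.includeRight
  refine ⟨g', fun c => ?_, AlgHom.ext fun c => ?_⟩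
  · have h := CoalgHomClass.map_comp_comul_apply ψ ((1 : S') ⊗ₜ[R] c)
    have h' := congr(kap S' $h)
    rw [kap_comul, TensorProduct.comul_tmul, CommSemiring.comul_apply, ← (Coalgebra.Repr.arbitrary R c).eq] at h'
    simp only [TensorProduct.tmul_sum, map_sum, TensorProduct.AlgebraTensorModule.tensorTensorTensorComm_tmul,
      TensorProduct.map_tmul] at h'
    refine Eq.trans ?_ h'
    rw [← (Coalgebra.Repr.arbitrary R c).eq, map_sum]
    exact Finset.sum_congr rfl fun i _ => by
      rw [Algebra.TensorProduct.lift_tmul]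
      exact (kap_tmul S' _ _).symm
  · rw [← hG]
    show πA (ψ ((1 : S') ⊗ₜ[R] c)) = πA (G c)
    rw [← sub_eq_zero, ← map_sub, ← hφ]
    have h := hψ ((1 : S') ⊗ₜ[R] c)
    have hle : Ideal.map (algebraMap S' (S' ⊗[R] A)) J ≤ RingHom.ker πA :=
      Ideal.map_le_iff_le_comap.2 fun k hk => by
        show πA (k ⊗ₜ[R] (1 : A)) = 0
        simp [πA, show π k = 0 from hk]
    exact hle h

end Groth.Agent.MultType
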