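import Groth.Agent.MultType.Formal
import Groth.Agent.MultType.KerIdem
import Groth.Agent.S5271
import Mathlib.RingTheory.Filtration

/-!
Algebraisation of formally diagonalisable groups over complete Noetherian rings.
-/

universe u

open TensorProduct SGA3b
open scoped TensorProduct

namespace Groth.Agent.MultType

/-- A bialgebra map into a group algebra which is surjective modulo an ideal in the radical is surjective. -/
lemma surjective_of_mod {A : Type u} [CommRing A] {I : Ideal A} (hI : I ≤ Ideal.jacobson ⊥) {C : Type u} [CommRing C]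
    [HopfAlgebra A C] {M : Type u} [CommGroup M] (φ : C →ₐc[A] MonoidAlgebra A M)
    (h : ∀ b, ∃ c, b - φ c ∈ I • (⊤ : Submodule A (MonoidAlgebra A M))) : Function.Surjective φ := by
  classical
  let V : Submodule A (MonoidAlgebra A M) := LinearMap.range (φ : C →ₐ[A] MonoidAlgebra A M).toLinearMap
  have hVmem : ∀ c, φ c ∈ V := fun c => ⟨c, rfl⟩
  have hhom : ∀ (m : M) (c : C), MonoidAlgebra.single m ((φ c).coeff m) ∈ V := by
    intro m c
    let cm : MonoidAlgebra A M →ₗ[A] A := (MonoidAlgebra.basis M A).coord m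
    let F : MonoidAlgebra A M ⊗[A] MonoidAlgebra A M →ₗ[A] MonoidAlgebra A M :=
      (TensorProduct.rid A _).toLinearMap ∘ₗ cm.lTensor _
    have hF : F ∘ₗ Coalgebra.comul = MonoidAlgebra.lsingle (R := A) (S := A) m ∘ₗ cm :=
      (MonoidAlgebra.basis M A).ext fun k => by
        have hc : ∀ z : MonoidAlgebra A M, cm z = z.coeff m := fun z => rfl
        simp [F, hc, MonoidAlgebra.coeff_single, Finsupp.single_apply]
        split_ifs with hk
        · subst hk; simp
        · simp
    have h1 : MonoidAlgebra.single m ((φ c).coeff m) = F (Coalgebra.comul (φ c)) := (congr($hF (φ c))).symm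
    rw [h1, ← CoalgHomClass.map_comp_comul_apply φ c, ← (Coalgebra.Repr.arbitrary A c).eq]
    simp only [map_sum, TensorProduct.map_tmul]
    refine Submodule.sum_mem _ fun i _ => ?_
    show cm _ • φ ((Coalgebra.Repr.arbitrary A c).left i) ∈ V
    exact Submodule.smul_mem _ _ (hVmem _)
  intro b
  suffices hb : b ∈ V by exact hb
  induction b using MonoidAlgebra.induction_linear with
  | zero => exact Submodule.zero_mem _
  | add p q hp hq => exact Submodule.add_mem _ hp hq
  | single m r =>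
    obtain ⟨c, hc⟩ := h (MonoidAlgebra.single m 1)
    have hmI : ((MonoidAlgebra.single m 1 : MonoidAlgebra A M) - φ c).coeff m ∈ I := by
      refine Submodule.smul_induction_on (p := fun z : MonoidAlgebra A M => z.coeff m ∈ I) hc (fun a ha z _ => ?_)
        (fun x y hx hy => ?_)
      · rw [MonoidAlgebra.coeff_smul, Finsupp.smul_apply, smul_eq_mul]
        exact Ideal.mul_mem_right _ _ ha
      · rw [MonoidAlgebra.coeff_add, Finsupp.add_apply]
        exact Ideal.add_mem _ hx hy
    rw [MonoidAlgebra.coeff_sub, Finsupp.sub_apply, MonoidAlgebra.coeff_single, Finsupp.single_eq_same] at hmI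
    have hu : IsUnit ((φ c).coeff m) := by
      have h2 := Ideal.mem_jacobson_bot.1 (hI hmI) (-1)
      rwa [show (1 - (φ c).coeff m) * (-1) + 1 = (φ c).coeff m by ring] at h2
    obtain ⟨v, hv⟩ := hu
    rw [show (MonoidAlgebra.single m r : MonoidAlgebra A M) = (r * ↑v⁻¹) • MonoidAlgebra.single m ((φ c).coeff m) by
      simp [← hv]]
    exact Submodule.smul_mem _ _ (hhom m c)

variable {A : Type u} [CommRing A] [IsNoetherianRing A] {I : Ideal A} [IsAdicComplete I A]

open Groth.Agent.S5271 in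
/-- Algebraisation: a group whose reductions are diagonalisable contains a diagonalisable open and closed subgroup. -/
theorem exists_algebraise {C : Type u} [CommRing C] [HopfAlgebra A C] (hft : Algebra.FiniteType A C)
    (hflat : ∀ k, Module.Flat (A ⧸ I ^ k) ((A ⧸ I ^ k) ⊗[A] C))
    {M : Type u} [CommGroup M] (e₀ : ((A ⧸ I) ⊗[A] C) ≃ₐc[A ⧸ I] MonoidAlgebra (A ⧸ I) M) :
    ∃ φ : C →ₐc[A] MonoidAlgebra A M, Function.Surjective φ ∧
      ∃ e : C, IsIdempotentElem e ∧ e ∈ Ideal.map (algebraMap A C) I ∧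
        RingHom.ker (φ : C →ₐ[A] MonoidAlgebra A M) = Ideal.span {e} := by
  classical
  haveI := hft
  set B := MonoidAlgebra A M
  obtain ⟨G, hGc, hGπ, hGb⟩ := exists_formal_iso I hflat e₀
  choose f hf using fun (k : ℕ) (c : C) => exists_tmul (I ^ (k + 1)) (G k c)
  have hdown : ∀ {k : ℕ} {N : Type u} [AddCommGroup N] [Module A N] {z : N},
      z ∈ I ^ (k + 1) • (⊤ : Submodule A N) → z ∈ I ^ k • (⊤ : Submodule A N) :=
    fun h => Submodule.smul_mono (Ideal.pow_le_pow_right (Nat.le_succ _)) le_rfl h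
  have hcompat : ∀ k c, f (k + 1) c - f k c ∈ I ^ (k + 1) • (⊤ : Submodule A B) := fun k c => by
    rw [← tmul_eq_iff, hf k c]
    refine Eq.trans ?_ congr($(hGπ k) c)
    show _ = Algebra.TensorProduct.map _ (AlgHom.id A B) (G (k + 1) c)
    rw [← hf (k + 1) c]
    simp
  obtain ⟨φ, hφ⟩ := exists_limit I (R' := A) (Bialgebra.TensorProduct.lid A B) (C := C) f
    (fun k x y => hdown (tmul_eq_iff.1 (by rw [TensorProduct.tmul_add, hf, hf, hf, map_add])))
    (fun k x y => hdown (tmul_eq_iff.1 (by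
      rw [show ((1 : A ⧸ I ^ (k + 1)) ⊗ₜ[A] (f k x * f k y)) = ((1 : A ⧸ I ^ (k + 1)) ⊗ₜ[A] f k x) *
        ((1 : A ⧸ I ^ (k + 1)) ⊗ₜ[A] f k y) by simp, hf, hf, hf, map_mul])))
    (fun k r => hdown (tmul_eq_iff.1 (by
      rw [hf, AlgHom.commutes]
      exact ((Algebra.TensorProduct.includeRight : B →ₐ[A] (A ⧸ I ^ (k + 1)) ⊗[A] B).commutes r).symm)))
    (fun k c => hdown (hcompat k c))
    (fun k c => hdown (tmul_eq_iff.1 (by
      have h := hGc k c
      rw [← hf k c, jΔ, Algebra.TensorProduct.map_tmul, ← (Coalgebra.Repr.arbitrary A c).eq, map_sum] at h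
      refine Eq.trans ?_ h
      rw [TensorProduct.tmul_sum]
      refine Finset.sum_congr rfl fun i _ => ?_
      rw [Algebra.TensorProduct.lift_tmul]
      simp only [AlgHom.comp_apply, AlgHom.restrictScalars_apply, ← hf]
      simp [j₁, j₂])))
  have hmod : ∀ k c, (1 : A ⧸ I ^ (k + 1)) ⊗ₜ[A] φ c = G k c := fun k c => by
    rw [← hf k c, tmul_eq_iff]
    have := Submodule.add_mem _ (hφ (k + 1) c) (hcompat k c)
    rwa [sub_add_sub_cancel] at this
  let Φ := fun k => Algebra.TensorProduct.lift (Algebra.ofId (A ⧸ I ^ (k + 1)) _) (G k) fun _ _ => Commute.all _ _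
  have hΦ : ∀ k c, Φ k ((1 : A ⧸ I ^ (k + 1)) ⊗ₜ[A] c) = (1 : A ⧸ I ^ (k + 1)) ⊗ₜ[A] φ c := fun k c => by
    rw [hmod]
    simp [Φ, ← Algebra.TensorProduct.one_def]
  have hI : I ≤ Ideal.jacobson ⊥ := IsAdicComplete.le_jacobson_bot I
  have hsurj : Function.Surjective φ := surjective_of_mod hI φ fun b => by
    obtain ⟨z, hz⟩ := (hGb 0).2 ((1 : A ⧸ I ^ (0 + 1)) ⊗ₜ[A] b)
    obtain ⟨c, rfl⟩ := exists_tmul (I ^ (0 + 1)) z
    refine ⟨c, ?_⟩
    have h := tmul_eq_iff.1 (hz.symm.trans (hΦ 0 c))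
    rwa [zero_add, pow_one] at h
  refine ⟨φ, hsurj, ?_⟩
  set N := RingHom.ker (φ : C →ₐ[A] B) with hN
  haveI : IsNoetherianRing C := Algebra.FiniteType.isNoetherianRing A C
  set J := Ideal.map (algebraMap A C) I
  have hNJ : ∀ n ∈ N, ∀ k, n ∈ J ^ k • (⊤ : Submodule C C) := by
    intro n hn k
    have h1 : (1 : A ⧸ I ^ (k + 1)) ⊗ₜ[A] n = (1 : A ⧸ I ^ (k + 1)) ⊗ₜ[A] (0 : C) :=
      (hGb k).1 (Eq.trans (hΦ k n) (by rw [show φ n = 0 from hn, TensorProduct.tmul_zero, TensorProduct.tmul_zero, map_zero]))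
    have h2 := tmul_eq_iff.1 h1
    rw [sub_zero, Ideal.smul_top_eq_map] at h2
    have h3 : n ∈ Ideal.map (algebraMap A C) (I ^ (k + 1)) := h2
    rw [Ideal.map_pow] at h3
    rw [smul_eq_mul, Ideal.mul_top]
    exact Ideal.pow_le_pow_right (Nat.le_succ k) h3
  obtain ⟨T, hT⟩ : N.FG := IsNoetherian.noetherian N
  have hu : ∀ n ∈ T, ∃ r ∈ J, r * n = n := fun n hn => by
    obtain ⟨r, hr⟩ := (Ideal.mem_iInf_smul_pow_eq_bot_iff J n).1
      (Submodule.mem_iInf _ |>.2 (hNJ n (hT ▸ Submodule.subset_span hn)))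
    exact ⟨r.1, r.2, hr⟩
  choose r hrJ hr using hu
  let v : C := ∏ x : {x // x ∈ T}, (1 - r x.1 x.2)
  have hvJ : 1 - v ∈ J := by
    rw [← Ideal.Quotient.eq, map_one, map_prod]
    refine (Finset.prod_eq_one fun x _ => ?_).symm
    rw [map_sub, map_one, Ideal.Quotient.eq_zero_iff_mem.2 (hrJ x.1 x.2), sub_zero]
  have hvN : ∀ n ∈ N, v * n = 0 := by
    intro n hn
    rw [← hT] at hn
    induction hn using Submodule.span_induction with
    | mem x hx =>
      show (∏ y : {x // x ∈ T}, (1 - r y.1 y.2)) * x = 0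
      rw [← Finset.prod_erase_mul Finset.univ _ (Finset.mem_univ (⟨x, hx⟩ : {x // x ∈ T})), mul_assoc, sub_mul,
        hr x hx, one_mul, sub_self, mul_zero]
    | zero => exact mul_zero _
    | add x y _ _ hx hy => rw [mul_add, hx, hy, add_zero]
    | smul a x _ hx => rw [smul_eq_mul, mul_left_comm, hx, mul_zero]
  have hεJ : Coalgebra.counit (R := A) (1 - v) ∈ I := by
    have h := Ideal.mem_map_of_mem (Bialgebra.counitAlgHom A C : C →+* A) hvJ
    rw [Ideal.map_map, show (Bialgebra.counitAlgHom A C : C →+* A).comp (algebraMap A C) = RingHom.id A from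
      (Bialgebra.counitAlgHom A C).comp_algebraMap, Ideal.map_id] at h
    exact h
  have hidem : IsIdempotentElem N := by
    refine isIdempotentElem_ker φ hsurj fun n hn => ?_
    have hu : IsUnit (Coalgebra.counit (R := A) v) := by
      have h2 := Ideal.mem_jacobson_bot.1 (hI hεJ) (-1)
      rw [map_sub, Bialgebra.counit_one] at h2
      rwa [show (1 - Coalgebra.counit (R := A) v) * (-1) + 1 = Coalgebra.counit (R := A) v by ring] at h2
    obtain ⟨w, hw⟩ := hu
    have h1 : n = algebraMap A C ↑w⁻¹ * ((algebraMap A C (Coalgebra.counit (R := A) v) - v) * n) := by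
      rw [sub_mul, hvN n hn, sub_zero, ← mul_assoc, ← map_mul, ← hw, Units.inv_mul, map_one, one_mul]
    rw [h1]
    refine Ideal.mul_mem_left _ _ (Ideal.mul_mem_mul ?_ hn)
    show Bialgebra.counitAlgHom A C _ = 0
    rw [map_sub, AlgHom.commutes]
    exact sub_self _
  obtain ⟨e, he, heN⟩ := (Ideal.isIdempotentElem_iff_of_fg N ⟨T, hT⟩).1 hidem
  refine ⟨e, he, ?_, heN⟩
  have heN' : e ∈ N := heN ▸ Ideal.mem_span_singleton_self e
  have : e = (1 - v) * e := by rw [sub_mul, one_mul, hvN e heN', sub_zero]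
  rw [this]
  exact Ideal.mul_mem_right _ _ hvJ

end Groth.Agent.MultType
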