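import Mathlib
import Groth.Prelude.Def_SGA3b

/-!
Coefficient functionals of a diagonalisation `R' ⊗[R] A ≅ R'[M]` in the convolution algebra.
-/

universe u v

open TensorProduct WithConv MonoidAlgebra
open scoped TensorProduct

namespace Groth.Agent.MultType

variable {R : Type u} [CommRing R] {R' : Type u} [CommRing R'] [Algebra R R']
  {A : Type u} [CommRing A] [Bialgebra R A] {M : Type u} [CommGroup M]
  (e : (R' ⊗[R] A) ≃ₐc[R'] MonoidAlgebra R' M)

/-- `a ↦ e (1 ⊗ a)`. -/
noncomputable def emb : A →ₐ[R] MonoidAlgebra R' M :=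
  ((e : (R' ⊗[R] A) →ₐ[R'] MonoidAlgebra R' M).restrictScalars R).comp
    Algebra.TensorProduct.includeRight

lemma emb_apply (a : A) : emb e a = e (1 ⊗ₜ a) := rfl

/-- Restriction along `emb`. -/
noncomputable def res {T : Type*} [AddCommMonoid T] [Module R' T] [Module R T] [IsScalarTower R R' T]
    (u : MonoidAlgebra R' M →ₗ[R'] T) : A →ₗ[R] T :=
  (u.restrictScalars R) ∘ₗ (emb e).toLinearMap

@[simp] lemma res_apply {T : Type*} [AddCommMonoid T] [Module R' T] [Module R T]
    [IsScalarTower R R' T] (u : MonoidAlgebra R' M →ₗ[R'] T) (a : A) :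
    res e u a = u (emb e a) := rfl

lemma comul_emb (a : A) :
    Coalgebra.comul (R := R') (emb e a) =
      ∑ i ∈ (Coalgebra.Repr.arbitrary R a).index,
        emb e ((Coalgebra.Repr.arbitrary R a).left i) ⊗ₜ[R']
          emb e ((Coalgebra.Repr.arbitrary R a).right i) := by
  have h1 : Coalgebra.comul (R := R') ((1 : R') ⊗ₜ[R] a) =
      ∑ i ∈ (Coalgebra.Repr.arbitrary R a).index,
        ((1 : R') ⊗ₜ[R] (Coalgebra.Repr.arbitrary R a).left i) ⊗ₜ[R']
          ((1 : R') ⊗ₜ[R] (Coalgebra.Repr.arbitrary R a).right i) := by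
    rw [TensorProduct.comul_tmul, ← (Coalgebra.Repr.arbitrary R a).eq]
    simp [TensorProduct.tmul_sum, Algebra.TensorProduct.one_def]
  have h2 := CoalgHomClass.map_comp_comul_apply (e : (R' ⊗[R] A) →ₐc[R'] MonoidAlgebra R' M)
    ((1 : R') ⊗ₜ[R] a)
  rw [h1, map_sum] at h2
  exact h2.symm

/-- Convolution of restrictions, computed on the basis. -/
lemma res_convMul {T : Type*} [CommRing T] [Algebra R' T] [Algebra R T] [IsScalarTower R R' T]
    (u v w : MonoidAlgebra R' M →ₗ[R'] T)
    (h : ∀ m, u (single m 1) * v (single m 1) = w (single m 1)) :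
    toConv (res e u) * toConv (res e v) = toConv (res e w) := by
  have hw : LinearMap.mul' R' T ∘ₗ TensorProduct.map u v ∘ₗ Coalgebra.comul = w :=
    (MonoidAlgebra.basis M R').ext fun m => by simp [h]
  refine WithConv.ext (LinearMap.ext fun a => ?_)
  have h1 := congr($(hw) (emb e a))
  simp only [LinearMap.comp_apply, comul_emb, map_sum, TensorProduct.map_tmul,
    LinearMap.mul'_apply] at h1
  rw [(Coalgebra.Repr.arbitrary R a).convMul_apply]
  simpa using h1

lemma coord_single [DecidableEq M] (m k : M) :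
    (MonoidAlgebra.basis M R').coord m (single k 1) = if k = m then 1 else 0 := by
  have : (single k 1 : MonoidAlgebra R' M) = MonoidAlgebra.basis M R' k := by simp
  rw [this, Module.Basis.coord_apply, Module.Basis.repr_self, Finsupp.single_apply]

/-- The coefficient functional at `m`. -/
noncomputable def coef (m : M) : A →ₗ[R] R' := res e ((MonoidAlgebra.basis M R').coord m)

lemma coef_def (m : M) (a : A) : coef e m a = (emb e a).coeff m := rfl

lemma coef_convMul_self (m : M) : toConv (coef e m) * toConv (coef e m) = toConv (coef e m) := by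
  classical
  refine res_convMul e _ _ _ fun k => ?_
  rw [coord_single]
  split_ifs <;> simp

lemma coef_convMul_ne {m n : M} (h : m ≠ n) : toConv (coef e m) * toConv (coef e n) = 0 := by
  classical
  rw [coef, coef, res_convMul e _ _ 0 fun k => ?_]
  · exact WithConv.ext (LinearMap.ext fun a => rfl)
  · rw [coord_single, coord_single]
    split_ifs with h1 h2 <;> simp
    exact (h (h1.symm.trans h2)).elim

lemma coef_algebraMap [DecidableEq M] (m : M) (r : R) :
    coef e m (algebraMap R A r) = if m = 1 then algebraMap R R' r else 0 := by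
  rw [coef_def, AlgHom.commutes]
  simp [IsScalarTower.algebraMap_apply R R' (MonoidAlgebra R' M), Finsupp.single_apply, eq_comm]

lemma emb_eq_zero {a : A} (h : ∀ m, coef e m a = 0) : emb e a = 0 := by
  ext m
  simpa [coef_def] using h m

lemma tmul_eq_zero {a : A} (h : ∀ m, coef e m a = 0) : (1 : R') ⊗ₜ[R] a = 0 := by
  have := emb_eq_zero e h
  rw [emb_apply] at this
  refine (EquivLike.injective e) ?_
  rw [this, map_zero]

/-- If `x ∈ I A` then all coefficients lie in `I R'`. -/
lemma coef_mem_map {I : Ideal R} {x : A} (hx : x ∈ Ideal.map (algebraMap R A) I) (m : M) :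
    coef e m x ∈ Ideal.map (algebraMap R R') I := by
  have h : x ∈ I • (⊤ : Submodule R A) := by
    rw [Ideal.smul_top_eq_map]; exact hx
  have h' := Submodule.mem_map_of_mem (f := coef e m) h
  rw [Submodule.map_smul''] at h'
  have h'' := Submodule.smul_mono (le_refl I) (le_top : Submodule.map (coef e m) ⊤ ≤ ⊤) h'
  rw [Ideal.smul_top_eq_map] at h''
  exact h''

lemma mem_map_of_tmul_eq {I : Ideal R} {x y : A}
    (h : (1 : R ⧸ I) ⊗ₜ[R] x = (1 : R ⧸ I) ⊗ₜ[R] y) :
    x - y ∈ Ideal.map (algebraMap R A) I := by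
  have h2 := congr(TensorProduct.quotTensorEquivQuotSMul A I $h)
  simp only [TensorProduct.quotTensorEquivQuotSMul_mk_one_tmul, Submodule.Quotient.eq] at h2
  rw [Ideal.smul_top_eq_map] at h2
  exact h2

variable {C : Type v} [CommRing C] [Bialgebra R C]

/-- The pullback of a coefficient functional along a bialgebra map, in the convolution ring. -/
noncomputable def coefPull (φ : C →ₐc[R] A) (m : M) : WithConv (C →ₗ[R] R') :=
  toConv (coef e m ∘ₗ (φ : C →ₗc[R] A).toLinearMap)

@[simp] lemma coefPull_apply (φ : C →ₐc[R] A) (m : M) (c : C) :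
    coefPull e φ m c = coef e m (φ c) := rfl

lemma isIdempotentElem_coefPull (φ : C →ₐc[R] A) (m : M) :
    IsIdempotentElem (coefPull e φ m) := by
  refine WithConv.ext (LinearMap.ext fun c => ?_)
  show (coefPull e φ m * coefPull e φ m) c = coef e m (φ c)
  conv_rhs => rw [← show _ = coef e m (φ c) from congr($(coef_convMul_self e m) (φ c))]
  have h := ((Coalgebra.Repr.arbitrary R c).induced (φ : C →ₗc[R] A)).convMul_apply
    (toConv (coef e m)) (toConv (coef e m))
  rw [(Coalgebra.Repr.arbitrary R c).convMul_apply]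
  exact h.symm

/-- The trivial bialgebra map. -/
noncomputable def triv : C →ₐc[R] A :=
  (Bialgebra.unitBialgHom R A).comp (Bialgebra.counitBialgHom R C)

@[simp] lemma triv_apply (c : C) :
    (triv : C →ₐc[R] A) c = algebraMap R A (Coalgebra.counit c) := rfl

lemma coefPull_triv [DecidableEq M] (m : M) :
    coefPull e (triv : C →ₐc[R] A) m = if m = 1 then 1 else 0 := by
  refine WithConv.ext (LinearMap.ext fun c => ?_)
  show coef e m (triv c) = _
  rw [triv_apply, coef_algebraMap]
  split_ifs <;> rfl

lemma commute_coefPull_triv (φ : C →ₐc[R] A) (m : M) :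
    Commute (coefPull e φ m) (coefPull e (triv : C →ₐc[R] A) m) := by
  classical
  rw [coefPull_triv]
  split_ifs
  · exact Commute.one_right _
  · exact Commute.zero_right _

/-- An idempotent of the convolution ring with values in `J` has values in `J * J`. -/
lemma idem_mem_sq {J : Ideal R'} {p : WithConv (C →ₗ[R] R')} (hp : IsIdempotentElem p)
    (h : ∀ c, p c ∈ J) (c : C) : p c ∈ J * J := by
  rw [← hp.eq, (Coalgebra.Repr.arbitrary R c).convMul_apply]
  exact Ideal.sum_mem _ fun i _ => Ideal.mul_mem_mul (h _) (h _)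

lemma convMul_mem {J : Ideal R'} (p q : WithConv (C →ₗ[R] R')) (h : ∀ c, q c ∈ J) (c : C) :
    (p * q) c ∈ J := by
  rw [(Coalgebra.Repr.arbitrary R c).convMul_apply]
  exact Ideal.sum_mem _ fun i _ => Ideal.mul_mem_left _ _ (h _)

lemma sub_mem_sq {J : Ideal R'} {p q : WithConv (C →ₗ[R] R')} (hp : IsIdempotentElem p)
    (hq : IsIdempotentElem q) (hpq : Commute p q) (h : ∀ c, p c - q c ∈ J) (c : C) :
    p c - q c ∈ J * J := by
  have key : ∀ {p q : WithConv (C →ₗ[R] R')}, IsIdempotentElem p → IsIdempotentElem q →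
      Commute p q → (∀ c, p c - q c ∈ J) → ∀ c, (p - p * q) c ∈ J * J := by
    intro p q hp hq hpq h
    have he : IsIdempotentElem (p - p * q) := by
      show (p - p * q) * (p - p * q) = p - p * q
      have h1 : p * (p * q) = p * q := by rw [← mul_assoc, hp.eq]
      have h2 : p * q * p = p * q := by rw [mul_assoc, ← hpq.eq, h1]
      have h3 : p * q * (p * q) = p * q := by rw [← mul_assoc, h2, mul_assoc, hq.eq]
      rw [sub_mul, mul_sub, mul_sub, hp.eq, h1, h2, h3, sub_self, sub_zero]
    refine idem_mem_sq he fun c => ?_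
    rw [show p - p * q = p * (p - q) by rw [mul_sub, hp.eq]]
    exact convMul_mem _ _ (fun d => h d) c
  have h1 := key hp hq hpq h c
  have h2 := key hq hp hpq.symm (fun d => by simpa using J.neg_mem (h d)) c
  have := Ideal.sub_mem _ h1 h2
  rw [hpq.eq] at this
  simpa using this

end Groth.Agent.MultType
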