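import Groth.Agent.MultType.Chart

/-!
Coefficient ideals of the difference of two maps into a group of multiplicative type.
-/

universe u v

open TensorProduct WithConv MonoidAlgebra SGA3b
open scoped TensorProduct

namespace Groth.Agent.MultType

variable {R : Type u} [CommRing R] {R' : Type u} [CommRing R'] [Algebra R R']
  {A : Type u} [CommRing A] [Bialgebra R A] {M : Type u} [CommGroup M]
  (e : (R' ⊗[R] A) ≃ₐc[R'] MonoidAlgebra R' M)

lemma mem_map_single_iff {K : Ideal R'} {x : MonoidAlgebra R' M} :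
    x ∈ Ideal.map (algebraMap R' (MonoidAlgebra R' M)) K ↔ ∀ m, x.coeff m ∈ K := by
  constructor
  · intro hx m
    have h : x ∈ K • (⊤ : Submodule R' (MonoidAlgebra R' M)) := by
      rw [Ideal.smul_top_eq_map]; exact hx
    refine Submodule.smul_induction_on h (fun k hk y _ => ?_) (fun a b ha hb => ?_)
    · simpa using K.mul_mem_right _ hk
    · simpa using K.add_mem ha hb
  · intro hx
    have h : x = ∑ m ∈ x.coeff.support,
        algebraMap R' (MonoidAlgebra R' M) (x.coeff m) * single m 1 := by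
      conv_lhs => rw [← MonoidAlgebra.sum_single x]
      simp [Finsupp.sum]
    rw [h]
    exact Ideal.sum_mem _ fun m _ => Ideal.mul_mem_right _ _ (Ideal.mem_map_of_mem _ (hx m))

variable {C : Type v} [CommRing C] [Bialgebra R C] (φ ψ : C →ₐc[R] A)

/-- The ideal generated by the coefficients of `φ c - ψ c`. -/
def diffIdeal : Ideal R' :=
  Ideal.span (Set.range fun p : M × C => coef e p.1 (φ p.2) - coef e p.1 (ψ p.2))

lemma mem_diffIdeal (m : M) (c : C) : coef e m (φ c) - coef e m (ψ c) ∈ diffIdeal e φ ψ :=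
  Ideal.subset_span ⟨(m, c), rfl⟩

lemma diffIdeal_le {K : Ideal R'} (h : ∀ m c, coef e m (φ c) - coef e m (ψ c) ∈ K) :
    diffIdeal e φ ψ ≤ K :=
  Ideal.span_le.2 (by rintro _ ⟨⟨m, c⟩, rfl⟩; exact h m c)

lemma diffIdeal_le_sq (hcomm : ∀ m, Commute (coefPull e φ m) (coefPull e ψ m)) :
    diffIdeal e φ ψ ≤ diffIdeal e φ ψ * diffIdeal e φ ψ :=
  diffIdeal_le e φ ψ fun m c => sub_mem_sq (isIdempotentElem_coefPull e φ m)
    (isIdempotentElem_coefPull e ψ m) (hcomm m) (fun d => mem_diffIdeal e φ ψ m d) c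

lemma diffIdeal_le_pow (hcomm : ∀ m, Commute (coefPull e φ m) (coefPull e ψ m)) {K : Ideal R'}
    (h : diffIdeal e φ ψ ≤ K) (n : ℕ) : diffIdeal e φ ψ ≤ K ^ n := by
  induction n with
  | zero => simp
  | succ n ih =>
    rw [pow_succ]
    exact (diffIdeal_le_sq e φ ψ hcomm).trans (Ideal.mul_mono ih h)

lemma diffIdeal_le_map {I : Ideal R}
    (h : ∀ c, φ c - ψ c ∈ Ideal.map (algebraMap R A) I) :
    diffIdeal e φ ψ ≤ Ideal.map (algebraMap R R') I :=
  diffIdeal_le e φ ψ fun m c => by rw [← map_sub]; exact coef_mem_map e (h c) m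

lemma fg_diffIdeal [Algebra.FiniteType R C] : (diffIdeal e φ ψ).FG := by
  classical
  obtain ⟨t, ht⟩ := (inferInstance : Algebra.FiniteType R C).1
  let G : Finset R' := t.biUnion fun c => (emb e (φ c - ψ c)).coeff.support.image
    fun m => (emb e (φ c - ψ c)).coeff m
  refine ⟨G, le_antisymm (Ideal.span_le.2 ?_) (diffIdeal_le e φ ψ fun m c => ?_)⟩
  · intro r hr
    simp only [G, Finset.coe_biUnion, Set.mem_iUnion, Finset.coe_image, Set.mem_image] at hr
    obtain ⟨c, -, m, -, rfl⟩ := hr
    rw [← coef_def, map_sub]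
    exact mem_diffIdeal e φ ψ m c
  · rw [← map_sub, coef_def]
    refine mem_map_single_iff.1 ?_ m
    induction (show c ∈ Algebra.adjoin R (t : Set C) by rw [ht]; trivial)
      using Algebra.adjoin_induction with
    | mem x hx =>
      refine mem_map_single_iff.2 fun k => ?_
      by_cases hk : k ∈ (emb e (φ x - ψ x)).coeff.support
      · exact Ideal.subset_span (Finset.mem_biUnion.2 ⟨x, hx, Finset.mem_image.2 ⟨k, hk, rfl⟩⟩)
      · rw [Finsupp.notMem_support_iff.1 hk]; exact Submodule.zero_mem _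
    | algebraMap r => rw [AlgHomClass.commutes, AlgHomClass.commutes, sub_self, map_zero]; exact Submodule.zero_mem _
    | add x y _ _ ihx ihy =>
      rw [map_add φ, map_add ψ, add_sub_add_comm, map_add]
      exact Ideal.add_mem _ ihx ihy
    | mul x y _ _ ihx ihy =>
      rw [map_mul φ, map_mul ψ, show φ x * φ y - ψ x * ψ y =
        (φ x - ψ x) * φ y + ψ x * (φ y - ψ y) by ring, map_add, map_mul, map_mul]
      exact Ideal.add_mem _ (Ideal.mul_mem_right _ _ ihx) (Ideal.mul_mem_left _ _ ihy)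

omit φ ψ in
/-- Descent of an ideal containing all coefficients of an element. -/
lemma coef_mem_map_comap [Module.Flat R R'] {K : Ideal R'} {x : A} (hx : ∀ k, coef e k x ∈ K)
    (m : M) : coef e m x ∈ Ideal.map (algebraMap R R') (K.comap (algebraMap R R')) := by
  set J : Ideal R := K.comap (algebraMap R R') with hJ
  let L : R' ⊗[R] A →ₗ[R'] (R' ⧸ K) ⊗[R] R' :=
    TensorProduct.AlgebraTensorModule.map (Submodule.mkQ K) (coef e m)
  have hL : L ((1 : R') ⊗ₜ[R] x) = 0 := by
    have h1 : (1 : R') ⊗ₜ[R] x ∈ K • (⊤ : Submodule R' (R' ⊗[R] A)) := by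
      have h2 : emb e x ∈ K • (⊤ : Submodule R' (MonoidAlgebra R' M)) := by
        rw [Ideal.smul_top_eq_map]
        exact mem_map_single_iff.2 fun k => hx k
      have h3 : e.symm (emb e x) = (1 : R') ⊗ₜ[R] x := e.symm_apply_apply _
      rw [← h3]
      refine Submodule.smul_induction_on h2 (fun k hk y _ => ?_) (fun a b ha hb => ?_)
      · rw [map_smul]
        exact Submodule.smul_mem_smul hk Submodule.mem_top
      · rw [map_add]
        exact Submodule.add_mem _ ha hb
    refine Submodule.smul_induction_on h1 (fun k hk y _ => ?_) (fun a b ha hb => by simp [ha, hb])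
    rw [map_smul]
    induction L y using TensorProduct.induction_on with
    | zero => simp
    | tmul q r =>
      obtain ⟨q, rfl⟩ := Submodule.Quotient.mk_surjective K q
      rw [TensorProduct.smul_tmul', ← Submodule.Quotient.mk_smul, smul_eq_mul,
        (Submodule.Quotient.mk_eq_zero K).2 (K.mul_mem_right q hk), TensorProduct.zero_tmul]
    | add a b ha hb => rw [smul_add, ha, hb, add_zero]
  let i : (R ⧸ J) →ₗ[R] R' ⧸ K := Submodule.mapQ J (K.restrictScalars R) (Algebra.linearMap R R')
    fun r hr => hr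
  have hi : Function.Injective i := by
    rw [injective_iff_map_eq_zero]
    intro r
    obtain ⟨r, rfl⟩ := Submodule.Quotient.mk_surjective J r
    intro hr
    exact (Submodule.Quotient.mk_eq_zero J).2 ((Submodule.Quotient.mk_eq_zero (K.restrictScalars R)).1 hr)
  have h5 : (1 : R ⧸ J) ⊗ₜ[R] coef e m x = 0 := by
    apply Module.Flat.rTensor_preserves_injective_linearMap (M := R') i hi
    rw [map_zero, LinearMap.rTensor_tmul]
    have : i 1 = Submodule.Quotient.mk (1 : R') := by
      show i (Submodule.Quotient.mk 1) = _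
      show Submodule.Quotient.mk (algebraMap R R' 1) = _
      rw [map_one]
      rfl
    rw [this]
    simpa [L] using hL
  have h6 := congr(TensorProduct.quotTensorEquivQuotSMul R' J $h5)
  rw [TensorProduct.quotTensorEquivQuotSMul_mk_one_tmul, map_zero, Submodule.Quotient.mk_eq_zero,
    Ideal.smul_top_eq_map] at h6
  exact h6

lemma diffIdeal_eq_map_comap [Module.Flat R R'] :
    diffIdeal e φ ψ = Ideal.map (algebraMap R R') ((diffIdeal e φ ψ).comap (algebraMap R R')) := by
  refine le_antisymm (diffIdeal_le e φ ψ fun m c => ?_) Ideal.map_comap_le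
  rw [← map_sub]
  refine coef_mem_map_comap e (fun k => ?_) m
  rw [map_sub]
  exact mem_diffIdeal e φ ψ k c

end Groth.Agent.MultType

namespace Groth.Agent.MultType

variable {R : Type u} [CommRing R] {A : Type u} [CommRing A] [HopfAlgebra R A]
  {C : Type v} [CommRing C] [Bialgebra R C] (φ ψ : C →ₐc[R] A)

lemma eq_of_diffIdeal_eq_bot (hA : IsMultType R A)
    (h : ∀ c : Chart R A, diffIdeal c.e φ ψ = ⊥) : ∀ x, φ x = ψ x := fun x => by
  rw [← sub_eq_zero]
  refine eq_zero_of_coef hA fun c m => ?_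
  rw [map_sub, ← Ideal.mem_bot, ← h c]
  exact mem_diffIdeal c.e φ ψ m x

/-- Rigidity modulo a nilpotent ideal. -/
lemma eq_of_mod_nilpotent (hA : IsMultType R A) {I : Ideal R} (hI : IsNilpotent I)
    (hcomm : ∀ (c : Chart R A) (m : c.M), Commute (coefPull c.e φ m) (coefPull c.e ψ m))
    (h : ∀ x, φ x - ψ x ∈ Ideal.map (algebraMap R A) I) : ∀ x, φ x = ψ x := by
  obtain ⟨n, hn⟩ := hI
  refine eq_of_diffIdeal_eq_bot φ ψ hA fun c => le_bot_iff.1 ?_
  refine (diffIdeal_le_pow c.e φ ψ (hcomm c) (diffIdeal_le_map c.e φ ψ h) n).trans ?_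
  rw [← Ideal.map_pow, hn]
  simp

/-- Rigidity over a local ring, from the closed fibre. -/
lemma eq_of_mod_maximalIdeal [IsLocalRing R] (hA : IsMultType R A)
    (hC : IsNoetherianRing R ∨ Algebra.FiniteType R C)
    (hcomm : ∀ (c : Chart R A) (m : c.M), Commute (coefPull c.e φ m) (coefPull c.e ψ m))
    (h : ∀ x, φ x - ψ x ∈ Ideal.map (algebraMap R A) (IsLocalRing.maximalIdeal R)) :
    ∀ x, φ x = ψ x := by
  classical
  obtain ⟨c, hu⟩ := exists_ff_chart hA
  have := c.faithfullyFlat hu
  set K := diffIdeal c.e φ ψ with hK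
  set J := K.comap (algebraMap R c.R') with hJ
  have hKJ : K = J.map (algebraMap R c.R') := diffIdeal_eq_map_comap c.e φ ψ
  have hfg : J.FG := by
    rcases hC with hN | hF
    · exact IsNoetherian.noetherian J
    · obtain ⟨G, hG⟩ := fg_diffIdeal c.e φ ψ
      have hsub : ∀ g ∈ G, ∃ J0 : Ideal R, J0.FG ∧ J0 ≤ J ∧ g ∈ J0.map (algebraMap R c.R') := by
        intro g hg
        have hg' : g ∈ J.map (algebraMap R c.R') := by
          rw [← hKJ, hK, ← hG]; exact Ideal.subset_span hg
        obtain ⟨T, hT, hgT⟩ := Submodule.mem_span_finite_of_mem_span hg'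
        obtain ⟨T', hT', rfl⟩ := Finset.subset_set_image_iff.1 hT
        refine ⟨Ideal.span T', ⟨T', rfl⟩, Ideal.span_le.2 hT', ?_⟩
        rw [Ideal.map_span]
        simpa using hgT
      choose J0 h0 h1 h2 using hsub
      let J1 : Ideal R := ⨆ g : G, J0 g g.2
      have hJ1 : J1.FG := Submodule.fg_iSup _ fun g => h0 _ g.2
      have hle : J1 ≤ J := iSup_le fun g => h1 _ g.2
      have heq : K = J1.map (algebraMap R c.R') := by
        refine le_antisymm ?_ (hKJ ▸ Ideal.map_mono hle)
        rw [hK, ← hG]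
        exact Ideal.span_le.2 fun g hg =>
          Ideal.map_mono (le_iSup (fun g : G => J0 g g.2) ⟨g, hg⟩) (h2 g hg)
      rw [hJ, heq, Ideal.comap_map_eq_self_of_faithfullyFlat]
      exact hJ1
  have hidem : J ≤ IsLocalRing.maximalIdeal R • J := by
    have h1 : K ≤ (J * J).map (algebraMap R c.R') := by
      rw [Ideal.map_mul, ← hKJ]
      exact diffIdeal_le_sq c.e φ ψ (hcomm c)
    have h2 : J ≤ J * J := by
      conv_rhs => rw [← Ideal.comap_map_eq_self_of_faithfullyFlat (B := c.R') (J * J)]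
      exact Ideal.comap_mono h1
    have h3 : J ≤ IsLocalRing.maximalIdeal R := by
      conv_rhs => rw [← Ideal.comap_map_eq_self_of_faithfullyFlat (B := c.R') (IsLocalRing.maximalIdeal R)]
      exact Ideal.comap_mono (diffIdeal_le_map c.e φ ψ h)
    exact h2.trans (Ideal.mul_mono_left h3)
  have hJ0 : J = ⊥ := Submodule.eq_bot_of_le_smul_of_le_jacobson_bot _ J hfg hidem
    (IsLocalRing.maximalIdeal_le_jacobson _)
  intro x
  rw [← sub_eq_zero]
  refine c.eq_zero_of_isUnit hu (tmul_eq_zero c.e fun m => ?_)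
  rw [map_sub, ← Ideal.mem_bot, ← Ideal.map_bot (f := algebraMap R c.R'), ← hJ0, ← hKJ]
  exact mem_diffIdeal c.e φ ψ m x

end Groth.Agent.MultType
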