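import Groth.Agent.MultType.Cover
import Groth.Agent.MultType.Formal
import Groth.Agent.MultType.HenselLift
import Groth.Agent.HopfFF.Image

/-!
Faithfully flat descent of commutative Hopf algebras: from a descent datum on `S ⊗ B` to an
`R`-Hopf algebra `A` with `S ⊗ A ≅ S ⊗ B`.
-/

universe u

open TensorProduct
open scoped TensorProduct

namespace Groth.Agent.MultType.Descent

variable {R : Type u} [CommRing R] {S : Type u} [CommRing S] [Algebra R S]
  {A B : Type u} [CommRing A] [Algebra R A] [CommRing B] [Algebra R B]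
  {A₁ A₂ B₁ B₂ : Type u} [CommRing A₁] [Algebra R A₁] [CommRing A₂] [Algebra R A₂]
  [CommRing B₁] [Algebra R B₁] [CommRing B₂] [Algebra R B₂]

/-- The scalar extension of a map into `S ⊗ B`. -/
noncomputable def ext' (ι : A →ₐ[R] S ⊗[R] B) : S ⊗[R] A →ₐ[S] S ⊗[R] B :=
  Algebra.TensorProduct.lift (Algebra.ofId _ _) ι fun _ _ => Commute.all _ _

@[simp] lemma ext'_tmul (ι : A →ₐ[R] S ⊗[R] B) (s : S) (a : A) : ext' ι (s ⊗ₜ a) = s • ι a := by
  rw [ext', Algebra.TensorProduct.lift_tmul, Algebra.ofId_apply, ← Algebra.smul_def]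

/-- Extension of a map of algebras to `S`. -/
noncomputable abbrev mS (S : Type u) [CommRing S] [Algebra R S] (φ : A →ₐ[R] B) : S ⊗[R] A →ₐ[S] S ⊗[R] B :=
  Algebra.TensorProduct.map (AlgHom.id S S) φ

lemma mS_mS {C : Type u} [CommRing C] [Algebra R C] (φ : A →ₐ[R] B) (ψ : B →ₐ[R] C) (z : S ⊗[R] A) :
    mS S ψ (mS S φ z) = mS S (ψ.comp φ) z := by
  induction z using TensorProduct.induction_on with
  | zero => simp
  | tmul s a => simp
  | add a b ha hb => simp only [map_add, ha, hb]

/-- The map on a tensor product. -/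
noncomputable def pair (ι₁ : A₁ →ₐ[R] S ⊗[R] B₁) (ι₂ : A₂ →ₐ[R] S ⊗[R] B₂) :
    A₁ ⊗[R] A₂ →ₐ[R] S ⊗[R] (B₁ ⊗[R] B₂) :=
  Algebra.TensorProduct.lift (((mS S Algebra.TensorProduct.includeLeft).restrictScalars R).comp ι₁)
    (((mS S Algebra.TensorProduct.includeRight).restrictScalars R).comp ι₂) fun _ _ => Commute.all _ _

lemma pair_tmul (ι₁ : A₁ →ₐ[R] S ⊗[R] B₁) (ι₂ : A₂ →ₐ[R] S ⊗[R] B₂) (a : A₁) (b : A₂) :
    pair ι₁ ι₂ (a ⊗ₜ b) = mS S Algebra.TensorProduct.includeLeft (ι₁ a) *
      mS S Algebra.TensorProduct.includeRight (ι₂ b) :=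
  Algebra.TensorProduct.lift_tmul _ _ _ _ _

lemma ext'_pair_left (ι₁ : A₁ →ₐ[R] S ⊗[R] B₁) (ι₂ : A₂ →ₐ[R] S ⊗[R] B₂) (z : S ⊗[R] A₁) :
    ext' (pair ι₁ ι₂) (mS S Algebra.TensorProduct.includeLeft z) =
      mS S Algebra.TensorProduct.includeLeft (ext' ι₁ z) := by
  induction z using TensorProduct.induction_on with
  | zero => simp
  | tmul s a => simp [pair_tmul]
  | add a b ha hb => simp only [map_add, ha, hb]

lemma ext'_pair_right (ι₁ : A₁ →ₐ[R] S ⊗[R] B₁) (ι₂ : A₂ →ₐ[R] S ⊗[R] B₂) (z : S ⊗[R] A₂) :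
    ext' (pair ι₁ ι₂) (mS S Algebra.TensorProduct.includeRight z) =
      mS S Algebra.TensorProduct.includeRight (ext' ι₂ z) := by
  induction z using TensorProduct.induction_on with
  | zero => simp
  | tmul s a => simp [pair_tmul]
  | add a b ha hb => simp only [map_add, ha, hb]

lemma ext'_pair_ext'_pair (ι₁ : A₁ →ₐ[R] S ⊗[R] B₁) (ι₂ : A₂ →ₐ[R] S ⊗[R] B₂)
    (κ₁ : B₁ →ₐ[R] S ⊗[R] A₁) (κ₂ : B₂ →ₐ[R] S ⊗[R] A₂)
    (h₁ : ∀ z, ext' ι₁ (ext' κ₁ z) = z) (h₂ : ∀ z, ext' ι₂ (ext' κ₂ z) = z) (z : S ⊗[R] (B₁ ⊗[R] B₂)) :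
    ext' (pair ι₁ ι₂) (ext' (pair κ₁ κ₂) z) = z := by
  induction z using TensorProduct.induction_on with
  | zero => simp
  | add a b ha hb => simp only [map_add, ha, hb]
  | tmul s w =>
    induction w using TensorProduct.induction_on with
    | zero => simp
    | add a b ha hb => simp only [TensorProduct.tmul_add, map_add, ha, hb]
    | tmul b c =>
      have e1 : ι₁.comp (AlgHom.id R A₁) = ι₁ := rfl
      have hb := h₁ ((1 : S) ⊗ₜ b)
      have hc := h₂ ((1 : S) ⊗ₜ c)
      rw [ext'_tmul, one_smul] at hb hc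
      rw [ext'_tmul, pair_tmul, map_smul, map_mul, ext'_pair_left, ext'_pair_right, hb, hc]
      simp [TensorProduct.smul_tmul']

lemma exists_inv (ι : A →ₐ[R] S ⊗[R] B) (h : Function.Bijective (ext' ι)) :
    ∃ κ : B →ₐ[R] S ⊗[R] A, (∀ z, ext' ι (ext' κ z) = z) ∧ ∀ z, ext' κ (ext' ι z) = z := by
  let e := AlgEquiv.ofBijective (ext' ι) h
  let κ : B →ₐ[R] S ⊗[R] A := (e.symm.toAlgHom.restrictScalars R).comp Algebra.TensorProduct.includeRight
  have hκ : ∀ z, ext' κ z = e.symm z := by
    intro z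
    induction z using TensorProduct.induction_on with
    | zero => simp
    | add a b ha hb => simp only [map_add, ha, hb]
    | tmul s b =>
      rw [ext'_tmul, show κ b = e.symm ((1 : S) ⊗ₜ b) from rfl, ← map_smul, TensorProduct.smul_tmul',
        smul_eq_mul, mul_one]
  exact ⟨κ, fun z => by rw [hκ]; exact e.apply_symm_apply z, fun z => by rw [hκ]; exact e.symm_apply_apply z⟩

lemma pair_bijective (ι₁ : A₁ →ₐ[R] S ⊗[R] B₁) (ι₂ : A₂ →ₐ[R] S ⊗[R] B₂)
    (h₁ : Function.Bijective (ext' ι₁)) (h₂ : Function.Bijective (ext' ι₂)) :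
    Function.Bijective (ext' (pair ι₁ ι₂)) := by
  obtain ⟨κ₁, a₁, b₁⟩ := exists_inv ι₁ h₁
  obtain ⟨κ₂, a₂, b₂⟩ := exists_inv ι₂ h₂
  exact ⟨Function.LeftInverse.injective (ext'_pair_ext'_pair κ₁ κ₂ ι₁ ι₂ b₁ b₂),
    Function.RightInverse.surjective (ext'_pair_ext'_pair ι₁ ι₂ κ₁ κ₂ a₁ a₂)⟩

lemma injective_of_ext' [Module.FaithfullyFlat R S] (ι : A →ₐ[R] S ⊗[R] B) (h : Function.Bijective (ext' ι)) :
    Function.Injective ι := fun a b hab =>
  Module.FaithfullyFlat.tensorProduct_mk_injective (A := R) (B := S) A (h.1 (by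
    show ext' ι ((1 : S) ⊗ₜ a) = ext' ι ((1 : S) ⊗ₜ b)
    simp [hab]))

/-- Naturality of `pair`. -/
lemma pair_map {A₁' A₂' B₁' B₂' : Type u} [CommRing A₁'] [Algebra R A₁'] [CommRing A₂'] [Algebra R A₂']
    [CommRing B₁'] [Algebra R B₁'] [CommRing B₂'] [Algebra R B₂']
    (ι₁ : A₁ →ₐ[R] S ⊗[R] B₁) (ι₂ : A₂ →ₐ[R] S ⊗[R] B₂) (ι₁' : A₁' →ₐ[R] S ⊗[R] B₁') (ι₂' : A₂' →ₐ[R] S ⊗[R] B₂')
    (ψ₁ : A₁ →ₐ[R] A₁') (ψ₂ : A₂ →ₐ[R] A₂') (φ₁ : B₁ →ₐ[R] B₁') (φ₂ : B₂ →ₐ[R] B₂')
    (h₁ : ∀ a, ι₁' (ψ₁ a) = mS S φ₁ (ι₁ a)) (h₂ : ∀ a, ι₂' (ψ₂ a) = mS S φ₂ (ι₂ a)) (z : A₁ ⊗[R] A₂) :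
    pair ι₁' ι₂' (Algebra.TensorProduct.map ψ₁ ψ₂ z) = mS S (Algebra.TensorProduct.map φ₁ φ₂) (pair ι₁ ι₂ z) := by
  induction z using TensorProduct.induction_on with
  | zero => simp
  | add a b ha hb => simp only [map_add, ha, hb]
  | tmul a b =>
    rw [Algebra.TensorProduct.map_tmul, pair_tmul, pair_tmul, h₁, h₂, map_mul, mS_mS, mS_mS, mS_mS, mS_mS,
      Algebra.TensorProduct.map_comp_includeLeft, Algebra.TensorProduct.map_comp_includeRight]

lemma pair_assoc {A₃ B₃ : Type u} [CommRing A₃] [Algebra R A₃] [CommRing B₃] [Algebra R B₃]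
    (ι₁ : A₁ →ₐ[R] S ⊗[R] B₁) (ι₂ : A₂ →ₐ[R] S ⊗[R] B₂) (ι₃ : A₃ →ₐ[R] S ⊗[R] B₃)
    (z : (A₁ ⊗[R] A₂) ⊗[R] A₃) :
    pair ι₁ (pair ι₂ ι₃) (Algebra.TensorProduct.assoc R R R A₁ A₂ A₃ z) =
      mS S (Algebra.TensorProduct.assoc R R R B₁ B₂ B₃).toAlgHom (pair (pair ι₁ ι₂) ι₃ z) := by
  induction z using TensorProduct.induction_on with
  | zero => simp
  | add a b ha hb => simp only [map_add, ha, hb]
  | tmul w c =>
    induction w using TensorProduct.induction_on with
    | zero => simp
    | add a b ha hb => simp only [TensorProduct.add_tmul, map_add, ha, hb]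
    | tmul a b =>
      rw [Algebra.TensorProduct.assoc_tmul, pair_tmul, pair_tmul, pair_tmul, pair_tmul]
      simp only [map_mul, mS_mS, mul_assoc]
      congr 2

/-- Base change of a map into `S ⊗ B`. -/
lemma ext'_map {T : Type u} [CommRing T] [Algebra R T] (f : S →ₐ[R] T) (ι : A →ₐ[R] S ⊗[R] B) (z : S ⊗[R] A) :
    ext' ((Algebra.TensorProduct.map f (AlgHom.id R B)).comp ι) (Algebra.TensorProduct.map f (AlgHom.id R A) z) =
      Algebra.TensorProduct.map f (AlgHom.id R B) (ext' ι z) := by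
  induction z using TensorProduct.induction_on with
  | zero => simp
  | add a b ha hb => simp only [map_add, ha, hb]
  | tmul s a =>
    rw [Algebra.TensorProduct.map_tmul, ext'_tmul, ext'_tmul, AlgHom.comp_apply, AlgHom.id_apply]
    induction ι a using TensorProduct.induction_on with
    | zero => simp
    | add p q hp hq => simp only [smul_add, map_add, hp, hq]
    | tmul t b => simp [TensorProduct.smul_tmul']

lemma map_ext'_injective {T : Type u} [CommRing T] [Algebra R T] (f : S →ₐ[R] T) (ι : A →ₐ[R] S ⊗[R] B)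
    (h : Function.Bijective (ext' ι)) :
    Function.Injective (ext' ((Algebra.TensorProduct.map f (AlgHom.id R B)).comp ι)) := by
  obtain ⟨κ, -, hκ⟩ := exists_inv ι h
  refine Function.LeftInverse.injective (g := ext' ((Algebra.TensorProduct.map f (AlgHom.id R A)).comp κ)) ?_
  intro z
  induction z using TensorProduct.induction_on with
  | zero => simp
  | add a b ha hb => simp only [map_add, ha, hb]
  | tmul t a =>
    have h2 := hκ ((1 : S) ⊗ₜ a)
    rw [ext'_tmul, one_smul] at h2
    rw [ext'_tmul, map_smul, AlgHom.comp_apply, ext'_map, h2]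
    simp [TensorProduct.smul_tmul']

local notation "f₁" => (Algebra.TensorProduct.includeLeft : S →ₐ[R] S ⊗[R] S)
local notation "f₂" => (Algebra.TensorProduct.includeRight : S →ₐ[R] S ⊗[R] S)

/-- Descent of an element compatible with the descent datum. -/
lemma exists_eq [Module.FaithfullyFlat R S] (ι : A →ₐ[R] S ⊗[R] B) (h : Function.Bijective (ext' ι))
    (G : (S ⊗[R] S) ⊗[R] B →ₐ[S ⊗[R] S] (S ⊗[R] S) ⊗[R] B)
    (hG : ∀ a, G (Algebra.TensorProduct.map f₁ (AlgHom.id R B) (ι a)) =
      Algebra.TensorProduct.map f₂ (AlgHom.id R B) (ι a))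
    (y : S ⊗[R] B) (hy : G (Algebra.TensorProduct.map f₁ (AlgHom.id R B) y) =
      Algebra.TensorProduct.map f₂ (AlgHom.id R B) y) : ∃ a, ι a = y := by
  obtain ⟨z, rfl⟩ := h.2 y
  set m₁ := ext' ((Algebra.TensorProduct.map f₁ (AlgHom.id R B)).comp ι)
  set m₂ := ext' ((Algebra.TensorProduct.map f₂ (AlgHom.id R B)).comp ι)
  have hm : ∀ w, m₂ w = G (m₁ w) := by
    intro w
    induction w using TensorProduct.induction_on with
    | zero => simp
    | add a b ha hb => simp only [map_add, ha, hb]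
    | tmul t a => simp only [m₁, m₂, ext'_tmul, map_smul, AlgHom.comp_apply, hG]
  obtain ⟨a, rfl⟩ := exists_tmul_eq z (map_ext'_injective f₂ ι h (by
    show m₂ _ = m₂ _
    rw [hm, ext'_map, hy]
    exact (ext'_map _ ι z).symm))
  exact ⟨a, by simp⟩

/-- Descent of algebras: the equaliser of a descent datum splits over `S`. -/
theorem bijective_equalizer [Module.Flat R S] (g : B →ₐ[R] (S ⊗[R] S) ⊗[R] B)
    (hdiag : ∀ b, Algebra.TensorProduct.map (Algebra.TensorProduct.lmul' R : S ⊗[R] S →ₐ[R] S) (AlgHom.id R B)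
      (g b) = (1 : S) ⊗ₜ b)
    (hcoc : ∀ b,
      ext' ((Algebra.TensorProduct.map
          (Algebra.TensorProduct.includeRight : S ⊗[R] S →ₐ[R] S ⊗[R] (S ⊗[R] S)) (AlgHom.id R B)).comp g)
        (Algebra.TensorProduct.map
          (Algebra.TensorProduct.map (AlgHom.id R S) f₁ : S ⊗[R] S →ₐ[R] S ⊗[R] (S ⊗[R] S))
          (AlgHom.id R B) (g b)) =
      Algebra.TensorProduct.map
          (Algebra.TensorProduct.map (AlgHom.id R S) f₂ : S ⊗[R] S →ₐ[R] S ⊗[R] (S ⊗[R] S))
          (AlgHom.id R B) (g b)) :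
    Function.Bijective (ext' (AlgHom.equalizer (Algebra.TensorProduct.map f₂ (AlgHom.id R B))
      (((ext' g).restrictScalars R).comp (Algebra.TensorProduct.map f₁ (AlgHom.id R B)))).val) := by
  set u : S ⊗[R] B →ₐ[R] (S ⊗[R] S) ⊗[R] B := Algebra.TensorProduct.map f₂ (AlgHom.id R B)
  set v : S ⊗[R] B →ₐ[R] (S ⊗[R] S) ⊗[R] B :=
    ((ext' g).restrictScalars R).comp (Algebra.TensorProduct.map f₁ (AlgHom.id R B))
  set E := AlgHom.equalizer u v
  let asc : (S ⊗[R] S) ⊗[R] B ≃ₗ[R] S ⊗[R] (S ⊗[R] B) := TensorProduct.assoc R S S B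
  let ρ : S ⊗[R] B →ₗ[R] S ⊗[R] (S ⊗[R] B) := asc.toLinearMap ∘ₗ v.toLinearMap
  let lu : S ⊗[R] B →ₗ[R] (S ⊗[R] S) ⊗[R] B := u.toLinearMap - v.toLinearMap
  let ι : E →ₗ[R] S ⊗[R] B := E.val.toLinearMap
  have hex : Function.Exact ι lu := fun y => by
    constructor
    · intro hy
      exact ⟨⟨y, sub_eq_zero.1 (show u y - v y = 0 from hy)⟩, rfl⟩
    · rintro ⟨w, rfl⟩
      exact sub_eq_zero.2 w.2
  have hexS := Module.Flat.lTensor_exact S hex
  let μ : S ⊗[R] (S ⊗[R] B) →ₗ[R] S ⊗[R] B :=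
    (TensorProduct.map (LinearMap.mul' R S) LinearMap.id) ∘ₗ (TensorProduct.assoc R S S B).symm.toLinearMap
  have hμ : ∀ (s : S) (x : S ⊗[R] B), μ (s ⊗ₜ x) = s • x := by
    intro s x
    induction x using TensorProduct.induction_on with
    | zero => simp
    | add a b ha hb => simp only [TensorProduct.tmul_add, map_add, smul_add, ha, hb]
    | tmul t b => simp [μ, TensorProduct.smul_tmul']
  have hμE : ∀ w, μ (LinearMap.lTensor S ι w) = ext' E.val w := by
    intro w
    induction w using TensorProduct.induction_on with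
    | zero => simp
    | add a b ha hb => simp only [map_add, ha, hb]
    | tmul s e => rw [LinearMap.lTensor_tmul, hμ, ext'_tmul]; rfl
  have hμρ : ∀ y, μ (ρ y) = y := by
    intro y
    induction y using TensorProduct.induction_on with
    | zero => simp
    | add a b ha hb => simp only [map_add, ha, hb]
    | tmul s b =>
      show μ (asc (ext' g (f₁ s ⊗ₜ b))) = _
      rw [ext'_tmul]
      have h2 : ∀ (w : (S ⊗[R] S) ⊗[R] B), μ (asc (f₁ s • w)) =
          s • Algebra.TensorProduct.map (Algebra.TensorProduct.lmul' R : S ⊗[R] S →ₐ[R] S) (AlgHom.id R B) w := by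
        intro w
        induction w using TensorProduct.induction_on with
        | zero => simp
        | add a b ha hb => simp only [smul_add, map_add, ha, hb]
        | tmul t b =>
          induction t using TensorProduct.induction_on with
          | zero => simp
          | add a b ha hb => simp only [TensorProduct.add_tmul, smul_add, map_add, ha, hb]
          | tmul p q =>
            simp [asc, hμ, TensorProduct.smul_tmul', mul_assoc]
      rw [h2, hdiag, TensorProduct.smul_tmul', smul_eq_mul, mul_one]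
  have hρμ : ∀ w, ρ (ext' E.val w) = LinearMap.lTensor S ι w := by
    intro w
    induction w using TensorProduct.induction_on with
    | zero => simp
    | add a b ha hb => simp only [map_add, ha, hb]
    | tmul s e =>
      rw [ext'_tmul, LinearMap.lTensor_tmul]
      have h1 : v (s • (e : S ⊗[R] B)) = f₁ s • u e := by
        rw [show u (e : S ⊗[R] B) = v e from e.2]
        show ext' g (Algebra.TensorProduct.map f₁ (AlgHom.id R B) (s • (e : S ⊗[R] B))) = f₁ s • ext' g _
        rw [← map_smul]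
        congr 1
        induction (e : S ⊗[R] B) using TensorProduct.induction_on with
        | zero => simp
        | add a b ha hb => simp only [smul_add, map_add, ha, hb]
        | tmul t b => simp [TensorProduct.smul_tmul']
      show asc (v (s • (e : S ⊗[R] B))) = s ⊗ₜ ι e
      rw [h1, show ι e = (e : S ⊗[R] B) from rfl]
      induction (e : S ⊗[R] B) using TensorProduct.induction_on with
      | zero => simp
      | add a b ha hb => simp only [map_add, smul_add, TensorProduct.tmul_add, ha, hb]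
      | tmul t b => simp [asc, u, TensorProduct.smul_tmul']
  refine ⟨?_, fun y => ?_⟩
  · rw [injective_iff_map_eq_zero]
    intro w hw
    refine Module.Flat.lTensor_preserves_injective_linearMap ι Subtype.val_injective ?_
    rw [← hρμ, hw, map_zero, map_zero]
  · suffices hker : LinearMap.lTensor S lu (ρ y) = 0 by
      obtain ⟨w, hw⟩ := (hexS (ρ y)).1 hker
      exact ⟨w, by rw [← hμE, hw, hμρ]⟩
    let Φ := (TensorProduct.assoc R S (S ⊗[R] S) B).symm
    apply Φ.injective
    rw [map_zero]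
    let p01 : S ⊗[R] S →ₐ[R] S ⊗[R] (S ⊗[R] S) := Algebra.TensorProduct.map (AlgHom.id R S) f₁
    let p02 : S ⊗[R] S →ₐ[R] S ⊗[R] (S ⊗[R] S) := Algebra.TensorProduct.map (AlgHom.id R S) f₂
    let g12 := (Algebra.TensorProduct.map
          (Algebra.TensorProduct.includeRight : S ⊗[R] S →ₐ[R] S ⊗[R] (S ⊗[R] S)) (AlgHom.id R B)).comp g
    have h02 : ∀ z, Φ (LinearMap.lTensor S u.toLinearMap (asc z)) =
        Algebra.TensorProduct.map p02 (AlgHom.id R B) z := by
      intro z
      induction z using TensorProduct.induction_on with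
      | zero => simp
      | add a b ha hb => simp only [map_add, ha, hb]
      | tmul t b =>
        induction t using TensorProduct.induction_on with
        | zero => simp
        | add a b ha hb => simp only [TensorProduct.add_tmul, map_add, ha, hb]
        | tmul p q => simp [asc, u, Φ, p02]
    have h12 : ∀ z, Φ (LinearMap.lTensor S v.toLinearMap (asc z)) =
        ext' g12 (Algebra.TensorProduct.map p01 (AlgHom.id R B) z) := by
      intro z
      induction z using TensorProduct.induction_on with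
      | zero => simp
      | add a b ha hb => simp only [map_add, ha, hb]
      | tmul t b =>
        induction t using TensorProduct.induction_on with
        | zero => simp
        | add a b ha hb => simp only [TensorProduct.add_tmul, map_add, ha, hb]
        | tmul p q =>
          rw [Algebra.TensorProduct.map_tmul, ext'_tmul]
          show Φ (p ⊗ₜ v (q ⊗ₜ b)) = _
          show Φ (p ⊗ₜ ext' g (f₁ q ⊗ₜ b)) = _
          rw [ext'_tmul]
          show _ = p01 (p ⊗ₜ q) • Algebra.TensorProduct.map _ (AlgHom.id R B) (g b)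
          induction g b using TensorProduct.induction_on with
          | zero => simp
          | add a b ha hb => simp only [smul_add, TensorProduct.tmul_add, map_add, ha, hb]
          | tmul t' b' => simp [Φ, p01, TensorProduct.smul_tmul']
    show Φ (LinearMap.lTensor S lu (asc (v y))) = 0
    rw [show lu = u.toLinearMap - v.toLinearMap from rfl, LinearMap.lTensor_sub, LinearMap.sub_apply, map_sub,
      h02, h12, sub_eq_zero]
    induction y using TensorProduct.induction_on with
    | zero => simp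
    | add a b ha hb => simp only [map_add, ha, hb]
    | tmul s b =>
      have hv : v (s ⊗ₜ[R] b) = f₁ s • g b := by
        show ext' g (f₁ s ⊗ₜ b) = _
        rw [ext'_tmul]
      have hsm : ∀ (p : S ⊗[R] S →ₐ[R] S ⊗[R] (S ⊗[R] S)) (t : S ⊗[R] S) (w : (S ⊗[R] S) ⊗[R] B),
          Algebra.TensorProduct.map p (AlgHom.id R B) (t • w) = p t • Algebra.TensorProduct.map p (AlgHom.id R B) w := by
        intro p t w
        induction w using TensorProduct.induction_on with
        | zero => simp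
        | add a b ha hb => simp only [smul_add, map_add, ha, hb]
        | tmul t' b' => simp [TensorProduct.smul_tmul']
      rw [hv, hsm, hsm, map_smul, hcoc]
      simp [p01, p02, Algebra.TensorProduct.one_def]

end Groth.Agent.MultType.Descent
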