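import Groth.Agent.MultType.Descent

/-!
Faithfully flat descent of Hopf algebras.
-/

universe u

open TensorProduct
open scoped TensorProduct

namespace Groth.Agent.MultType.Descent

variable {R : Type u} [CommRing R] {S : Type u} [CommRing S] [Algebra R S]

local notation "f₁" => (Algebra.TensorProduct.includeLeft : S →ₐ[R] S ⊗[R] S)
local notation "f₂" => (Algebra.TensorProduct.includeRight : S →ₐ[R] S ⊗[R] S)

lemma map_mS {B C : Type u} [CommRing B] [Algebra R B] [CommRing C] [Algebra R C] {T : Type u} [CommRing T]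
    [Algebra R T] (f : S →ₐ[R] T) (φ : B →ₐ[R] C) (y : S ⊗[R] B) :
    Algebra.TensorProduct.map f (AlgHom.id R C) (mS S φ y) = mS T φ (Algebra.TensorProduct.map f (AlgHom.id R B) y) := by
  induction y using TensorProduct.induction_on with
  | zero => simp
  | tmul s a => simp
  | add a b ha hb => simp only [map_add, ha, hb]

/-- Descent data for two algebras give one for their tensor product. -/
lemma pair_datum {A₁ A₂ B₁ B₂ : Type u} [CommRing A₁] [Algebra R A₁] [CommRing A₂] [Algebra R A₂]
    [CommRing B₁] [Algebra R B₁] [CommRing B₂] [Algebra R B₂] {T : Type u} [CommRing T] [Algebra R T]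
    (f f' : S →ₐ[R] T) (g₁ : B₁ →ₐ[R] T ⊗[R] B₁) (g₂ : B₂ →ₐ[R] T ⊗[R] B₂)
    (ι₁ : A₁ →ₐ[R] S ⊗[R] B₁) (ι₂ : A₂ →ₐ[R] S ⊗[R] B₂)
    (h₁ : ∀ a, ext' g₁ (Algebra.TensorProduct.map f (AlgHom.id R B₁) (ι₁ a)) =
      Algebra.TensorProduct.map f' (AlgHom.id R B₁) (ι₁ a))
    (h₂ : ∀ a, ext' g₂ (Algebra.TensorProduct.map f (AlgHom.id R B₂) (ι₂ a)) =
      Algebra.TensorProduct.map f' (AlgHom.id R B₂) (ι₂ a)) (w : A₁ ⊗[R] A₂) :
    ext' (pair g₁ g₂) (Algebra.TensorProduct.map f (AlgHom.id R _) (pair ι₁ ι₂ w)) =
      Algebra.TensorProduct.map f' (AlgHom.id R _) (pair ι₁ ι₂ w) := by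
  induction w using TensorProduct.induction_on with
  | zero => simp
  | add a b ha hb => simp only [map_add, ha, hb]
  | tmul a b =>
    simp only [pair_tmul, map_mul, map_mS, ext'_pair_left, ext'_pair_right, h₁, h₂]

variable {B : Type u} [CommRing B] [HopfAlgebra R B]

set_option maxHeartbeats 800000 in
/-- Hopf algebra structure on a descended algebra. -/
theorem exists_hopf [Module.FaithfullyFlat R S] (g : B →ₐ[R] (S ⊗[R] S) ⊗[R] B) (hg : Compat g)
    {A : Type u} [CommRing A] [Algebra R A] (ι : A →ₐ[R] S ⊗[R] B) (h : Function.Bijective (ext' ι))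
    (hι : ∀ a, ext' g (Algebra.TensorProduct.map f₁ (AlgHom.id R B) (ι a)) =
      Algebra.TensorProduct.map f₂ (AlgHom.id R B) (ι a)) :
    ∃ (A' : Type u) (_ : CommRing A') (_ : HopfAlgebra R A') (e : S ⊗[R] A' ≃ₐc[S] S ⊗[R] B),
      ∀ a, ext' g (Algebra.TensorProduct.map f₁ (AlgHom.id R B) (e ((1 : S) ⊗ₜ a))) =
        Algebra.TensorProduct.map f₂ (AlgHom.id R B) (e ((1 : S) ⊗ₜ a)) := by
  let T := S ⊗[R] S
  obtain ⟨Gb, hGb⟩ := hg.exists_bialgHom
  have hG : ∀ z, Gb z = ext' g z := by
    intro z
    induction z using TensorProduct.induction_on with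
    | zero => simp
    | add a b ha hb => simp only [map_add, ha, hb]
    | tmul t b =>
      rw [ext'_tmul, ← hGb, ← map_smul, TensorProduct.smul_tmul', smul_eq_mul, mul_one]
  -- comultiplication
  let G2 : T ⊗[R] (B ⊗[R] B) →ₐ[T] T ⊗[R] (B ⊗[R] B) := ext' (pair g g)
  let ι2 := pair ι ι
  have h2 : Function.Bijective (ext' ι2) := pair_bijective ι ι h h
  have hG2 : ∀ w, G2 (Algebra.TensorProduct.map f₁ (AlgHom.id R _) (ι2 w)) =
      Algebra.TensorProduct.map f₂ (AlgHom.id R _) (ι2 w) := pair_datum f₁ f₂ g g ι ι hι hι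
  have hj : ∀ z : T ⊗[R] B, G2 (mS T (Bialgebra.comulAlgHom R B) z) = mS T (Bialgebra.comulAlgHom R B) (ext' g z) := by
    intro z
    induction z using TensorProduct.induction_on with
    | zero => simp
    | add a b ha hb => simp only [map_add, ha, hb]
    | tmul t b =>
      rw [Algebra.TensorProduct.map_tmul]
      simp only [G2, ext'_tmul, map_smul, AlgHom.id_apply]
      exact congrArg (t • ·) (hg b)
  have hΔ : ∀ a, ∃ w, ι2 w = mS S (Bialgebra.comulAlgHom R B) (ι a) := fun a =>
    exists_eq ι2 h2 G2 hG2 _ (by rw [map_mS, map_mS, hj, hι])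
  choose Δf hΔf using hΔ
  have inj2 := injective_of_ext' ι2 h2
  let ΔA : A →ₐ[R] A ⊗[R] A :=
    { toFun := Δf
      map_one' := inj2 (by simp only [hΔf, map_one])
      map_mul' := fun a b => inj2 (by simp only [hΔf, map_mul])
      map_zero' := inj2 (by simp only [hΔf, map_zero])
      map_add' := fun a b => inj2 (by simp only [hΔf, map_add])
      commutes' := fun r => inj2 (by simp only [hΔf, AlgHom.commutes]; simp) }
  have hΔA : ∀ a, ι2 (ΔA a) = mS S (Bialgebra.comulAlgHom R B) (ι a) := hΔf
  -- counit
  let ιR : R →ₐ[R] S ⊗[R] R := Algebra.ofId R _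
  have hR : Function.Bijective (ext' ιR) := by
    have : ext' ιR = AlgHom.id S (S ⊗[R] R) := by
      ext
    rw [this]; exact Function.bijective_id
  let GR : T ⊗[R] R →ₐ[T] T ⊗[R] R := AlgHom.id T _
  have hGR : ∀ r, GR (Algebra.TensorProduct.map f₁ (AlgHom.id R R) (ιR r)) =
      Algebra.TensorProduct.map f₂ (AlgHom.id R R) (ιR r) := fun r => by
    simp only [GR, ιR, AlgHom.id_apply, Algebra.ofId_apply, AlgHom.commutes]
  have hjε : ∀ z : T ⊗[R] B, mS T (Bialgebra.counitAlgHom R B) (ext' g z) = mS T (Bialgebra.counitAlgHom R B) z := by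
    intro z
    have e : ∀ w : T ⊗[R] B, mS T (Bialgebra.counitAlgHom R B) w =
        algebraMap T (T ⊗[R] R) (Coalgebra.counit (R := T) w) := by
      intro w
      induction w using TensorProduct.induction_on with
      | zero => simp
      | add a b ha hb => simp only [map_add, ha, hb]
      | tmul t b =>
        simp [TensorProduct.tmul_smul, TensorProduct.smul_tmul']
        rw [TensorProduct.smul_tmul, smul_eq_mul, mul_one]
    rw [e, e, ← hG, CoalgHomClass.counit_comp_apply]
  have hε : ∀ a, ∃ r, ιR r = mS S (Bialgebra.counitAlgHom R B) (ι a) := fun a =>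
    exists_eq ιR hR GR hGR _ (by rw [map_mS, map_mS, ← hι, hjε]; rfl)
  choose εf hεf using hε
  have injR := injective_of_ext' ιR hR
  let εA : A →ₐ[R] R :=
    { toFun := εf
      map_one' := injR (by simp only [hεf, map_one])
      map_mul' := fun a b => injR (by simp only [hεf, map_mul])
      map_zero' := injR (by simp only [hεf, map_zero])
      map_add' := fun a b => injR (by simp only [hεf, map_add])
      commutes' := fun r => injR (by simp only [hεf, AlgHom.commutes]; simp) }
  have hεA : ∀ a, ιR (εA a) = mS S (Bialgebra.counitAlgHom R B) (ι a) := hεf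
  have hid : ∀ a : A, ι (AlgHom.id R A a) = mS S (AlgHom.id R B) (ι a) := fun a => by
    simp [mS, Algebra.TensorProduct.map_id]
  -- axioms
  letI : Bialgebra R A := Bialgebra.ofAlgHom ΔA εA
    (AlgHom.ext fun a => injective_of_ext' (pair ι (pair ι ι)) (pair_bijective _ _ h h2) (by
      show pair ι (pair ι ι) (Algebra.TensorProduct.assoc R R R A A A (Algebra.TensorProduct.map ΔA (AlgHom.id R A) (ΔA a))) =
        pair ι (pair ι ι) (Algebra.TensorProduct.map (AlgHom.id R A) ΔA (ΔA a))
      rw [pair_assoc, pair_map ι ι ι2 ι ΔA _ (Bialgebra.comulAlgHom R B) (AlgHom.id R B) hΔA hid,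
        pair_map ι ι ι ι2 _ ΔA (AlgHom.id R B) (Bialgebra.comulAlgHom R B) hid hΔA, hΔA, mS_mS, mS_mS, mS_mS]
      congr 2
      exact AlgHom.ext fun b => Coalgebra.coassoc_apply b))
    (AlgHom.ext fun a => injective_of_ext' (pair ιR ι) (pair_bijective _ _ hR h) (by
      show pair ιR ι (Algebra.TensorProduct.map εA (AlgHom.id R A) (ΔA a)) = pair ιR ι ((1 : R) ⊗ₜ a)
      rw [pair_map ι ι ιR ι εA _ (Bialgebra.counitAlgHom R B) (AlgHom.id R B) hεA hid, hΔA, mS_mS, pair_tmul,
        map_one, map_one, one_mul]
      congr 2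
      exact AlgHom.ext fun b => Coalgebra.rTensor_counit_comul b))
    (AlgHom.ext fun a => injective_of_ext' (pair ι ιR) (pair_bijective _ _ h hR) (by
      show pair ι ιR (Algebra.TensorProduct.map (AlgHom.id R A) εA (ΔA a)) = pair ι ιR (a ⊗ₜ (1 : R))
      rw [pair_map ι ι ι ιR _ εA (AlgHom.id R B) (Bialgebra.counitAlgHom R B) hid hεA, hΔA, mS_mS, pair_tmul,
        map_one, map_one, mul_one]
      congr 2
      exact AlgHom.ext fun b => Coalgebra.lTensor_counit_comul b))
  -- antipode
  have hσ : ∀ z : T ⊗[R] B, HopfAlgebra.antipode T z = mS T (HopfAlgebra.antipodeAlgHom R B) z := by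
    intro z
    induction z using TensorProduct.induction_on with
    | zero => simp
    | add a b ha hb => simp only [map_add, ha, hb]
    | tmul t b => simp [TensorProduct.antipode_def]
  have hS : ∀ a, ∃ b, ι b = mS S (HopfAlgebra.antipodeAlgHom R B) (ι a) := fun a =>
    exists_eq ι h (ext' g) hι _ (by
      rw [map_mS, map_mS, ← hι, ← hσ, ← hσ, ← hG, ← hG, HopfFF.map_antipode'])
  choose σf hσf using hS
  have inj := injective_of_ext' ι h
  let σA : A →ₐ[R] A :=
    { toFun := σf
      map_one' := inj (by simp only [hσf, map_one])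
      map_mul' := fun a b => inj (by simp only [hσf, map_mul])
      map_zero' := inj (by simp only [hσf, map_zero])
      map_add' := fun a b => inj (by simp only [hσf, map_add])
      commutes' := fun r => inj (by simp only [hσf, AlgHom.commutes]; simp) }
  have hσA : ∀ a, ι (σA a) = mS S (HopfAlgebra.antipodeAlgHom R B) (ι a) := hσf
  have hmul : ∀ w : A ⊗[R] A, ι (Algebra.TensorProduct.lmul' R w) =
      mS S (Algebra.TensorProduct.lmul' R) (ι2 w) := by
    intro w
    induction w using TensorProduct.induction_on with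
    | zero => simp
    | add a b ha hb => simp only [map_add, ha, hb]
    | tmul a b =>
      simp only [ι2, pair_tmul, map_mul, mS_mS, Algebra.TensorProduct.lmul'_comp_includeLeft,
        Algebra.TensorProduct.lmul'_comp_includeRight, Algebra.TensorProduct.lmul'_apply_tmul, ← hid]
      simp
  have hεB : ∀ a, ι (algebraMap R A (εA a)) = mS S ((Algebra.ofId R B).comp (Bialgebra.counitAlgHom R B)) (ι a) := by
    intro a
    rw [← mS_mS, ← hεA, AlgHom.commutes]
    simp [ιR]
  letI : HopfAlgebra R A :=
    { (inferInstance : Bialgebra R A) with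
      antipode := σA.toLinearMap
      mul_antipode_rTensor_comul := LinearMap.ext fun a => inj (by
        have e : ∀ w : A ⊗[R] A, LinearMap.mul' R A (σA.toLinearMap.rTensor A w) =
            Algebra.TensorProduct.lmul' R (Algebra.TensorProduct.map σA (AlgHom.id R A) w) := by
          intro w
          induction w using TensorProduct.induction_on with
          | zero => simp
          | add a b ha hb => simp only [map_add, ha, hb]
          | tmul a b => simp
        show ι (LinearMap.mul' R A (σA.toLinearMap.rTensor A (ΔA a))) = ι (algebraMap R A (εA a))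
        rw [e, hmul, pair_map ι ι ι ι σA _ (HopfAlgebra.antipodeAlgHom R B) (AlgHom.id R B) hσA hid, hΔA,
          mS_mS, mS_mS, hεB]
        congr 2
        refine AlgHom.ext fun b => ?_
        show Algebra.TensorProduct.lmul' R (Algebra.TensorProduct.map (HopfAlgebra.antipodeAlgHom R B)
          (AlgHom.id R B) (Coalgebra.comul b)) = algebraMap R B (Coalgebra.counit b)
        rw [← HopfAlgebra.mul_antipode_rTensor_comul_apply b]
        induction Coalgebra.comul (R := R) b using TensorProduct.induction_on with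
        | zero => simp
        | add a b ha hb => simp only [map_add, ha, hb]
        | tmul a b => simp)
      mul_antipode_lTensor_comul := LinearMap.ext fun a => inj (by
        have e : ∀ w : A ⊗[R] A, LinearMap.mul' R A (σA.toLinearMap.lTensor A w) =
            Algebra.TensorProduct.lmul' R (Algebra.TensorProduct.map (AlgHom.id R A) σA w) := by
          intro w
          induction w using TensorProduct.induction_on with
          | zero => simp
          | add a b ha hb => simp only [map_add, ha, hb]
          | tmul a b => simp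
        show ι (LinearMap.mul' R A (σA.toLinearMap.lTensor A (ΔA a))) = ι (algebraMap R A (εA a))
        rw [e, hmul, pair_map ι ι ι ι _ σA (AlgHom.id R B) (HopfAlgebra.antipodeAlgHom R B) hid hσA, hΔA,
          mS_mS, mS_mS, hεB]
        congr 2
        refine AlgHom.ext fun b => ?_
        show Algebra.TensorProduct.lmul' R (Algebra.TensorProduct.map (AlgHom.id R B)
          (HopfAlgebra.antipodeAlgHom R B) (Coalgebra.comul b)) = algebraMap R B (Coalgebra.counit b)
        rw [← HopfAlgebra.mul_antipode_lTensor_comul_apply b]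
        induction Coalgebra.comul (R := R) b using TensorProduct.induction_on with
        | zero => simp
        | add a b ha hb => simp only [map_add, ha, hb]
        | tmul a b => simp) }
  have hc : Compat ι := fun a => hΔA a
  obtain ⟨E, hE⟩ := hc.exists_bialgHom
  have hE' : ∀ z, E z = ext' ι z := by
    intro z
    induction z using TensorProduct.induction_on with
    | zero => simp
    | add a b ha hb => simp only [map_add, ha, hb]
    | tmul s b =>
      rw [ext'_tmul, ← hE, ← map_smul, TensorProduct.smul_tmul', smul_eq_mul, mul_one]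
  refine ⟨A, inferInstance, inferInstance, BialgEquiv.ofBijective E
    (by rw [show (⇑E) = ⇑(ext' ι) from funext hE']; exact h), fun a => ?_⟩
  show ext' g (Algebra.TensorProduct.map f₁ (AlgHom.id R B) (E ((1 : S) ⊗ₜ a))) =
    Algebra.TensorProduct.map f₂ (AlgHom.id R B) (E ((1 : S) ⊗ₜ a))
  rw [hE]
  exact hι a

end Groth.Agent.MultType.Descent
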