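import Groth.Agent.MultType.Lift

/-!
Lifting of group homomorphisms along nilpotent ideals.
-/

universe u v

open TensorProduct WithConv SGA3b
open scoped TensorProduct

namespace Groth.Agent.MultType

variable {R : Type u} [CommRing R] {C : Type u} [CommRing C] [HopfAlgebra R C]
  {A : Type u} [CommRing A] [Bialgebra R A]

/-- An algebra map without defect is a bialgebra map. -/
lemma exists_bialgHom_of_defect {φ : C →ₐ[R] A} (h : DefectLE (⊥ : Ideal R) φ) :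
    ∃ ψ : C →ₐc[R] A, ∀ c, ψ c = φ c := by
  have h' : ∀ c, Algebra.TensorProduct.map φ φ (Coalgebra.comul c) = Coalgebra.comul (φ c) := fun c => by
    have := h c
    rwa [Ideal.map_bot, Ideal.mem_bot, sub_eq_zero] at this
  let e : C →ₐ[R] R := (Bialgebra.counitAlgHom R A).comp φ
  have he : pt e * pt e = pt e := by
    refine WithConv.ext (LinearMap.ext fun c => ?_)
    rw [(Coalgebra.Repr.arbitrary R c).convMul_apply]
    let μ : A ⊗[R] A →ₐ[R] R := Algebra.TensorProduct.lift (Bialgebra.counitAlgHom R A)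
      (Bialgebra.counitAlgHom R A) fun _ _ => Commute.all _ _
    have h1 := congr(μ $(h' c))
    rw [← (Coalgebra.Repr.arbitrary R c).eq, map_sum, map_sum] at h1
    refine Eq.trans ?_ (h1.trans ?_)
    · simp [μ, e, pt]
    · show μ (Coalgebra.comul (φ c)) = Coalgebra.counit (φ c)
      rw [← (Coalgebra.Repr.arbitrary R (φ c)).eq, map_sum]
      simp only [μ, Algebra.TensorProduct.lift_tmul, Bialgebra.counitAlgHom_apply]
      conv_rhs => rw [← Coalgebra.sum_counit_smul (Coalgebra.Repr.arbitrary R (φ c)), map_sum]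
      simp
  have he1 : pt e = 1 := by
    calc pt e = ptInv e * (pt e * pt e) := by rw [← mul_assoc, ptInv_mul, _root_.one_mul]
      _ = 1 := by rw [he, ptInv_mul]
  refine ⟨BialgHom.ofAlgHom φ (AlgHom.ext fun c => ?_) (AlgHom.ext h'), fun c => rfl⟩
  exact congr($he1 c)

/-- Lifting along a nilpotent ideal. -/
theorem exists_bialgHom_mod [Algebra.FormallySmooth R C]
    {J : Ideal R} (hJ : IsNilpotent J)
    (hl : ∀ k, ∃ l : A →ₗ[R] R, l 1 = 1 ∧ IsRightIntMod (J ^ k) l)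
    (φ : C →ₐ[R] A) (hφ : DefectLE J φ) :
    ∃ ψ : C →ₐc[R] A, ∀ c, ψ c - φ c ∈ Ideal.map (algebraMap R A) J := by
  obtain ⟨N, hN⟩ := hJ
  have key : ∀ k : ℕ, ∃ ψ : C →ₐ[R] A, DefectLE (J ^ 2 ^ k) ψ ∧
      ∀ c, ψ c - φ c ∈ Ideal.map (algebraMap R A) J := by
    intro k
    induction k with
    | zero => exact ⟨φ, by simpa using hφ, fun c => by rw [sub_self]; exact Submodule.zero_mem _⟩
    | succ k ih =>
      obtain ⟨ψ, hψ, hψφ⟩ := ih
      obtain ⟨l, h1, hr⟩ := hl (2 ^ k)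
      obtain ⟨ψ', hψ', hψ'ψ⟩ := exists_step l h1
        (J := J ^ 2 ^ k) hr ⟨N, by rw [← pow_mul, mul_comm, pow_mul, hN]; exact zero_pow (by positivity)⟩ ψ hψ
      refine ⟨ψ', by rwa [← pow_add, ← two_mul, ← pow_succ'] at hψ', fun c => ?_⟩
      have h2 : ψ' c - ψ c ∈ Ideal.map (algebraMap R A) J :=
        Ideal.map_mono (Ideal.pow_le_self (by positivity)) (hψ'ψ c)
      simpa using Ideal.add_mem _ h2 (hψφ c)
  obtain ⟨ψ, hψ, hψφ⟩ := key N
  have hle : J ^ 2 ^ N = (⊥ : Ideal R) :=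
    le_bot_iff.1 ((Ideal.pow_le_pow_right Nat.lt_two_pow_self.le).trans_eq hN)
  rw [hle] at hψ
  obtain ⟨χ, hχ⟩ := exists_bialgHom_of_defect hψ
  exact ⟨χ, fun c => by rw [hχ]; exact hψφ c⟩

/-- Lifting along a nilpotent ideal. -/
theorem exists_bialgHom [Algebra.FormallySmooth R C] (l : A →ₗ[R] R) (h1 : l 1 = 1) (hr : IsRightInt l)
    {J : Ideal R} (hJ : IsNilpotent J) (φ : C →ₐ[R] A) (hφ : DefectLE J φ) :
    ∃ ψ : C →ₐc[R] A, ∀ c, ψ c - φ c ∈ Ideal.map (algebraMap R A) J :=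
  exists_bialgHom_mod hJ (fun _ => ⟨l, h1, hr.isRightIntMod _⟩) φ hφ

/-- An algebra map inducing a given bialgebra map modulo `I`. -/
lemma exists_algHom_defect {I : Ideal R} [Algebra.FormallySmooth R C] (hI : IsNilpotent I)
    (φ₀ : ((R ⧸ I) ⊗[R] C) →ₐc[R ⧸ I] ((R ⧸ I) ⊗[R] A)) :
    ∃ φ : C →ₐ[R] A, DefectLE I φ ∧ ∀ c, φ₀ ((1 : R ⧸ I) ⊗ₜ[R] c) = (1 : R ⧸ I) ⊗ₜ[R] (φ c) := by
  set K := Ideal.map (algebraMap R A) I with hK
  let θ : A →ₐ[R] (R ⧸ I) ⊗[R] A := Algebra.TensorProduct.includeRight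
  have hθs : Function.Surjective θ := by
    intro z
    induction z using TensorProduct.induction_on with
    | zero => exact ⟨0, map_zero θ⟩
    | tmul q a =>
      obtain ⟨r, rfl⟩ := Ideal.Quotient.mk_surjective q
      refine ⟨r • a, ?_⟩
      show (1 : R ⧸ I) ⊗ₜ[R] (r • a) = _
      rw [TensorProduct.tmul_smul, TensorProduct.smul_tmul', Algebra.smul_def, _root_.mul_one]
      rfl
    | add x y hx hy =>
      obtain ⟨a, rfl⟩ := hx
      obtain ⟨b, rfl⟩ := hy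
      exact ⟨a + b, map_add θ a b⟩
  have hker : RingHom.ker θ = K := by
    ext x
    have e : θ x = (1 : R ⧸ I) ⊗ₜ[R] x := rfl
    rw [RingHom.mem_ker, e, ← (TensorProduct.quotTensorEquivQuotSMul A I).map_eq_zero_iff,
      TensorProduct.quotTensorEquivQuotSMul_mk_one_tmul, Submodule.Quotient.mk_eq_zero, Ideal.smul_top_eq_map]
    rfl
  have hnil : IsNilpotent (RingHom.ker θ) := by
    rw [hker]
    obtain ⟨n, hn⟩ := hI
    refine ⟨n, ?_⟩
    rw [hK, ← Ideal.map_pow, hn]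
    simp
  let g : C →ₐ[R] (R ⧸ I) ⊗[R] A :=
    ((φ₀ : ((R ⧸ I) ⊗[R] C) →ₐ[R ⧸ I] ((R ⧸ I) ⊗[R] A)).restrictScalars R).comp
      Algebra.TensorProduct.includeRight
  let φ : C →ₐ[R] A := Algebra.FormallySmooth.liftOfSurjective g θ hθs hnil
  have hφ : ∀ c, φ₀ ((1 : R ⧸ I) ⊗ₜ[R] c) = (1 : R ⧸ I) ⊗ₜ[R] (φ c) := fun c =>
    (congr($(Algebra.FormallySmooth.comp_liftOfSurjective g θ hθs hnil) c)).symm
  refine ⟨φ, fun c => ?_, hφ⟩
  let S := R ⧸ I
  let κ : (S ⊗[R] A) ⊗[S] (S ⊗[R] A) →ₗ[R] S ⊗[R] (A ⊗[R] A) :=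
    (TensorProduct.assoc R S A A).toLinearMap ∘ₗ
      ((TensorProduct.AlgebraTensorModule.cancelBaseChange R S S (S ⊗[R] A) A).toLinearMap.restrictScalars R)
  have hκ : ∀ a b : A, κ (((1 : S) ⊗ₜ[R] a) ⊗ₜ[S] ((1 : S) ⊗ₜ[R] b)) = (1 : S) ⊗ₜ[R] (a ⊗ₜ[R] b) := fun a b => by
    simp [κ]
  have e1 : κ (Coalgebra.comul (R := S) (φ₀ ((1 : S) ⊗ₜ[R] c))) =
      (1 : S) ⊗ₜ[R] Coalgebra.comul (φ c) := by
    rw [hφ, TensorProduct.comul_tmul, CommSemiring.comul_apply, ← (Coalgebra.Repr.arbitrary R (φ c)).eq]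
    simp only [TensorProduct.tmul_sum, map_sum, TensorProduct.AlgebraTensorModule.tensorTensorTensorComm_tmul, hκ]
  have e2 : κ (Coalgebra.comul (R := S) (φ₀ ((1 : S) ⊗ₜ[R] c))) =
      (1 : S) ⊗ₜ[R] Algebra.TensorProduct.map φ φ (Coalgebra.comul c) := by
    rw [← CoalgHomClass.map_comp_comul_apply φ₀, TensorProduct.comul_tmul, CommSemiring.comul_apply,
      ← (Coalgebra.Repr.arbitrary R c).eq]
    simp only [TensorProduct.tmul_sum, map_sum, TensorProduct.AlgebraTensorModule.tensorTensorTensorComm_tmul,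
      TensorProduct.map_tmul, Algebra.TensorProduct.map_tmul]
    refine Finset.sum_congr rfl fun i _ => ?_
    show κ (φ₀ ((1 : S) ⊗ₜ[R] _) ⊗ₜ[S] φ₀ ((1 : S) ⊗ₜ[R] _)) = _
    rw [hφ, hφ, hκ]
  exact mem_map_of_tmul_eq (e2.symm.trans e1)

end Groth.Agent.MultType
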