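import Groth.Agent.MultType.Descent
import Groth.Agent.MultType.LiftNil

/-!
Rings split by a complete family of orthogonal idempotents: gluing of Hopf algebras.
-/

universe u

open TensorProduct
open scoped TensorProduct

namespace Groth.Agent.MultType.Glue

variable {R : Type u} [CommRing R] {J : Type} [Fintype J] (e : J → R)
  (T : J → Type u) [∀ j, CommRing (T j)] [∀ j, Algebra R (T j)]

/-- `R` is the product of the `T j`, the factors being cut out by `e`. -/
structure IsSplit : Prop where
  sum_eq : ∑ j, e j = 1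
  surj : ∀ j, Function.Surjective (algebraMap R (T j))
  map_self : ∀ j, algebraMap R (T j) (e j) = 1
  map_ne : ∀ i j, i ≠ j → algebraMap R (T j) (e i) = 0
  ker : ∀ j r, algebraMap R (T j) r = 0 → e j * r = 0

variable {e T}

/-- Multiplication by `e j`, factored through `T j`. -/
lemma IsSplit.exists_sec (h : IsSplit e T) (j : J) :
    ∃ s : T j →ₗ[R] R, ∀ r, s (algebraMap R (T j) r) = e j * r := by
  choose t ht using h.surj j
  have key : ∀ r, e j * t (algebraMap R (T j) r) = e j * r := fun r =>
    sub_eq_zero.1 (by rw [← mul_sub]; exact h.ker j _ (by rw [map_sub, ht, sub_self]))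
  refine ⟨{ toFun := fun x => e j * t x, map_add' := fun x y => ?_, map_smul' := fun r x => ?_ }, key⟩
  · obtain ⟨a, rfl⟩ := h.surj j x
    obtain ⟨b, rfl⟩ := h.surj j y
    rw [← map_add, key, key, key, mul_add]
  · obtain ⟨a, rfl⟩ := h.surj j x
    rw [Algebra.smul_def, ← map_mul, key, key]
    simp [mul_left_comm]

/-- An element of a module vanishes if it vanishes on every factor. -/
lemma IsSplit.eq_zero (h : IsSplit e T) {X : Type*} [AddCommGroup X] [Module R X] {x : X}
    (hx : ∀ j, (1 : T j) ⊗ₜ[R] x = 0) : x = 0 := by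
  choose s hs using h.exists_sec
  have : x = ∑ j, e j • x := by rw [← Finset.sum_smul, h.sum_eq, one_smul]
  rw [this]
  refine Finset.sum_eq_zero fun j _ => ?_
  have h2 := congrArg (fun z => TensorProduct.lid R X ((s j).rTensor X z)) (hx j)
  simp only [LinearMap.rTensor_tmul, TensorProduct.lid_tmul, map_zero] at h2
  rwa [← map_one (algebraMap R (T j)), hs, mul_one] at h2

lemma IsSplit.smul_eq (h : IsSplit e T) (j : J) {X : Type*} [AddCommGroup X] [Module R X] [Module (T j) X]
    [IsScalarTower R (T j) X] (x : X) : e j • x = x := by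
  rw [← IsScalarTower.algebraMap_smul (T j) (e j) x, h.map_self, one_smul]

lemma IsSplit.smul_eq_zero (h : IsSplit e T) {i j : J} (hij : i ≠ j) {X : Type*} [AddCommGroup X] [Module R X]
    [Module (T j) X] [IsScalarTower R (T j) X] (x : X) : e i • x = 0 := by
  rw [← IsScalarTower.algebraMap_smul (T j) (e i) x, h.map_ne i j hij, zero_smul]

variable {A B : J → Type u} [∀ j, CommRing (A j)] [∀ j, Algebra R (A j)] [∀ j, Algebra (T j) (A j)]
  [∀ j, IsScalarTower R (T j) (A j)] [∀ j, CommRing (B j)] [∀ j, Algebra R (B j)] [∀ j, Algebra (T j) (B j)]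
  [∀ j, IsScalarTower R (T j) (B j)]

/-- The components of a tensor product of products. -/
noncomputable def phi : (∀ j, A j) ⊗[R] (∀ j, B j) →ₐ[R] ∀ j, A j ⊗[T j] B j :=
  Pi.algHom R _ fun j => Algebra.TensorProduct.lift
    (((Algebra.TensorProduct.includeLeft : A j →ₐ[T j] A j ⊗[T j] B j).restrictScalars R).comp (Pi.evalAlgHom R A j))
    (((Algebra.TensorProduct.includeRight : B j →ₐ[T j] A j ⊗[T j] B j).restrictScalars R).comp (Pi.evalAlgHom R B j))
    fun _ _ => Commute.all _ _

@[simp] lemma phi_tmul (a : ∀ j, A j) (b : ∀ j, B j) (j : J) :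
    (phi (T := T) (a ⊗ₜ[R] b)) j = a j ⊗ₜ b j := by
  simp [phi]

lemma phi_bijective (h : IsSplit e T) : Function.Bijective (phi (R := R) (T := T) (A := A) (B := B)) := by
  classical
  have hc : ∀ j, TensorProduct.CompatibleSMul R (T j) (A j) (B j) := fun j => ⟨fun t a b => by
    obtain ⟨r, rfl⟩ := h.surj j t
    rw [IsScalarTower.algebraMap_smul, IsScalarTower.algebraMap_smul, TensorProduct.smul_tmul]⟩
  let ψ : ∀ j, (A j ⊗[T j] B j) →ₗ[R] (∀ j, A j) ⊗[R] (∀ j, B j) := fun j =>
    haveI := hc j
    TensorProduct.map (LinearMap.single R A j) (LinearMap.single R B j) ∘ₗ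
      TensorProduct.mapOfCompatibleSMul R (T j) R (A j) (B j)
  have hψ : ∀ j a b, ψ j (a ⊗ₜ b) = Pi.single j a ⊗ₜ Pi.single j b := fun j a b => by
    simp [ψ]
  let Ψ : (∀ j, A j ⊗[T j] B j) →ₗ[R] (∀ j, A j) ⊗[R] (∀ j, B j) := ∑ j, ψ j ∘ₗ LinearMap.proj j
  have hΨ : ∀ w, Ψ w = ∑ j, ψ j (w j) := fun w => by simp [Ψ]
  have hsingle : ∀ (j : J) (b : ∀ j, B j), (Pi.single j (b j) : ∀ j, B j) = e j • b := by
    intro j b
    funext i
    by_cases hij : j = i
    · subst hij; rw [Pi.single_eq_same, Pi.smul_apply, h.smul_eq j]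
    · rw [Pi.single_eq_of_ne (Ne.symm hij), Pi.smul_apply, h.smul_eq_zero hij]
  refine ⟨Function.LeftInverse.injective (g := Ψ) fun z => ?_, fun w => ⟨Ψ w, ?_⟩⟩
  · induction z using TensorProduct.induction_on with
    | zero => simp
    | add a b ha hb => simp only [map_add, ha, hb]
    | tmul a b =>
      rw [hΨ]
      conv_rhs => rw [← Finset.univ_sum_single a, TensorProduct.sum_tmul]
      refine Finset.sum_congr rfl fun j _ => ?_
      rw [phi_tmul, hψ, hsingle j b, TensorProduct.tmul_smul, TensorProduct.smul_tmul', ← Pi.single_smul,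
        h.smul_eq j]
  · rw [hΨ, map_sum]
    conv_rhs => rw [← Finset.univ_sum_single w]
    refine Finset.sum_congr rfl fun j _ => ?_
    induction w j using TensorProduct.induction_on with
    | zero => simp
    | add a b ha hb => simp only [map_add, Pi.single_add, ha, hb]
    | tmul a b =>
      rw [hψ]
      funext i
      rw [phi_tmul]
      by_cases hij : j = i
      · subst hij; simp
      · simp [Pi.single_eq_of_ne (Ne.symm hij)]

lemma IsSplit.ofId_bijective (h : IsSplit e T) :
    Function.Bijective (Pi.algHom R T fun j => Algebra.ofId R (T j)) := by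
  classical
  constructor
  · rw [injective_iff_map_eq_zero]
    intro r hr
    refine h.eq_zero fun j => (TensorProduct.rid R (T j)).injective ?_
    have := congrFun hr j
    simp at this
    simp [Algebra.smul_def, this]
  · intro w
    choose r hr using fun j => h.surj j (w j)
    refine ⟨∑ j, e j * r j, funext fun i => ?_⟩
    simp only [Pi.algHom_apply, Algebra.ofId_apply, map_sum, map_mul]
    rw [Finset.sum_eq_single i (fun j _ hji => by rw [h.map_ne j i hji, zero_mul])
      (fun hi => absurd (Finset.mem_univ i) hi), h.map_self, one_mul, hr]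

/-- Gluing of Hopf algebras along a splitting of the base. -/
theorem exists_glue (h : IsSplit e T) (A : J → Type u) [∀ j, CommRing (A j)] [∀ j, HopfAlgebra (T j) (A j)] :
    ∃ (P : Type u) (_ : CommRing P) (_ : HopfAlgebra R P), ∀ j, Nonempty (T j ⊗[R] P ≃ₐc[T j] A j) := by
  classical
  letI : ∀ j, Algebra R (A j) := fun j => ((algebraMap (T j) (A j)).comp (algebraMap R (T j))).toAlgebra
  haveI : ∀ j, IsScalarTower R (T j) (A j) := fun j => IsScalarTower.of_algebraMap_eq' rfl
  let Φ := AlgEquiv.ofBijective _ (phi_bijective (A := A) (B := A) h)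
  let ev : ∀ j, (∀ j, A j) →ₐ[R] A j := Pi.evalAlgHom R A
  let Δ : (∀ j, A j) →ₐ[R] (∀ j, A j) ⊗[R] (∀ j, A j) := Φ.symm.toAlgHom.comp
    (Pi.algHom R _ fun j => ((Bialgebra.comulAlgHom (T j) (A j)).restrictScalars R).comp (ev j))
  let σ := AlgEquiv.ofBijective _ h.ofId_bijective
  let ε : (∀ j, A j) →ₐ[R] R := σ.symm.toAlgHom.comp
    (Pi.algHom R _ fun j => ((Bialgebra.counitAlgHom (T j) (A j)).restrictScalars R).comp (ev j))
  have hΔ : ∀ a j, phi (T := T) (Δ a) j = Coalgebra.comul (R := T j) (a j) := fun a j =>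
    congrFun (Φ.apply_symm_apply _) j
  have hε : ∀ a j, algebraMap R (T j) (ε a) = Coalgebra.counit (R := T j) (a j) := fun a j =>
    congrFun (σ.apply_symm_apply _) j
  let C3 : (∀ j, A j) ⊗[R] ((∀ j, A j) ⊗[R] (∀ j, A j)) →ₐ[R] ∀ j, A j ⊗[T j] (A j ⊗[T j] A j) :=
    (phi (T := T) (A := A) (B := fun j => A j ⊗[T j] A j)).comp
      (Algebra.TensorProduct.map (AlgHom.id R (∀ j, A j)) (phi (T := T) (A := A) (B := A)))
  have hC3 : Function.Injective C3 := by
    refine (phi_bijective h).1.comp ?_
    let E : (∀ j, A j) ⊗[R] ((∀ j, A j) ⊗[R] (∀ j, A j)) ≃ₐ[R] (∀ j, A j) ⊗[R] (∀ j, A j ⊗[T j] A j) :=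
      Algebra.TensorProduct.congr AlgEquiv.refl Φ
    exact E.injective
  have hC3' : ∀ (a : (∀ j, A j)) (w : (∀ j, A j) ⊗[R] (∀ j, A j)) (j : J), C3 (a ⊗ₜ w) j = a j ⊗ₜ phi (T := T) w j := fun a w j => by
    simp [C3]
  letI : Bialgebra R (∀ j, A j) := Bialgebra.ofAlgHom Δ ε
    (AlgHom.ext fun a => hC3 (funext fun j => by
      show C3 (Algebra.TensorProduct.assoc R R R (∀ j, A j) (∀ j, A j) (∀ j, A j) (Algebra.TensorProduct.map Δ (AlgHom.id R (∀ j, A j)) (Δ a))) j =
        C3 (Algebra.TensorProduct.map (AlgHom.id R (∀ j, A j)) Δ (Δ a)) j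
      have e1 : ∀ u : (∀ j, A j) ⊗[R] (∀ j, A j), C3 (Algebra.TensorProduct.assoc R R R (∀ j, A j) (∀ j, A j) (∀ j, A j)
          (Algebra.TensorProduct.map Δ (AlgHom.id R (∀ j, A j)) u)) j =
          TensorProduct.assoc (T j) (A j) (A j) (A j)
            ((Coalgebra.comul (R := T j) (A := A j)).rTensor (A j) (phi (T := T) u j)) := by
        intro u
        induction u using TensorProduct.induction_on with
        | zero => simp
        | add p q hp hq => simp only [map_add, Pi.add_apply, hp, hq]
        | tmul x y =>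
          rw [Algebra.TensorProduct.map_tmul, AlgHom.id_apply, phi_tmul, LinearMap.rTensor_tmul, ← hΔ]
          induction Δ x using TensorProduct.induction_on with
          | zero => simp
          | add p q hp hq => simp only [TensorProduct.add_tmul, map_add, Pi.add_apply, hp, hq]
          | tmul p q => rw [Algebra.TensorProduct.assoc_tmul, hC3', phi_tmul, phi_tmul, TensorProduct.assoc_tmul]
      have e2 : ∀ u : (∀ j, A j) ⊗[R] (∀ j, A j), C3 (Algebra.TensorProduct.map (AlgHom.id R (∀ j, A j)) Δ u) j =
          (Coalgebra.comul (R := T j) (A := A j)).lTensor (A j) (phi (T := T) u j) := by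
        intro u
        induction u using TensorProduct.induction_on with
        | zero => simp
        | add p q hp hq => simp only [map_add, Pi.add_apply, hp, hq]
        | tmul x y =>
          rw [Algebra.TensorProduct.map_tmul, AlgHom.id_apply, phi_tmul, LinearMap.lTensor_tmul, hC3', hΔ]
      rw [e1, e2, hΔ]
      exact Coalgebra.coassoc_apply _))
    (AlgHom.ext fun a => (Algebra.TensorProduct.lid R (∀ j, A j)).injective (funext fun j => by
      show Algebra.TensorProduct.lid R (∀ j, A j) (Algebra.TensorProduct.map ε (AlgHom.id R (∀ j, A j)) (Δ a)) j =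
        Algebra.TensorProduct.lid R (∀ j, A j) ((1 : R) ⊗ₜ a) j
      have e1 : ∀ u : (∀ j, A j) ⊗[R] (∀ j, A j), Algebra.TensorProduct.lid R (∀ j, A j) (Algebra.TensorProduct.map ε (AlgHom.id R (∀ j, A j)) u) j =
          TensorProduct.lid (T j) (A j)
            ((Coalgebra.counit (R := T j) (A := A j)).rTensor (A j) (phi (T := T) u j)) := by
        intro u
        induction u using TensorProduct.induction_on with
        | zero => simp
        | add p q hp hq => simp only [map_add, Pi.add_apply, hp, hq]
        | tmul x y =>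
          rw [Algebra.TensorProduct.map_tmul, AlgHom.id_apply, phi_tmul, LinearMap.rTensor_tmul,
            TensorProduct.lid_tmul, Algebra.TensorProduct.lid_tmul, Pi.smul_apply, ← hε,
            IsScalarTower.algebraMap_smul]
      rw [e1, hΔ, Coalgebra.rTensor_counit_comul]
      simp))
    (AlgHom.ext fun a => (Algebra.TensorProduct.rid R R (∀ j, A j)).injective (funext fun j => by
      show Algebra.TensorProduct.rid R R (∀ j, A j) (Algebra.TensorProduct.map (AlgHom.id R (∀ j, A j)) ε (Δ a)) j =
        Algebra.TensorProduct.rid R R (∀ j, A j) (a ⊗ₜ (1 : R)) j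
      have e1 : ∀ u : (∀ j, A j) ⊗[R] (∀ j, A j), Algebra.TensorProduct.rid R R (∀ j, A j) (Algebra.TensorProduct.map (AlgHom.id R (∀ j, A j)) ε u) j =
          TensorProduct.rid (T j) (A j)
            ((Coalgebra.counit (R := T j) (A := A j)).lTensor (A j) (phi (T := T) u j)) := by
        intro u
        induction u using TensorProduct.induction_on with
        | zero => simp
        | add p q hp hq => simp only [map_add, Pi.add_apply, hp, hq]
        | tmul x y =>
          rw [Algebra.TensorProduct.map_tmul, AlgHom.id_apply, phi_tmul, LinearMap.lTensor_tmul,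
            TensorProduct.rid_tmul, Algebra.TensorProduct.rid_tmul, Pi.smul_apply, ← hε,
            IsScalarTower.algebraMap_smul]
      rw [e1, hΔ, Coalgebra.lTensor_counit_comul]
      simp))
  let S : (∀ j, A j) →ₗ[R] (∀ j, A j) := LinearMap.pi fun j =>
    ((HopfAlgebra.antipode (T j) (A := A j)).restrictScalars R) ∘ₗ LinearMap.proj j
  letI : HopfAlgebra R (∀ j, A j) :=
    { (inferInstance : Bialgebra R (∀ j, A j)) with
      antipode := S
      mul_antipode_rTensor_comul := LinearMap.ext fun a => funext fun j => by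
        have e1 : ∀ u : (∀ j, A j) ⊗[R] (∀ j, A j), LinearMap.mul' R (∀ j, A j) (S.rTensor (∀ j, A j) u) j =
            LinearMap.mul' (T j) (A j) ((HopfAlgebra.antipode (T j) (A := A j)).rTensor (A j) (phi (T := T) u j)) := by
          intro u
          induction u using TensorProduct.induction_on with
          | zero => simp
          | add p q hp hq => simp only [map_add, Pi.add_apply, hp, hq]
          | tmul x y => simp [S]
        show LinearMap.mul' R (∀ j, A j) (S.rTensor (∀ j, A j) (Δ a)) j = algebraMap R (∀ j, A j) (ε a) j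
        rw [e1, hΔ, HopfAlgebra.mul_antipode_rTensor_comul_apply, ← hε, ← IsScalarTower.algebraMap_apply]
        rfl
      mul_antipode_lTensor_comul := LinearMap.ext fun a => funext fun j => by
        have e1 : ∀ u : (∀ j, A j) ⊗[R] (∀ j, A j), LinearMap.mul' R (∀ j, A j) (S.lTensor (∀ j, A j) u) j =
            LinearMap.mul' (T j) (A j) ((HopfAlgebra.antipode (T j) (A := A j)).lTensor (A j) (phi (T := T) u j)) := by
          intro u
          induction u using TensorProduct.induction_on with
          | zero => simp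
          | add p q hp hq => simp only [map_add, Pi.add_apply, hp, hq]
          | tmul x y => simp [S]
        show LinearMap.mul' R (∀ j, A j) (S.lTensor (∀ j, A j) (Δ a)) j = algebraMap R (∀ j, A j) (ε a) j
        rw [e1, hΔ, HopfAlgebra.mul_antipode_lTensor_comul_apply, ← hε, ← IsScalarTower.algebraMap_apply]
        rfl }
  refine ⟨∀ j, A j, inferInstance, inferInstance, fun j => ?_⟩
  let F : T j ⊗[R] (∀ j, A j) →ₐ[T j] A j := Algebra.TensorProduct.lift (Algebra.ofId _ _) (ev j) fun _ _ => Commute.all _ _
  have hdef : DefectLE (⊥ : Ideal (T j)) F := fun z => by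
    suffices hz : Algebra.TensorProduct.map F F (Coalgebra.comul z) = Coalgebra.comul (F z) by
      rw [hz, sub_self]; exact Submodule.zero_mem _
    induction z using TensorProduct.induction_on with
    | zero => simp
    | add p q hp hq => simp only [map_add, hp, hq]
    | tmul t a =>
      rw [show t ⊗ₜ[R] a = t • ((1 : T j) ⊗ₜ[R] a) by rw [TensorProduct.smul_tmul', smul_eq_mul, mul_one],
        map_smul, map_smul, map_smul, map_smul]
      congr 1
      rw [show F ((1 : T j) ⊗ₜ[R] a) = a j by simp [F, ev], ← hΔ a j, TensorProduct.comul_tmul,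
        CommSemiring.comul_apply]
      show _ = phi (T := T) (Coalgebra.comul (R := R) a) j
      induction Coalgebra.comul (R := R) a using TensorProduct.induction_on with
      | zero => simp
      | add p q hp hq => simp only [TensorProduct.tmul_add, map_add, Pi.add_apply, hp, hq]
      | tmul p q => simp [F, ev]
  obtain ⟨G, hG⟩ := exists_bialgHom_of_defect hdef
  refine ⟨BialgEquiv.ofBijective G ?_⟩
  rw [show ⇑G = ⇑F from funext hG]
  have hsurj : ∀ z : T j ⊗[R] (∀ j, A j), ∃ p : (∀ j, A j), z = (1 : T j) ⊗ₜ[R] p := by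
    intro z
    induction z using TensorProduct.induction_on with
    | zero => exact ⟨0, by rw [TensorProduct.tmul_zero]⟩
    | add p q hp hq =>
      obtain ⟨p, rfl⟩ := hp
      obtain ⟨q, rfl⟩ := hq
      exact ⟨p + q, (TensorProduct.tmul_add _ _ _).symm⟩
    | tmul t p =>
      obtain ⟨r, rfl⟩ := h.surj j t
      exact ⟨r • p, by rw [Algebra.algebraMap_eq_smul_one, TensorProduct.smul_tmul]⟩
  constructor
  · rw [injective_iff_map_eq_zero]
    intro z hz
    obtain ⟨p, rfl⟩ := hsurj z
    have hp : p j = 0 := by simpa [F, ev] using hz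
    have h0 : e j • p = 0 := funext fun i => by
      by_cases hij : j = i
      · subst hij; simp [hp]
      · exact h.smul_eq_zero hij _
    rw [← h.smul_eq j ((1 : T j) ⊗ₜ[R] p), TensorProduct.smul_tmul', TensorProduct.smul_tmul, h0,
      TensorProduct.tmul_zero]
  · exact fun x => ⟨(1 : T j) ⊗ₜ Pi.single j x, by simp [F, ev]⟩

end Groth.Agent.MultType.Glue
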