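import Groth.Agent.MultType.Cover

/-!
Lifting of group-like elements along nil ideals.
-/

universe u

open TensorProduct SGA3b
open scoped TensorProduct

namespace Groth.Agent.MultType

variable {R : Type u} [CommRing R] {B : Type u} [CommRing B] [HopfAlgebra R B]

lemma exists_fg_le_of_mem_map {S P : Type u} [CommRing S] [CommRing P] (f : S →+* P) {K : Ideal S} {z : P}
    (hz : z ∈ K.map f) : ∃ J : Ideal S, J.FG ∧ J ≤ K ∧ z ∈ J.map f := by
  classical
  obtain ⟨t, ht, hzt⟩ := Submodule.mem_span_finite_of_mem_span (show z ∈ Submodule.span P (f '' K) from hz)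
  obtain ⟨t', ht', rfl⟩ := Finset.subset_set_image_iff.1 ht
  refine ⟨Ideal.span t', ⟨t', rfl⟩, Ideal.span_le.2 ht', ?_⟩
  rw [Ideal.map_span, ← Finset.coe_image]
  exact hzt

/-- A group-like element modulo a nil ideal lifts, for a group split on a cover. -/
theorem exists_groupLike_lift {S : Type u} [CommRing S] [Algebra R S] (U : Cover S)
    [∀ i, Algebra R (U.T i)] [∀ i, IsScalarTower R S (U.T i)]
    (hB : ∀ i, IsDiag (U.T i) (U.T i ⊗[R] B)) (K : Ideal S) (hK : K ≤ nilradical S)
    (x₀ : (S ⧸ K) ⊗[R] B) (h₀ : IsGroupLikeElem (S ⧸ K) x₀) :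
    ∃ y : S ⊗[R] B, IsGroupLikeElem S y ∧
      Algebra.TensorProduct.map (Ideal.Quotient.mkₐ R K) (AlgHom.id R B) y = x₀ := by
  classical
  have hsurj : ∀ {N : Type u} [CommRing N] [Algebra R N] (L : Ideal S) (z : (S ⧸ L) ⊗[R] N),
      ∃ x : S ⊗[R] N, Algebra.TensorProduct.map (Ideal.Quotient.mkₐ R L) (AlgHom.id R N) x = z := by
    intro N _ _ L z
    induction z using TensorProduct.induction_on with
    | zero => exact ⟨0, map_zero _⟩
    | tmul s a => obtain ⟨s, rfl⟩ := Ideal.Quotient.mk_surjective s; exact ⟨s ⊗ₜ a, by simp⟩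
    | add p r hp hr =>
      obtain ⟨p, rfl⟩ := hp
      obtain ⟨r, rfl⟩ := hr
      exact ⟨p + r, map_add _ _ _⟩
  obtain ⟨x, hx⟩ := hsurj K x₀
  have natg : ∀ {P : Type u} [CommRing P] [Algebra R P] (p : S →ₐ[R] P) (φ : B →ₐ[R] B ⊗[R] B) (w : S ⊗[R] B),
      Algebra.TensorProduct.map p (AlgHom.id R (B ⊗[R] B)) (Algebra.TensorProduct.map (AlgHom.id S S) φ w) =
      Algebra.TensorProduct.map (AlgHom.id P P) φ (Algebra.TensorProduct.map p (AlgHom.id R B) w) := by
    intro P _ _ p φ w
    induction w using TensorProduct.induction_on with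
    | zero => simp
    | tmul s a => simp
    | add a b ha hb => simp only [map_add, ha, hb]
  have natε : ∀ {P : Type u} [CommRing P] [Algebra R P] (p : S →ₐ[R] P) (w : S ⊗[R] B),
      jε P (Algebra.TensorProduct.map p (AlgHom.id R B) w) = p (jε S w) := by
    intro P _ _ p w
    induction w using TensorProduct.induction_on with
    | zero => simp
    | tmul s a => simp [jε]
    | add a b ha hb => simp only [map_add, ha, hb]
  have hgl₀ := (isGroupLikeElem_iff x₀).1 h₀
  have hd1 : jε S x - 1 ∈ K := by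
    rw [← Ideal.Quotient.eq_zero_iff_mem, map_sub, map_one, sub_eq_zero]
    have := natε (Ideal.Quotient.mkₐ R K) x
    rw [hx, hgl₀.1] at this
    exact this.symm
  have hd2 : jΔ S x - j₁ S x * j₂ S x ∈ Ideal.map (algebraMap S (S ⊗[R] (B ⊗[R] B))) K := by
    have h := mem_map_ker (Ideal.Quotient.mkₐ R K) Ideal.Quotient.mk_surjective (jΔ S x - j₁ S x * j₂ S x) (by
      unfold jΔ j₁ j₂ at hgl₀ ⊢
      rw [map_sub, map_mul, natg, natg, natg, hx, hgl₀.2, sub_self])
    rwa [show RingHom.ker (Ideal.Quotient.mkₐ R K) = K from Ideal.Quotient.mkₐ_ker R _] at h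
  obtain ⟨J₀, hJ₀, hJ₀K, hmem⟩ := exists_fg_le_of_mem_map _ hd2
  let J : Ideal S := J₀ ⊔ Ideal.span {jε S x - 1}
  have hJfg : J.FG := Submodule.FG.sup hJ₀ (Submodule.fg_span_singleton _)
  have hJK : J ≤ K := sup_le hJ₀K ((Ideal.span_singleton_le_iff_mem _).2 hd1)
  have hJn : IsNilpotent J := (Ideal.FG.isNilpotent_iff_le_nilradical hJfg).2 (hJK.trans hK)
  let π : S →ₐ[R] S ⧸ J := Ideal.Quotient.mkₐ R J
  let x₁ := Algebra.TensorProduct.map π (AlgHom.id R B) x
  have hx₁ : IsGroupLikeElem (S ⧸ J) x₁ := by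
    rw [isGroupLikeElem_iff]
    refine ⟨?_, ?_⟩
    · rw [natε]
      exact (Ideal.Quotient.eq.2 (Ideal.mem_sup_right (Ideal.mem_span_singleton_self _))).trans (map_one _)
    · have h := Ideal.mem_map_of_mem (Algebra.TensorProduct.map π (AlgHom.id R (B ⊗[R] B))).toRingHom
        (Ideal.map_mono le_sup_left hmem : _ ∈ Ideal.map _ J)
      rw [Ideal.map_map, show (Algebra.TensorProduct.map π (AlgHom.id R (B ⊗[R] B))).toRingHom.comp
          (algebraMap S (S ⊗[R] (B ⊗[R] B))) = (algebraMap (S ⧸ J) ((S ⧸ J) ⊗[R] (B ⊗[R] B))).comp π.toRingHom from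
          RingHom.ext fun s => by simp, ← Ideal.map_map,
        show Ideal.map π.toRingHom J = ⊥ from Ideal.map_quotient_self J, Ideal.map_bot, Ideal.mem_bot,
        map_sub, sub_eq_zero] at h
      unfold jΔ j₁ j₂ at h ⊢
      rw [← natg, ← natg, ← natg, ← map_mul]
      exact h
  let C := MonoidAlgebra R (Multiplicative (ULift.{u} ℤ))
  obtain ⟨v, hv⟩ := isUnit_of_isGroupLikeElem hx₁
  have hvn : ∀ n : ℤ, IsGroupLikeElem (S ⧸ J) ((v ^ n : ((S ⧸ J) ⊗[R] B)ˣ) : (S ⧸ J) ⊗[R] B) := by
    intro n
    cases n with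
    | ofNat m => simp only [Int.ofNat_eq_natCast, zpow_natCast, Units.val_pow_eq_pow_val, hv]; exact hx₁.pow
    | negSucc m =>
      simp only [zpow_negSucc, isGroupLikeElem_unitsInv, Units.val_pow_eq_pow_val, hv]
      exact hx₁.pow
  let θ : Multiplicative (ULift.{u} ℤ) →* (S ⧸ J) ⊗[R] B :=
    { toFun := fun n => ((v ^ (Multiplicative.toAdd n).down : ((S ⧸ J) ⊗[R] B)ˣ) : (S ⧸ J) ⊗[R] B)
      map_one' := by simp
      map_mul' := fun a b => by simp [zpow_add] }
  let g : C →ₐ[R] (S ⧸ J) ⊗[R] B := MonoidAlgebra.lift R _ _ θ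
  have hgn : ∀ n, g (MonoidAlgebra.single n 1) = θ n := fun n => by
    rw [MonoidAlgebra.lift_single, one_smul]
  have hg : Compat g := by
    intro c
    induction c using MonoidAlgebra.induction_linear with
    | zero => simp
    | add p r hp hr => simp only [map_add, hp, hr]
    | single n t =>
      rw [show (MonoidAlgebra.single n t : C) = t • MonoidAlgebra.single n 1 by simp]
      simp only [map_smul]
      rw [(MonoidAlgebra.isGroupLikeElem_single_one (R := R) (A := R) n).comul_eq_tmul_self,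
        Algebra.TensorProduct.lift_tmul, AlgHom.map_smul_of_tower]
      congr 1
      simp only [AlgHom.comp_apply, AlgHom.restrictScalars_apply, hgn]
      exact ((isGroupLikeElem_iff _).1 (hvn _)).2.symm
  have hC : ∀ i, IsDiag (U.T i) (U.T i ⊗[R] C) := fun i =>
    isDiag_tensor (U.T i) ⟨_, inferInstance, ⟨BialgEquiv.refl R C⟩⟩
  have hker : RingHom.ker π = J := Ideal.Quotient.mkₐ_ker R J
  obtain ⟨g', hg', hgg⟩ := exists_compat_lift_cover π Ideal.Quotient.mk_surjective (by rw [hker]; exact hJn) U hB hC g hg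
  let one' : Multiplicative (ULift.{u} ℤ) := Multiplicative.ofAdd ⟨1⟩
  let y := g' (MonoidAlgebra.single one' 1)
  have hπy : Algebra.TensorProduct.map π (AlgHom.id R B) y = x₁ := by
    show (Algebra.TensorProduct.map π (AlgHom.id R B)).comp g' (MonoidAlgebra.single one' 1) = _
    rw [hgg, hgn]
    simp [θ, one', hv]
  refine ⟨y, ?_, ?_⟩
  · have hΔ : jΔ S y = j₁ S y * j₂ S y := by
      have h := hg' (MonoidAlgebra.single one' 1)
      rw [(MonoidAlgebra.isGroupLikeElem_single_one (R := R) (A := R) one').comul_eq_tmul_self,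
        Algebra.TensorProduct.lift_tmul] at h
      exact h.symm
    rw [isGroupLikeElem_iff]
    refine ⟨?_, hΔ⟩
    have hcomul : Coalgebra.comul (R := S) y = y ⊗ₜ[S] y := (kap S).injective (by rw [kap_comul, kap_tmul, hΔ])
    have hu : IsUnit y := ((Group.isUnit one').map (MonoidAlgebra.of R _)).map g'
    have h := Coalgebra.rTensor_counit_comul (R := S) y
    rw [hcomul, LinearMap.rTensor_tmul] at h
    have h2 := congrArg (TensorProduct.lid S (S ⊗[R] B)) h
    rw [TensorProduct.lid_tmul, TensorProduct.lid_tmul, one_smul] at h2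
    have h3 := congrArg (Coalgebra.counit (R := S)) h2
    rw [map_smul, smul_eq_mul] at h3
    rw [jε_eq]
    exact (hu.map (Bialgebra.counitAlgHom S (S ⊗[R] B))).mul_right_cancel (h3.trans (_root_.one_mul _).symm)
  · have hfac : Ideal.Quotient.mkₐ R K = (Ideal.Quotient.factorₐ R hJK).comp π := AlgHom.ext fun s => rfl
    have hcomp : ∀ w : S ⊗[R] B, Algebra.TensorProduct.map (Ideal.Quotient.mkₐ R K) (AlgHom.id R B) w =
        Algebra.TensorProduct.map (Ideal.Quotient.factorₐ R hJK) (AlgHom.id R B)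
          (Algebra.TensorProduct.map π (AlgHom.id R B) w) := by
      intro w
      rw [hfac]
      induction w using TensorProduct.induction_on with
      | zero => simp
      | tmul s a => simp
      | add a b ha hb => simp only [map_add, ha, hb]
    rw [hcomp, hπy, ← hx, hcomp]

/-- A homomorphism of diagonalisable groups that is bijective modulo a nil ideal is bijective. -/
theorem bijective_of_nil {S : Type u} [CommRing S] [Algebra R S] {C : Type u} [CommRing C] [HopfAlgebra R C]
    (hB : IsDiag S (S ⊗[R] B)) (hC : IsDiag S (S ⊗[R] C)) (K : Ideal S) (hK : K ≤ nilradical S)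
    (φ : C →ₐc[R] B)
    (h : Function.Bijective (Algebra.TensorProduct.map (AlgHom.id (S ⧸ K) (S ⧸ K)) (φ : C →ₐ[R] B))) :
    Function.Bijective (Algebra.TensorProduct.map (AlgHom.id S S) (φ : C →ₐ[R] B)) := by
  classical
  let G : S ⊗[R] C →ₐc[S] S ⊗[R] B := Bialgebra.TensorProduct.map (BialgHom.id S S) φ
  let G₀ : (S ⧸ K) ⊗[R] C →ₐc[S ⧸ K] (S ⧸ K) ⊗[R] B := Bialgebra.TensorProduct.map (BialgHom.id _ _) φ
  have hGm : ∀ z, G z = Algebra.TensorProduct.map (AlgHom.id S S) (φ : C →ₐ[R] B) z := by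
    intro z
    induction z using TensorProduct.induction_on with
    | zero => simp
    | tmul s a => rfl
    | add a b ha hb => simp only [map_add, ha, hb]
  have hG₀m : ∀ z, G₀ z = Algebra.TensorProduct.map (AlgHom.id (S ⧸ K) (S ⧸ K)) (φ : C →ₐ[R] B) z := by
    intro z
    induction z using TensorProduct.induction_on with
    | zero => simp
    | tmul s a => rfl
    | add a b ha hb => simp only [map_add, ha, hb]
  let mk := Ideal.Quotient.mkₐ R K
  let qB := Algebra.TensorProduct.map mk (AlgHom.id R B)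
  let qC := Algebra.TensorProduct.map mk (AlgHom.id R C)
  have hq : ∀ z, qB (G z) = G₀ (qC z) := by
    intro z
    induction z using TensorProduct.induction_on with
    | zero => simp
    | tmul s a => rfl
    | add a b ha hb => simp only [map_add, ha, hb]
  let G₀e : (S ⧸ K) ⊗[R] C ≃ₐc[S ⧸ K] (S ⧸ K) ⊗[R] B :=
    BialgEquiv.ofBijective G₀ (by rw [show (G₀ : _ → _) = _ from funext hG₀m]; exact h)
  let U : Cover S :=
    { ι := PUnit
      T := fun _ => S
      detect := fun x hx => by
        have := congrArg (TensorProduct.lid S _) (hx PUnit.unit)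
        rw [TensorProduct.lid_tmul, one_smul, map_zero] at this
        exact this }
  letI : ∀ i, Algebra R (U.T i) := fun _ => ‹Algebra R S›
  haveI : ∀ i, IsScalarTower R S (U.T i) := fun _ =>
    (inferInstance : IsScalarTower R S S)
  have eqB : ∀ {a b : S ⊗[R] B}, IsGroupLikeElem S a → IsGroupLikeElem S b → qB a = qB b → a = b := by
    intro a b ha hb hab
    refine groupLike_eq_of_nil hB ha hb K hK ?_
    have := mem_map_ker mk Ideal.Quotient.mk_surjective (a - b) (by rw [map_sub]; exact sub_eq_zero.2 hab)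
    rwa [show RingHom.ker mk = K from Ideal.Quotient.mkₐ_ker R _] at this
  have eqC : ∀ {a b : S ⊗[R] C}, IsGroupLikeElem S a → IsGroupLikeElem S b → qC a = qC b → a = b := by
    intro a b ha hb hab
    refine groupLike_eq_of_nil hC ha hb K hK ?_
    have := mem_map_ker mk Ideal.Quotient.mk_surjective (a - b) (by rw [map_sub]; exact sub_eq_zero.2 hab)
    rwa [show RingHom.ker mk = K from Ideal.Quotient.mkₐ_ker R _] at this
  obtain ⟨M, _, ⟨e⟩⟩ := id hB
  let x : M → S ⊗[R] B := fun m => e.symm (MonoidAlgebra.single m 1)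
  have hx : ∀ m, IsGroupLikeElem S (x m) := fun m =>
    (MonoidAlgebra.isGroupLikeElem_single_one m).map (e.symm : MonoidAlgebra S M →ₐc[S] S ⊗[R] B)
  choose z hz hzq using fun m => exists_groupLike_lift (R := R) (B := C) U (fun _ => hC) K hK
    (G₀e.symm (qB (x m))) ((isGroupLikeElem_map mk (hx m)).map G₀e.symm)
  have hGz : ∀ m, G (z m) = x m := fun m => eqB ((hz m).map G) (hx m) (by
    rw [hq, show qC (z m) = _ from hzq m]
    exact G₀e.apply_symm_apply _)
  let θ : M →* S ⊗[R] C :=
    { toFun := z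
      map_one' := eqC (hz 1) IsGroupLikeElem.one (by
        rw [show qC (z 1) = _ from hzq 1, show x 1 = 1 by simp [x, ← MonoidAlgebra.one_def]]
        simp)
      map_mul' := fun a b => eqC (hz _) ((hz a).mul (hz b)) (by
        rw [map_mul, show qC (z (a * b)) = _ from hzq _, show qC (z a) = _ from hzq a, show qC (z b) = _ from hzq b,
          ← map_mul, ← map_mul, ← map_mul, MonoidAlgebra.single_mul_single, _root_.mul_one]) }
  let H : S ⊗[R] B →ₐ[S] S ⊗[R] C :=
    (MonoidAlgebra.lift S (S ⊗[R] C) M θ).comp (e : S ⊗[R] B →ₐc[S] MonoidAlgebra S M).toAlgHom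
  have hHx : ∀ m, H (x m) = z m := fun m => by
    show MonoidAlgebra.lift S _ M θ (e (e.symm (MonoidAlgebra.single m 1))) = _
    rw [show e (e.symm (MonoidAlgebra.single m 1)) = MonoidAlgebra.single m 1 from e.apply_symm_apply _]
    simp [θ]
  have hGH : ∀ b, G (H b) = b := by
    intro b
    obtain ⟨b, rfl⟩ : ∃ w, e.symm w = b := ⟨e b, e.symm_apply_apply b⟩
    induction b using MonoidAlgebra.induction_linear with
    | zero => simp
    | add p r hp hr => simp only [map_add, hp, hr]
    | single m t =>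
      rw [show (MonoidAlgebra.single m t : MonoidAlgebra S M) = t • MonoidAlgebra.single m 1 by simp,
        map_smul, map_smul, map_smul]
      exact congrArg (t • ·) ((congrArg G (hHx m)).trans (hGz m))
  obtain ⟨N, _, ⟨eC⟩⟩ := id hC
  have hHG : ∀ c, H (G c) = c := by
    intro c
    obtain ⟨c, rfl⟩ : ∃ w, eC.symm w = c := ⟨eC c, eC.symm_apply_apply c⟩
    induction c using MonoidAlgebra.induction_linear with
    | zero => simp
    | add p r hp hr => simp only [map_add, hp, hr]
    | single n t =>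
      rw [show (MonoidAlgebra.single n t : MonoidAlgebra S N) = t • MonoidAlgebra.single n 1 by simp,
        map_smul, map_smul, map_smul]
      refine congrArg (t • ·) ?_
      have hn : IsGroupLikeElem S (eC.symm (MonoidAlgebra.single n 1)) :=
        (MonoidAlgebra.isGroupLikeElem_single_one n).map (eC.symm : MonoidAlgebra S N →ₐc[S] S ⊗[R] C)
      have hH : IsGroupLikeElem S (H (G (eC.symm (MonoidAlgebra.single n 1)))) := by
        let H' : MonoidAlgebra S M →ₐc[S] S ⊗[R] C :=
          BialgHom.ofAlgHom (MonoidAlgebra.lift S (S ⊗[R] C) M θ)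
            (by ext m; simp [θ, (hz m).counit_eq_one])
            (by ext m; simp [θ, (hz m).comul_eq_tmul_self])
        exact ((hn.map G).map (e : S ⊗[R] B →ₐc[S] MonoidAlgebra S M)).map H'
      refine eqC hH hn ?_
      apply G₀e.injective
      show G₀ (qC _) = G₀ (qC _)
      rw [← hq, ← hq, hGH]
  rw [← funext hGm]
  exact ⟨Function.LeftInverse.injective hHG, Function.RightInverse.surjective hGH⟩

end Groth.Agent.MultType
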