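import Groth.Agent.MultType.Power

/-!
The invariant integral of a Hopf algebra of multiplicative type.
-/

universe u v

open TensorProduct WithConv MonoidAlgebra SGA3b
open scoped TensorProduct

namespace Groth.Agent.MultType

variable {R : Type u} [CommRing R] {A : Type u} [CommRing A] [Bialgebra R A]

/-- A left invariant functional with values in an algebra: `∑ l a₁ ⊗ a₂ = l a ⊗ 1`. -/
def IsLeftInt {S : Type*} [CommRing S] [Algebra R S] (l : A →ₗ[R] S) : Prop :=
  ∀ a, l.rTensor A (Coalgebra.comul a) = l a ⊗ₜ[R] (1 : A)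

/-- A right invariant functional with values in an algebra: `∑ l a₂ ⊗ a₁ = l a ⊗ 1`. -/
def IsRightInt {S : Type*} [CommRing S] [Algebra R S] (l : A →ₗ[R] S) : Prop :=
  ∀ a, l.rTensor A (TensorProduct.comm R A A (Coalgebra.comul a)) = l a ⊗ₜ[R] (1 : A)

lemma IsLeftInt.map {S T : Type*} [CommRing S] [Algebra R S] [CommRing T] [Algebra R T]
    {l : A →ₗ[R] S} (h : IsLeftInt l) (g : S →ₐ[R] T) : IsLeftInt (g.toLinearMap ∘ₗ l) := fun a => by
  rw [LinearMap.rTensor_comp, LinearMap.comp_apply, h a, LinearMap.rTensor_tmul]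
  rfl

lemma IsRightInt.map {S T : Type*} [CommRing S] [Algebra R S] [CommRing T] [Algebra R T]
    {l : A →ₗ[R] S} (h : IsRightInt l) (g : S →ₐ[R] T) : IsRightInt (g.toLinearMap ∘ₗ l) := fun a => by
  rw [LinearMap.rTensor_comp, LinearMap.comp_apply, h a, LinearMap.rTensor_tmul]
  rfl

/-- A left invariant functional and a right invariant one, both normalised, agree. -/
lemma IsLeftInt.eq {S : Type*} [CommRing S] [Algebra R S] {l l' : A →ₗ[R] S}
    (h : IsLeftInt l) (h' : IsRightInt l') (h1 : l 1 = 1) (h1' : l' 1 = 1) : l = l' := by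
  refine LinearMap.ext fun a => ?_
  let r := Coalgebra.Repr.arbitrary R a
  have e1 := congr(LinearMap.mul' R S (l'.lTensor S $(h a)))
  have e2 := congr(LinearMap.mul' R S (l.lTensor S $(h' a)))
  rw [← r.eq] at e1 e2
  simp only [map_sum, LinearMap.rTensor_tmul, LinearMap.lTensor_tmul, LinearMap.mul'_apply,
    TensorProduct.comm_tmul, h1, h1', mul_one] at e1 e2
  rw [← e1, ← e2]
  exact Finset.sum_congr rfl fun i _ => mul_comm _ _

section Chart

variable {R' : Type u} [CommRing R'] [Algebra R R'] {M : Type u} [CommGroup M]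
  (e : (R' ⊗[R] A) ≃ₐc[R'] MonoidAlgebra R' M)

lemma e_tmul (r : R') (b : A) : e (r ⊗ₜ[R] b) = r • emb e b := by
  rw [show r ⊗ₜ[R] b = r • ((1 : R') ⊗ₜ[R] b) by simp [TensorProduct.smul_tmul'], map_smul]
  rfl

lemma isLeftInt_coef_one : IsLeftInt (coef e (1 : M)) := by
  classical
  intro a
  apply EquivLike.injective e
  let u : MonoidAlgebra R' M →ₗ[R'] MonoidAlgebra R' M :=
    Algebra.linearMap R' _ ∘ₗ (MonoidAlgebra.basis M R').coord 1
  have h : toConv (res e u) * toConv (res e LinearMap.id) = toConv (res e u) := res_convMul e _ _ _ fun m => by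
    simp only [u, LinearMap.comp_apply, coord_single, LinearMap.id_apply, Algebra.linearMap_apply]
    split_ifs with hm <;> simp [hm, one_def]
  have h' := congr($h a)
  rw [(Coalgebra.Repr.arbitrary R a).convMul_apply] at h'
  rw [← (Coalgebra.Repr.arbitrary R a).eq, e_tmul, map_one, ← Algebra.algebraMap_eq_smul_one]
  simp only [map_sum, LinearMap.rTensor_tmul, e_tmul, Algebra.smul_def]
  exact h'

lemma isRightInt_coef_one : IsRightInt (coef e (1 : M)) := by
  classical
  intro a
  apply EquivLike.injective e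
  let u : MonoidAlgebra R' M →ₗ[R'] MonoidAlgebra R' M :=
    Algebra.linearMap R' _ ∘ₗ (MonoidAlgebra.basis M R').coord 1
  have h : toConv (res e LinearMap.id) * toConv (res e u) = toConv (res e u) := res_convMul e _ _ _ fun m => by
    simp only [u, LinearMap.comp_apply, coord_single, LinearMap.id_apply, Algebra.linearMap_apply]
    split_ifs with hm <;> simp [hm, one_def]
  have h' := congr($h a)
  rw [(Coalgebra.Repr.arbitrary R a).convMul_apply] at h'
  rw [← (Coalgebra.Repr.arbitrary R a).eq, e_tmul, map_one, ← Algebra.algebraMap_eq_smul_one]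
  simp only [map_sum, TensorProduct.comm_tmul, LinearMap.rTensor_tmul, e_tmul, Algebra.smul_def]
  simp only [mul_comm (algebraMap R' (MonoidAlgebra R' M) _)]
  exact h'

lemma coef_one_one : coef e (1 : M) (1 : A) = 1 := by
  classical
  rw [← map_one (algebraMap R A), coef_algebraMap, if_pos rfl, map_one]

end Chart

/-- A group of multiplicative type has an invariant integral. -/
theorem exists_integral {A : Type u} [CommRing A] [HopfAlgebra R A] (hA : IsMultType R A) :
    ∃ l : A →ₗ[R] R, l 1 = 1 ∧ IsLeftInt l ∧ IsRightInt l := by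
  classical
  obtain ⟨s, hs, hc⟩ := exists_charts hA
  obtain ⟨t, hts, ht⟩ := Ideal.span_eq_top_iff_finite s |>.1 hs
  choose c hcf using fun f : t => hc f.1 (hts f.2)
  let S := ∀ f : t, (c f).R'
  let L : A →ₗ[R] S := LinearMap.pi fun f => coef (c f).e 1
  have hdet : ∀ {N : Type u} [AddCommGroup N] [Module R N] {x : N},
      (1 : S) ⊗ₜ[R] x = 0 → x = 0 := by
    intro N _ _ x hx
    refine eq_zero_of_charts ht fun f hf => ?_
    obtain ⟨g, rfl⟩ : ∃ g : t, (c g).f = f := ⟨⟨f, hf⟩, hcf ⟨f, hf⟩⟩
    refine (c g).exists_pow_smul_eq_zero ?_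
    simpa [show (1 : S) g = 1 from rfl] using congr((LinearMap.proj g : S →ₗ[R] (c g).R').rTensor N $hx)
  have hcomp : ∀ (g : t) (x : S ⊗[R] A),
      TensorProduct.piLeft R A _ x g = (LinearMap.proj g : S →ₗ[R] (c g).R').rTensor A x := by
    intro g x
    induction x using TensorProduct.induction_on with
    | zero => simp
    | tmul a b => simp
    | add a b ha hb => rw [map_add, Pi.add_apply, ha, hb, map_add]
  have hL1 : L 1 = 1 := funext fun f => coef_one_one (c f).e
  have hLl : IsLeftInt L := fun a => by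
    apply (TensorProduct.piLeft R A _).injective
    funext g
    rw [hcomp, hcomp, ← LinearMap.rTensor_comp_apply, LinearMap.rTensor_tmul]
    exact isLeftInt_coef_one (c g).e a
  have hLr : IsRightInt L := fun a => by
    apply (TensorProduct.piLeft R A _).injective
    funext g
    rw [hcomp, hcomp, ← LinearMap.rTensor_comp_apply, LinearMap.rTensor_tmul]
    exact isRightInt_coef_one (c g).e a
  let i₁ : S →ₐ[R] S ⊗[R] S := Algebra.TensorProduct.includeLeft
  let i₂ : S →ₐ[R] S ⊗[R] S := Algebra.TensorProduct.includeRight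
  have heq : i₁.toLinearMap ∘ₗ L = i₂.toLinearMap ∘ₗ L :=
    (hLl.map i₁).eq (hLr.map i₂) (by simp [hL1, i₁, Algebra.TensorProduct.one_def]) (by simp [hL1, i₂, Algebra.TensorProduct.one_def])
  have hmem : ∀ a, L a ∈ LinearMap.range (Algebra.linearMap R S) := by
    intro a
    set N := LinearMap.range (Algebra.linearMap R S) with hN
    rw [← Submodule.Quotient.mk_eq_zero]
    apply hdet
    have h := congr((Submodule.mkQ N).lTensor S $(LinearMap.congr_fun heq a))
    simp only [LinearMap.comp_apply, i₁, i₂, AlgHom.toLinearMap_apply,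
      Algebra.TensorProduct.includeLeft_apply, Algebra.TensorProduct.includeRight_apply,
      LinearMap.lTensor_tmul, Submodule.mkQ_apply] at h
    rw [← h, (Submodule.Quotient.mk_eq_zero N).2 ⟨1, by simp⟩, TensorProduct.tmul_zero]
  have hinj : Function.Injective (Algebra.linearMap R S) := by
    rw [injective_iff_map_eq_zero]
    intro r hr
    refine hdet (N := R) ?_
    rw [← (TensorProduct.rid R S).injective.eq_iff, TensorProduct.rid_tmul, map_zero, Algebra.smul_def,
      _root_.mul_one]
    exact hr
  let ι := LinearEquiv.ofInjective (Algebra.linearMap R S) hinj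
  let l : A →ₗ[R] R := ι.symm.toLinearMap ∘ₗ L.codRestrict _ hmem
  have hl : Algebra.linearMap R S ∘ₗ l = L := LinearMap.ext fun a =>
    congrArg Subtype.val (ι.apply_symm_apply (L.codRestrict _ hmem a))
  have hl1 : l 1 = 1 := hinj (by rw [← LinearMap.comp_apply, hl, hL1]; simp)
  have hinjA : ∀ x : R ⊗[R] A, (Algebra.linearMap R S).rTensor A x = 0 → x = 0 := by
    intro x hx
    rw [← (TensorProduct.lid R A).map_eq_zero_iff]
    apply hdet
    rw [← hx]
    clear hx
    induction x using TensorProduct.induction_on with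
    | zero => simp
    | tmul a b =>
      rw [LinearMap.rTensor_tmul, TensorProduct.lid_tmul, Algebra.linearMap_apply,
        Algebra.algebraMap_eq_smul_one, TensorProduct.smul_tmul]
    | add a b ha hb => rw [map_add, TensorProduct.tmul_add, ha, hb, map_add]
  refine ⟨l, hl1, fun a => ?_, fun a => ?_⟩
  · rw [← sub_eq_zero]
    apply hinjA
    rw [map_sub, sub_eq_zero, ← LinearMap.rTensor_comp_apply, hl, LinearMap.rTensor_tmul, hLl a, ← hl]
    rfl
  · rw [← sub_eq_zero]
    apply hinjA
    rw [map_sub, sub_eq_zero, ← LinearMap.rTensor_comp_apply, hl, LinearMap.rTensor_tmul, hLr a, ← hl]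
    rfl

end Groth.Agent.MultType
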