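import Groth.Agent.MultType.Integral

/-!
Lifting of homomorphisms out of a group with an invariant integral (vanishing of the Hochschild
cohomology of a linearly reductive group).
-/

universe u v

open TensorProduct WithConv
open scoped TensorProduct

namespace Groth.Agent.MultType

variable {R : Type u} [CommRing R] {C : Type u} [CommRing C] [HopfAlgebra R C]

local notation "W[" T "]" => WithConv (C →ₗ[R] T)

section

variable {T T' : Type u} [CommRing T] [Algebra R T] [CommRing T'] [Algebra R T']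

/-- An algebra map, in the convolution ring. -/
noncomputable def pt (f : C →ₐ[R] T) : W[T] := toConv f.toLinearMap

/-- Its inverse, in the convolution ring. -/
noncomputable def ptInv (f : C →ₐ[R] T) : W[T] :=
  toConv (f.comp (HopfAlgebra.antipodeAlgHom R C)).toLinearMap

lemma ptInv_mul (f : C →ₐ[R] T) : ptInv f * pt f = 1 := by
  refine WithConv.ext (LinearMap.ext fun c => ?_)
  rw [(Coalgebra.Repr.arbitrary R c).convMul_apply]
  simp only [ptInv, pt, ofConv_toConv, AlgHom.toLinearMap_apply, AlgHom.comp_apply, ← map_mul, ← map_sum]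
  show f (∑ i ∈ _, HopfAlgebra.antipode R _ * _) = _
  rw [HopfAlgebra.sum_antipode_mul_eq_algebraMap_counit, AlgHom.commutes]
  rfl

lemma pt_mul_inv (f : C →ₐ[R] T) : pt f * ptInv f = 1 := by
  refine WithConv.ext (LinearMap.ext fun c => ?_)
  rw [(Coalgebra.Repr.arbitrary R c).convMul_apply]
  simp only [ptInv, pt, ofConv_toConv, AlgHom.toLinearMap_apply, AlgHom.comp_apply, ← map_mul, ← map_sum]
  show f (∑ i ∈ _, _ * HopfAlgebra.antipode R _) = _
  rw [HopfAlgebra.sum_mul_antipode_eq_algebraMap_counit, AlgHom.commutes]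
  rfl

/-- Composition with a linear map. -/
noncomputable def push (r : T →ₗ[R] T') : W[T] →+ W[T'] where
  toFun x := toConv (r ∘ₗ x.ofConv)
  map_zero' := WithConv.ext (LinearMap.comp_zero _)
  map_add' _ _ := WithConv.ext (LinearMap.comp_add _ _ _)

/-- Composition with an algebra map. -/
noncomputable def ph (f : T →ₐ[R] T') : W[T] →+* W[T'] where
  __ := push f.toLinearMap
  map_one' := WithConv.ext (LinearMap.ext fun _ => f.commutes _)
  map_mul' x y := WithConv.ext (LinearMap.algHom_comp_convMul_distrib f x y)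

@[simp] lemma push_apply (r : T →ₗ[R] T') (x : W[T]) (c : C) : push r x c = r (x c) := rfl

@[simp] lemma ph_apply (f : T →ₐ[R] T') (x : W[T]) (c : C) : ph f x c = f (x c) := rfl

lemma ph_pt (f : T →ₐ[R] T') (g : C →ₐ[R] T) : ph f (pt g) = pt (f.comp g) := rfl

lemma ph_ptInv (f : T →ₐ[R] T') (g : C →ₐ[R] T) : ph f (ptInv g) = ptInv (f.comp g) := rfl

/-- All values lie in `K T`. -/
def Val (K : Ideal R) (x : W[T]) : Prop := ∀ c, x c ∈ Ideal.map (algebraMap R T) K

lemma Val.add {K : Ideal R} {x y : W[T]} (hx : Val K x) (hy : Val K y) : Val K (x + y) :=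
  fun c => Ideal.add_mem _ (hx c) (hy c)

lemma Val.sub {K : Ideal R} {x y : W[T]} (hx : Val K x) (hy : Val K y) : Val K (x - y) :=
  fun c => Ideal.sub_mem _ (hx c) (hy c)

lemma Val.neg {K : Ideal R} {x : W[T]} (hx : Val K x) : Val K (-x) :=
  fun c => neg_mem (hx c)

lemma Val.mul_left {K : Ideal R} (z : W[T]) {x : W[T]} (hx : Val K x) : Val K (z * x) := fun c => by
  rw [(Coalgebra.Repr.arbitrary R c).convMul_apply]
  exact Ideal.sum_mem _ fun i _ => Ideal.mul_mem_left _ _ (hx _)

lemma Val.mul_right {K : Ideal R} (z : W[T]) {x : W[T]} (hx : Val K x) : Val K (x * z) := fun c => by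
  rw [(Coalgebra.Repr.arbitrary R c).convMul_apply]
  exact Ideal.sum_mem _ fun i _ => Ideal.mul_mem_right _ _ (hx _)

lemma Val.mul {K K' : Ideal R} {x y : W[T]} (hx : Val K x) (hy : Val K' y) : Val (K * K') (x * y) :=
  fun c => by
    rw [(Coalgebra.Repr.arbitrary R c).convMul_apply, Ideal.map_mul]
    exact Ideal.sum_mem _ fun i _ => Ideal.mul_mem_mul (hx _) (hy _)

lemma Val.mono {K K' : Ideal R} (h : K ≤ K') {x : W[T]} (hx : Val K x) : Val K' x :=
  fun c => Ideal.map_mono h (hx c)

lemma map_mem_map {K : Ideal R} (r : T →ₗ[R] T') {x : T} (hx : x ∈ Ideal.map (algebraMap R T) K) :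
    r x ∈ Ideal.map (algebraMap R T') K := by
  have h : x ∈ K • (⊤ : Submodule R T) := by rw [Ideal.smul_top_eq_map]; exact hx
  have h' : r x ∈ K • (⊤ : Submodule R T') := by
    refine Submodule.smul_induction_on h (fun k hk y _ => ?_) (fun a b ha hb => ?_)
    · rw [map_smul]; exact Submodule.smul_mem_smul hk Submodule.mem_top
    · rw [map_add]; exact Submodule.add_mem _ ha hb
  rw [Ideal.smul_top_eq_map] at h'
  exact h'

lemma Val.push {K : Ideal R} (r : T →ₗ[R] T') {x : W[T]} (hx : Val K x) :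
    Val K (MultType.push r x) := fun c => map_mem_map r (hx c)

lemma Val.ph {K : Ideal R} (f : T →ₐ[R] T') {x : W[T]} (hx : Val K x) :
    Val K (MultType.ph f x) := fun c => map_mem_map f.toLinearMap (hx c)

end

variable {A : Type u} [CommRing A] [Bialgebra R A]

/-- The two compositions `C → A ⊗ A` agree modulo `J`. -/
def DefectLE (J : Ideal R) (φ : C →ₐ[R] A) : Prop :=
  ∀ c, Algebra.TensorProduct.map φ φ (Coalgebra.comul c) - Coalgebra.comul (φ c) ∈
    Ideal.map (algebraMap R (A ⊗[R] A)) J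

local notation "i₁" => (Algebra.TensorProduct.includeLeft : A →ₐ[R] A ⊗[R] A)
local notation "i₂" => (Algebra.TensorProduct.includeRight : A →ₐ[R] A ⊗[R] A)
local notation "Δ" => Bialgebra.comulAlgHom R A

lemma pt_mul_pt (φ : C →ₐ[R] A) (c : C) :
    (pt ((i₁).comp φ) * pt ((i₂).comp φ)) c = Algebra.TensorProduct.map φ φ (Coalgebra.comul c) := by
  rw [(Coalgebra.Repr.arbitrary R c).convMul_apply, ← (Coalgebra.Repr.arbitrary R c).eq, map_sum]
  simp [pt]

lemma defectLE_iff (J : Ideal R) (φ : C →ₐ[R] A) :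
    DefectLE J φ ↔ Val J (pt ((i₁).comp φ) * pt ((i₂).comp φ) - pt ((Δ).comp φ)) := by
  refine forall_congr' fun c => ?_
  show _ ↔ (pt ((i₁).comp φ) * pt ((i₂).comp φ)) c - _ ∈ _
  rw [pt_mul_pt]
  rfl

/-- A functional which is right invariant modulo `J`. -/
def IsRightIntMod (J : Ideal R) (l : A →ₗ[R] R) : Prop :=
  ∀ a, ∑ i ∈ (Coalgebra.Repr.arbitrary R a).index,
      l ((Coalgebra.Repr.arbitrary R a).right i) • (Coalgebra.Repr.arbitrary R a).left i - l a • (1 : A) ∈
    Ideal.map (algebraMap R A) J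

lemma IsRightInt.isRightIntMod {l : A →ₗ[R] R} (hr : IsRightInt l) (J : Ideal R) : IsRightIntMod J l := by
  intro a
  have h := congr(TensorProduct.lid R A $(hr a))
  rw [← (Coalgebra.Repr.arbitrary R a).eq] at h
  simp only [map_sum, TensorProduct.comm_tmul, LinearMap.rTensor_tmul, TensorProduct.lid_tmul] at h
  rw [h, sub_self]
  exact Submodule.zero_mem _

/-- One step of the lifting: the defect gets squared. -/
theorem exists_step [Algebra.FormallySmooth R C] (l : A →ₗ[R] R) (h1 : l 1 = 1)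
    {J : Ideal R} (hr : IsRightIntMod J l) (hJ : IsNilpotent J) (φ : C →ₐ[R] A) (hφ : DefectLE J φ) :
    ∃ ψ : C →ₐ[R] A, DefectLE (J * J) ψ ∧ ∀ c, ψ c - φ c ∈ Ideal.map (algebraMap R A) J := by
  let ι : A ⊗[R] A →ₐ[R] ((A ⊗[R] A) ⊗[R] A) := Algebra.TensorProduct.includeLeft
  let f123 : A ⊗[R] A →ₐ[R] ((A ⊗[R] A) ⊗[R] A) := Algebra.TensorProduct.map Δ (AlgHom.id R A)
  let f23 : A ⊗[R] A →ₐ[R] ((A ⊗[R] A) ⊗[R] A) := Algebra.TensorProduct.map i₂ (AlgHom.id R A)
  let f123' : A ⊗[R] A →ₐ[R] ((A ⊗[R] A) ⊗[R] A) :=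
    Algebra.TensorProduct.lift (ι.comp i₁) (f23.comp Δ) fun _ _ => Commute.all _ _
  let Λ : ((A ⊗[R] A) ⊗[R] A) →ₗ[R] A ⊗[R] A :=
    (TensorProduct.rid R (A ⊗[R] A)).toLinearMap ∘ₗ l.lTensor (A ⊗[R] A)
  let r : A ⊗[R] A →ₗ[R] A := (TensorProduct.rid R A).toLinearMap ∘ₗ l.lTensor A
  have hΛ : ∀ x a, Λ (x ⊗ₜ a) = l a • x := fun x a => by simp [Λ]
  have hr' : ∀ x a, r (x ⊗ₜ a) = l a • x := fun x a => by simp [r]
  have hΛι : ∀ x z, Λ (ι x * z) = x * Λ z := by
    intro x z
    induction z using TensorProduct.induction_on with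
    | zero => simp
    | tmul y a =>
      show Λ ((x ⊗ₜ[R] (1 : A)) * (y ⊗ₜ[R] a)) = _
      rw [Algebra.TensorProduct.tmul_mul_tmul, _root_.one_mul, hΛ, hΛ, mul_smul_comm]
    | add a b ha hb => rw [mul_add, map_add, ha, hb, map_add, mul_add]
  -- the maps of points
  set g₁ := pt ((i₁).comp φ) with hg₁
  set g₂ := pt ((i₂).comp φ) with hg₂
  set gΔ := pt ((Δ).comp φ) with hgΔ
  set n₁ := ptInv ((i₁).comp φ) with hn₁
  set nΔ := ptInv ((Δ).comp φ) with hnΔ
  set D := g₁ * g₂ * nΔ - 1 with hD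
  have hDv : Val J D := by
    have : D = (g₁ * g₂ - gΔ) * nΔ := by rw [hD, sub_mul, pt_mul_inv]
    rw [this]
    exact ((defectLE_iff J φ).1 hφ).mul_right _
  have hcoassoc : ∀ a, f123' (Δ a) = f123 (Δ a) := by
    intro a
    have h := Coalgebra.coassoc_symm_apply (R := R) a
    show f123' (Coalgebra.comul a) = f123 (Coalgebra.comul a)
    have e1 : ∀ z, f123 z = (Coalgebra.comul (R := R) (A := A)).rTensor A z := by
      intro z
      induction z using TensorProduct.induction_on with
      | zero => simp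
      | tmul x y => simp [f123]
      | add a b ha hb => rw [map_add, map_add, ha, hb]
    have e2 : ∀ z, f123' z =
        (TensorProduct.assoc R A A A).symm ((Coalgebra.comul (R := R) (A := A)).lTensor A z) := by
      intro z
      induction z using TensorProduct.induction_on with
      | zero => simp
      | tmul x y =>
        simp only [f123', f23, ι, Algebra.TensorProduct.lift_tmul, AlgHom.comp_apply, LinearMap.lTensor_tmul,
          Bialgebra.comulAlgHom_apply]
        rw [← (Coalgebra.Repr.arbitrary R y).eq]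
        simp [map_sum, Finset.mul_sum, TensorProduct.tmul_sum]
      | add a b ha hb => rw [map_add, map_add, map_add, ha, hb]
    rw [e1, e2, h]
  -- the cocycle identity
  let a₁ := (ι.comp i₁).comp φ
  let M := (ι.comp Δ).comp φ
  let P := (f23.comp Δ).comp φ
  let Q := (f123.comp Δ).comp φ
  let a₂ := (ι.comp i₂).comp φ
  let a₃ := (Algebra.TensorProduct.includeRight : A →ₐ[R] ((A ⊗[R] A) ⊗[R] A)).comp φ
  have hf23₁ : f23.comp i₁ = ι.comp i₂ := AlgHom.ext fun x => by simp [f23, ι]
  have hf23₂ : f23.comp i₂ = (Algebra.TensorProduct.includeRight : A →ₐ[R] ((A ⊗[R] A) ⊗[R] A)) :=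
    AlgHom.ext fun x => by simp [f23, Algebra.TensorProduct.one_def]
  have hf123₁ : f123.comp i₁ = ι.comp Δ := AlgHom.ext fun x => by simp [f123, ι]
  have hf123₂ : f123.comp i₂ = (Algebra.TensorProduct.includeRight : A →ₐ[R] ((A ⊗[R] A) ⊗[R] A)) :=
    AlgHom.ext fun x => by simp [f123, Algebra.TensorProduct.one_def]
  have hf123'₁ : f123'.comp i₁ = ι.comp i₁ := AlgHom.ext fun x => by simp [f123']
  have hf123'₂ : f123'.comp i₂ = f23.comp Δ := AlgHom.ext fun x => by simp [f123']
  have e12 : ph ι (g₁ * g₂ * nΔ) = pt a₁ * pt a₂ * ptInv M := by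
    simp only [map_mul, g₁, g₂, nΔ, ph_pt, ph_ptInv, ← AlgHom.comp_assoc]
    rfl
  have e123 : ph f123 (g₁ * g₂ * nΔ) = pt M * pt a₃ * ptInv Q := by
    simp only [map_mul, g₁, g₂, nΔ, ph_pt, ph_ptInv, ← AlgHom.comp_assoc, hf123₁, hf123₂]
    rfl
  have e23 : ph f23 (g₁ * g₂ * nΔ) = pt a₂ * pt a₃ * ptInv P := by
    simp only [map_mul, g₁, g₂, nΔ, ph_pt, ph_ptInv, ← AlgHom.comp_assoc, hf23₁, hf23₂]
    rfl
  have e123' : ph f123' (g₁ * g₂ * nΔ) = pt a₁ * pt P * ptInv Q := by
    simp only [map_mul, g₁, g₂, nΔ, ph_pt, ph_ptInv, ← AlgHom.comp_assoc, hf123'₁, hf123'₂,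
      show f123'.comp Δ = f123.comp Δ from AlgHom.ext hcoassoc]
    rfl
  have hcoc : (1 + ph ι D) * (1 + ph f123 D) =
      (1 + ph ι g₁ * ph f23 D * ph ι n₁) * (1 + ph f123' D) := by
    have hg : ph ι g₁ = pt a₁ := rfl
    have hn : ph ι n₁ = ptInv a₁ := rfl
    have h1' : pt a₁ * ptInv a₁ = 1 := pt_mul_inv _
    have hc : 1 + pt a₁ * (pt a₂ * pt a₃ * ptInv P - 1) * ptInv a₁ =
        pt a₁ * (pt a₂ * pt a₃ * ptInv P) * ptInv a₁ := by
      rw [mul_sub, sub_mul, _root_.mul_one, h1']; abel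
    simp only [hD, map_sub, map_one, e12, e123, e23, e123', hg, hn, add_sub_cancel]
    rw [hc]
    simp only [mul_assoc]
    simp only [← mul_assoc (ptInv M) (pt M), ← mul_assoc (ptInv a₁) (pt a₁),
      ← mul_assoc (ptInv P) (pt P), ptInv_mul, _root_.one_mul]
  -- integrate
  set b := push r D with hb
  have hbv : Val J b := hDv.push r
  have pushΛ_left : ∀ (y : W[A ⊗[R] A]) (z : W[((A ⊗[R] A) ⊗[R] A)]), push Λ (ph ι y * z) = y * push Λ z := by
    intro y z
    refine WithConv.ext (LinearMap.ext fun c => ?_)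
    show Λ ((ph ι y * z) c) = _
    rw [(Coalgebra.Repr.arbitrary R c).convMul_apply, (Coalgebra.Repr.arbitrary R c).convMul_apply, map_sum]
    simp [hΛι]
  have pushΛ_right : ∀ (y : W[A ⊗[R] A]) (z : W[((A ⊗[R] A) ⊗[R] A)]), push Λ (z * ph ι y) = push Λ z * y := by
    intro y z
    refine WithConv.ext (LinearMap.ext fun c => ?_)
    show Λ ((z * ph ι y) c) = _
    rw [(Coalgebra.Repr.arbitrary R c).convMul_apply, (Coalgebra.Repr.arbitrary R c).convMul_apply, map_sum]
    exact Finset.sum_congr rfl fun i _ => by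
      rw [ph_apply, mul_comm, hΛι, mul_comm]; rfl
  have hΛ12 : push Λ (ph ι D) = D := WithConv.ext (LinearMap.ext fun c => by
    show Λ (D c ⊗ₜ[R] (1 : A)) = D c
    rw [hΛ, h1, one_smul])
  have hlin : ∀ (f : A ⊗[R] A →ₐ[R] ((A ⊗[R] A) ⊗[R] A)) (i : A →ₐ[R] A ⊗[R] A),
      (∀ x y, Λ (f (x ⊗ₜ y)) = i (l y • x)) → push Λ (ph f D) = ph i b := by
    intro f i hfi
    refine WithConv.ext (LinearMap.ext fun c => ?_)
    show Λ (f (D c)) = i (r (D c))
    induction D c using TensorProduct.induction_on with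
    | zero => simp
    | tmul x y => rw [hfi, hr']
    | add a b ha hb => simp only [map_add, ha, hb]
  have hΛ123 : push Λ (ph f123 D) = ph Δ b := hlin _ _ fun x y => by
    simp [f123, hΛ]
  have hΛ23 : push Λ (ph f23 D) = ph i₂ b := hlin _ _ fun x y => by
    simp [f23, hΛ, TensorProduct.tmul_smul]
  have hΛ123' : Val (J * J) (push Λ (ph f123' D) - ph i₁ b) := by
    let L : A ⊗[R] A →ₗ[R] A ⊗[R] A :=
      Λ ∘ₗ f123'.toLinearMap - (i₁).toLinearMap ∘ₗ r
    have hL : ∀ z, L z ∈ Ideal.map (algebraMap R (A ⊗[R] A)) J := by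
      intro z
      induction z using TensorProduct.induction_on with
      | zero => simp
      | add p q hp hq => rw [map_add]; exact Ideal.add_mem _ hp hq
      | tmul x y =>
        have h := map_mem_map (TensorProduct.mk R A A x) (hr y)
        have e : L (x ⊗ₜ y) = TensorProduct.mk R A A x
            (∑ i ∈ (Coalgebra.Repr.arbitrary R y).index,
              l ((Coalgebra.Repr.arbitrary R y).right i) • (Coalgebra.Repr.arbitrary R y).left i - l y • (1 : A)) := by
          simp only [L, LinearMap.sub_apply, LinearMap.comp_apply, AlgHom.toLinearMap_apply, f123', f23, ι,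
            Algebra.TensorProduct.lift_tmul, AlgHom.comp_apply,
            Bialgebra.comulAlgHom_apply, Algebra.TensorProduct.includeLeft_apply, hr']
          rw [← (Coalgebra.Repr.arbitrary R y).eq]
          simp only [map_sum, Finset.mul_sum, Algebra.TensorProduct.map_tmul,
            Algebra.TensorProduct.includeRight_apply, AlgHom.id_apply, Algebra.TensorProduct.tmul_mul_tmul,
            _root_.one_mul, _root_.mul_one, hΛ, map_sub, map_smul, TensorProduct.mk_apply,
            TensorProduct.smul_tmul']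
        rw [e]
        exact h
    intro c
    show Λ (f123' (D c)) - (Algebra.TensorProduct.includeLeft : A →ₐ[R] A ⊗[R] A) (r (D c)) ∈ _
    have h : D c ∈ J • (⊤ : Submodule R (A ⊗[R] A)) := by rw [Ideal.smul_top_eq_map]; exact hDv c
    show L (D c) ∈ _
    refine Submodule.smul_induction_on h (fun k hk z _ => ?_) (fun p q hp hq => ?_)
    · rw [map_smul, Algebra.smul_def, Ideal.map_mul]
      exact Ideal.mul_mem_mul (Ideal.mem_map_of_mem _ hk) (hL z)
    · rw [map_add]; exact Ideal.add_mem _ hp hq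
  set y := g₁ * ph i₂ b * n₁ with hy
  have hyv : Val J y := ((hbv.ph _).mul_left _).mul_right _
  have hE : Val (J * J) (D + ph Δ b - y - ph i₁ b) := by
    have h : ph ι D + ph f123 D - ph ι g₁ * ph f23 D * ph ι n₁ - ph f123' D =
        ph ι g₁ * ph f23 D * ph ι n₁ * ph f123' D - ph ι D * ph f123 D := by
      rw [← sub_eq_zero, ← sub_eq_zero.2 hcoc]
      noncomm_ring
    have h' := congrArg (push Λ) h
    rw [map_sub, map_sub, map_add, hΛ12, hΛ123, pushΛ_right, pushΛ_left, hΛ23, ← hy] at h'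
    rw [show D + ph Δ b - y - ph i₁ b = (D + ph Δ b - y - push Λ (ph f123' D)) +
      (push Λ (ph f123' D) - ph i₁ b) by abel, h']
    refine Val.add ?_ hΛ123'
    exact Val.push Λ ((((((hDv.ph f23).mul_left _).mul_right _).mul (hDv.ph f123'))).sub
      ((hDv.ph ι).mul (hDv.ph f123)))
  -- the corrected map, modulo `J * J`
  set w := (1 - b) * pt φ with hw
  have hw' : Val (J * J) (ph i₁ w * ph i₂ w - ph Δ w) := by
    have e : ph i₁ w * ph i₂ w - ph Δ w =
        ((D + ph Δ b - y - ph i₁ b) +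
          (ph i₁ b * y - ph i₁ b * D - y * D + ph i₁ b * y * D)) * gΔ := by
      have e1 : g₁ * n₁ = 1 := pt_mul_inv _
      have e2 : n₁ * g₁ = 1 := ptInv_mul _
      have e3 : n₁ * (1 + D) * gΔ = g₂ := by
        rw [hD, add_sub_cancel, mul_assoc g₁ g₂ nΔ, ← mul_assoc, e2, _root_.one_mul, mul_assoc, ptInv_mul,
          _root_.mul_one]
      have e4 : g₁ * (1 - ph i₂ b) * n₁ = 1 - y := by
        rw [mul_sub, sub_mul, _root_.mul_one, e1]
      calc ph i₁ w * ph i₂ w - ph Δ w
          = (1 - ph i₁ b) * g₁ * ((1 - ph i₂ b) * g₂) - (1 - ph Δ b) * gΔ := by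
            simp only [hw, map_mul, map_sub, map_one, ph_pt]
            rfl
        _ = (1 - ph i₁ b) * (g₁ * (1 - ph i₂ b) * n₁) * (1 + D) * gΔ - (1 - ph Δ b) * gΔ := by
            rw [← e3]; noncomm_ring
        _ = _ := by rw [e4]; noncomm_ring
    rw [e]
    exact (hE.add ((((hbv.ph _).mul hyv).sub ((hbv.ph _).mul hDv)).sub (hyv.mul hDv) |>.add
      (((hbv.ph _).mul hyv).mul_right _))).mul_right _
  -- it is multiplicative modulo `J * J`
  let I2 : Ideal A := Ideal.map (algebraMap R A) (J * J)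
  let q : A →ₐ[R] A ⧸ I2 := Ideal.Quotient.mkₐ R I2
  have hq0 : ∀ z ∈ I2, q z = 0 := fun z hz => Ideal.Quotient.eq_zero_iff_mem.2 hz
  have hDmul : ∀ x z, D (x * z) = algebraMap R _ (Coalgebra.counit x) * D z +
      D x * algebraMap R _ (Coalgebra.counit z) + D x * D z := by
    intro x z
    let du : WithConv (C →ₐ[R] A ⊗[R] A) :=
      toConv ((i₁).comp φ) * toConv ((i₂).comp φ) *
        toConv (((Δ).comp φ).comp (HopfAlgebra.antipodeAlgHom R C))
    have hd : ∀ c, D c = du c - algebraMap R _ (Coalgebra.counit c) := by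
      intro c
      have : g₁ * g₂ * nΔ = toConv du.ofConv.toLinearMap := by
        simp only [du, g₁, g₂, nΔ, pt, ptInv, AlgHom.toLinearMap_convMul, ofConv_toConv]
      rw [hD, this]
      rfl
    simp only [hd, map_mul, Bialgebra.counit_mul]
    ring
  have hb1 : b 1 = 0 := by
    show r (D 1) = 0
    have : D 1 = 0 := by
      rw [hD]
      show (g₁ * g₂ * nΔ) 1 - _ = 0
      simp [g₁, g₂, nΔ, pt, ptInv, LinearMap.convMul_apply, Algebra.TensorProduct.one_def]
    rw [this, map_zero]
  let u : C →ₐ[R] A ⧸ I2 :=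
    AlgHom.ofLinearMap (q.toLinearMap ∘ₗ ((1 : W[A]) - b).ofConv)
      (by
        show q (algebraMap R A (Coalgebra.counit (1 : C)) - b 1) = 1
        rw [hb1, Bialgebra.counit_one, map_one, sub_zero, map_one])
      (by
        intro x z
        show q (algebraMap R A (Coalgebra.counit (x * z)) - b (x * z)) =
          q (algebraMap R A (Coalgebra.counit x) - b x) * q (algebraMap R A (Coalgebra.counit z) - b z)
        rw [← map_mul, ← sub_eq_zero, ← map_sub]
        refine hq0 _ ?_
        have hb' : b (x * z) = Coalgebra.counit (R := R) x • b z + Coalgebra.counit (R := R) z • b x + r (D x * D z) := by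
          show r (D (x * z)) = _
          rw [hDmul, mul_comm (D x) (algebraMap R _ _), ← Algebra.smul_def, ← Algebra.smul_def, map_add,
            map_add, map_smul, map_smul]
          rfl
        have e : algebraMap R A (Coalgebra.counit (x * z)) - b (x * z) -
            (algebraMap R A (Coalgebra.counit x) - b x) * (algebraMap R A (Coalgebra.counit z) - b z) =
            - r (D x * D z) - b x * b z := by
          rw [hb', Bialgebra.counit_mul, map_mul, Algebra.smul_def, Algebra.smul_def]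
          ring
        rw [e]
        refine Ideal.sub_mem _ (neg_mem (map_mem_map r ?_)) ?_
        · rw [Ideal.map_mul]; exact Ideal.mul_mem_mul (hDv x) (hDv z)
        · show _ ∈ Ideal.map _ _
          rw [Ideal.map_mul]; exact Ideal.mul_mem_mul (hbv x) (hbv z))
  let v : C →ₐ[R] A ⧸ I2 := (toConv u * toConv (q.comp φ)).ofConv
  have hv : pt v = ph q w := by
    show toConv v.toLinearMap = _
    rw [hw, map_mul, AlgHom.toLinearMap_convMul]
    rfl
  have hnil : IsNilpotent I2 := by
    obtain ⟨n, hn⟩ := hJ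
    refine ⟨n, ?_⟩
    show Ideal.map (algebraMap R A) (J * J) ^ n = _
    rw [← Ideal.map_pow, mul_pow, hn, zero_mul]
    simp
  let ψ : C →ₐ[R] A := Algebra.FormallySmooth.lift I2 hnil v
  have hψ : Val (J * J) (pt ψ - w) := fun c => by
    refine (Ideal.Quotient.mk_eq_mk_iff_sub_mem _ _).1 ?_
    show Ideal.Quotient.mk I2 (ψ c) = Ideal.Quotient.mk I2 (w c)
    rw [Algebra.FormallySmooth.mk_lift]
    exact congr($hv c)
  refine ⟨ψ, (defectLE_iff _ ψ).2 ?_, fun c => ?_⟩
  · have e : pt ((i₁).comp ψ) * pt ((i₂).comp ψ) - pt ((Δ).comp ψ) =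
        ph i₁ (pt ψ - w) * ph i₂ (pt ψ) + ph i₁ w * ph i₂ (pt ψ - w) - ph Δ (pt ψ - w) +
          (ph i₁ w * ph i₂ w - ph Δ w) := by
      simp only [map_sub, ph_pt]
      noncomm_ring
    rw [e]
    exact ((((hψ.ph _).mul_right _).add ((hψ.ph _).mul_left _)).sub (hψ.ph _)).add hw'
  · have h : Val J (pt ψ - pt φ) := by
      have e : pt ψ - pt φ = (pt ψ - w) - b * pt φ := by rw [hw]; noncomm_ring
      rw [e]
      exact (hψ.mono Ideal.mul_le_right).sub (hbv.mul_right _)
    exact h c

end Groth.Agent.MultType
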