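import Groth.Agent.MultType.LiftNil

/-!
Two homomorphisms congruent modulo a nilpotent ideal are conjugate, compatibly with a given one
(vanishing of the first Hochschild cohomology).
-/

universe u v

open TensorProduct WithConv
open scoped TensorProduct

namespace Groth.Agent.MultType

variable {R : Type u} [CommRing R] {C : Type u} [CommRing C] [HopfAlgebra R C]

local notation "W[" T "]" => WithConv (C →ₗ[R] T)

section

variable {A : Type u} [CommRing A] [Bialgebra R A]

/-- A bialgebra map is a homomorphism for the universal pair of points. -/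
lemma defect_zero (φ : C →ₐc[R] A) :
    ph (Algebra.TensorProduct.includeLeft : A →ₐ[R] A ⊗[R] A) (pt (φ : C →ₐ[R] A)) *
      ph (Algebra.TensorProduct.includeRight : A →ₐ[R] A ⊗[R] A) (pt (φ : C →ₐ[R] A)) =
      ph (Bialgebra.comulAlgHom R A) (pt (φ : C →ₐ[R] A)) := by
  rw [ph_pt, ph_pt, ph_pt]
  refine WithConv.ext (LinearMap.ext fun c => ?_)
  refine (pt_mul_pt (φ : C →ₐ[R] A) c).trans ?_
  show _ = Coalgebra.comul (φ c)
  rw [← CoalgHomClass.map_comp_comul_apply]
  induction Coalgebra.comul (R := R) c using TensorProduct.induction_on with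
  | zero => simp
  | tmul x y => simp
  | add a b ha hb => simp only [map_add, ha, hb]

/-- Conjugation of a bialgebra map by a point of the target group. -/
lemma exists_conj (g : C →ₐ[R] R) (φ : C →ₐc[R] A) :
    ∃ φ' : C →ₐc[R] A, pt (φ' : C →ₐ[R] A) =
      pt ((Algebra.ofId R A).comp g) * pt (φ : C →ₐ[R] A) * ptInv ((Algebra.ofId R A).comp g) := by
  set G : C →ₐ[R] A := (Algebra.ofId R A).comp g
  let ψ : C →ₐ[R] A := (toConv G * toConv (φ : C →ₐ[R] A) *
    toConv (G.comp (HopfAlgebra.antipodeAlgHom R C))).ofConv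
  have hψ : pt ψ = pt G * pt (φ : C →ₐ[R] A) * ptInv G := by
    simp only [ψ, pt, ptInv, AlgHom.toLinearMap_convMul, ofConv_toConv]
  obtain ⟨φ', hφ'⟩ := exists_bialgHom_of_defect (φ := ψ) ((defectLE_iff _ ψ).2 (by
    rw [← ph_pt, ← ph_pt, ← ph_pt, hψ]
    simp only [map_mul]
    have e : ∀ f : A →ₐ[R] A ⊗[R] A, ph f (pt G) = pt ((Algebra.ofId R (A ⊗[R] A)).comp g) ∧
        ph f (ptInv G) = ptInv ((Algebra.ofId R (A ⊗[R] A)).comp g) := by
      intro f
      have h : f.comp G = (Algebra.ofId R (A ⊗[R] A)).comp g := AlgHom.ext fun c => f.commutes _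
      exact ⟨by rw [ph_pt, h], by rw [ph_ptInv, h]⟩
    simp only [(e _).1, (e _).2]
    set P := pt ((Algebra.ofId R (A ⊗[R] A)).comp g)
    set Q := ptInv ((Algebra.ofId R (A ⊗[R] A)).comp g)
    have hQP : Q * P = 1 := ptInv_mul _
    rw [← defect_zero φ]
    simp only [_root_.mul_assoc]
    rw [← _root_.mul_assoc Q P, hQP, _root_.one_mul, sub_self]
    exact fun c => Submodule.zero_mem _))
  refine ⟨φ', ?_⟩
  rw [← hψ, show (φ' : C →ₐ[R] A) = ψ from AlgHom.ext hφ']

/-- One step: conjugation squares the congruence. -/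
theorem exists_conj_step [Algebra.FormallySmooth R C] (l : A →ₗ[R] R) (h1 : l 1 = 1) (hr : IsRightInt l)
    {J : Ideal R} (hJ : IsNilpotent J) (x y : C →ₐc[R] A)
    (hxy : Val J (pt (y : C →ₐ[R] A) - pt (x : C →ₐ[R] A))) :
    ∃ g : C →ₐ[R] R, (∀ c, g c - Coalgebra.counit c ∈ J) ∧
      Val (J * J) (pt (y : C →ₐ[R] A) -
        pt ((Algebra.ofId R A).comp g) * pt (x : C →ₐ[R] A) * ptInv ((Algebra.ofId R A).comp g)) := by
  let i₁ : A →ₐ[R] A ⊗[R] A := Algebra.TensorProduct.includeLeft
  let i₂ : A →ₐ[R] A ⊗[R] A := Algebra.TensorProduct.includeRight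
  let Δ : A →ₐ[R] A ⊗[R] A := Bialgebra.comulAlgHom R A
  let r : A ⊗[R] A →ₗ[R] A := (TensorProduct.rid R A).toLinearMap ∘ₗ l.lTensor A
  have hr' : ∀ a b, r (a ⊗ₜ b) = l b • a := fun a b => by simp [r]
  set X := pt (x : C →ₐ[R] A) with hX
  set Y := pt (y : C →ₐ[R] A) with hY
  set Xi := ptInv (x : C →ₐ[R] A) with hXi
  set d := Y * Xi - 1 with hd
  have hdv : Val J d := by
    rw [hd, show Y * Xi - 1 = (Y - X) * Xi by rw [sub_mul, hX, hXi, pt_mul_inv]]
    exact hxy.mul_right _
  have hYd : Y = (1 + d) * X := by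
    rw [hd, add_sub_cancel, _root_.mul_assoc, hX, hXi, ptInv_mul, _root_.mul_one]
  set b₀ := push l d with hb₀
  set B := ph (Algebra.ofId R A) b₀ with hB
  have hbv : Val J b₀ := hdv.push l
  have hBv : Val J B := hbv.ph _
  have key : Val (J * J) (d + X * B * Xi - B) := by
    have e1 : ph i₁ X * ph i₁ Xi = 1 := by rw [← map_mul, hX, hXi, pt_mul_inv, map_one]
    have hcoc : ph i₁ d + ph i₁ X * ph i₂ d * ph i₁ Xi + ph i₁ d * (ph i₁ X * ph i₂ d * ph i₁ Xi)
        - ph Δ d = 0 := by
      have h := defect_zero y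
      rw [← hY, hYd, map_mul, map_mul, map_mul, ← defect_zero x, ← hX, map_add, map_add, map_add, map_one,
        map_one, map_one] at h
      change (1 + ph i₁ d) * ph i₁ X * ((1 + ph i₂ d) * ph i₂ X) = (1 + ph Δ d) * (ph i₁ X * ph i₂ X) at h
      have e2 : ph i₁ Xi * ph i₁ X = 1 := by rw [← map_mul, hX, hXi, ptInv_mul, map_one]
      have e3 : ph i₂ X * ph i₂ Xi = 1 := by rw [← map_mul, hX, hXi, pt_mul_inv, map_one]
      have h' := congrArg (fun z => z * (ph i₂ Xi * ph i₁ Xi)) h
      simp only [_root_.mul_assoc] at h'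
      simp only [← _root_.mul_assoc (ph i₂ X) (ph i₂ Xi), e3, _root_.one_mul, e1, _root_.mul_one] at h'
      have e4 : ph i₁ X * ((1 + ph i₂ d) * ph i₁ Xi) = 1 + ph i₁ X * (ph i₂ d * ph i₁ Xi) := by
        rw [add_mul, mul_add, _root_.one_mul, e1]
      rw [e4] at h'
      rw [_root_.mul_assoc (ph i₁ X) (ph i₂ d)]
      rw [← sub_eq_zero] at h'
      rw [← h']
      noncomm_ring
    have hl : push r (ph i₁ d) = d := WithConv.ext (LinearMap.ext fun c => by
      show r (d c ⊗ₜ[R] (1 : A)) = d c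
      rw [hr', h1, one_smul])
    have h2 : push r (ph i₂ d) = B := WithConv.ext (LinearMap.ext fun c => by
      show r ((1 : A) ⊗ₜ[R] d c) = algebraMap R A (l (d c))
      rw [hr', Algebra.algebraMap_eq_smul_one])
    have hΔ : push r (ph Δ d) = B := WithConv.ext (LinearMap.ext fun c => by
      show r (Coalgebra.comul (d c)) = algebraMap R A (l (d c))
      have h := congr(TensorProduct.lid R A $(hr (d c)))
      rw [← (Coalgebra.Repr.arbitrary R (d c)).eq] at h
      simp only [map_sum, TensorProduct.comm_tmul, LinearMap.rTensor_tmul, TensorProduct.lid_tmul] at h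
      rw [← (Coalgebra.Repr.arbitrary R (d c)).eq, map_sum, Algebra.algebraMap_eq_smul_one, ← h]
      exact Finset.sum_congr rfl fun i _ => hr' _ _)
    have hlin : ∀ (a : A) (z : A ⊗[R] A), r (i₁ a * z) = a * r z := by
      intro a z
      induction z using TensorProduct.induction_on with
      | zero => simp
      | tmul p q => simp [i₁, hr', Algebra.TensorProduct.tmul_mul_tmul]
      | add p q hp hq => simp only [mul_add, map_add, hp, hq]
    have hmid : push r (ph i₁ X * ph i₂ d * ph i₁ Xi) = X * B * Xi := by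
      rw [← h2]
      refine WithConv.ext (LinearMap.ext fun c => ?_)
      show r ((ph i₁ X * ph i₂ d * ph i₁ Xi) c) = _
      rw [(Coalgebra.Repr.arbitrary R c).convMul_apply, (Coalgebra.Repr.arbitrary R c).convMul_apply, map_sum]
      refine Finset.sum_congr rfl fun i _ => ?_
      generalize (Coalgebra.Repr.arbitrary R c).left i = c₁
      generalize (Coalgebra.Repr.arbitrary R c).right i = c₂
      rw [ph_apply, mul_comm, hlin, mul_comm]
      congr 1
      rw [(Coalgebra.Repr.arbitrary R c₁).convMul_apply, (Coalgebra.Repr.arbitrary R c₁).convMul_apply, map_sum]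
      exact Finset.sum_congr rfl fun j _ => by rw [ph_apply, hlin]; rfl
    have h := congrArg (push r) hcoc
    rw [map_sub, map_add, map_add, map_zero, hl, hmid, hΔ] at h
    rw [show d + X * B * Xi - B = - push r (ph i₁ d * (ph i₁ X * ph i₂ d * ph i₁ Xi)) by
      rw [← sub_eq_zero, ← h]; abel]
    exact (((hdv.ph _).mul (((hdv.ph _).mul_left _).mul_right _)).push r).neg
  -- the correcting point
  let q : R →ₐ[R] R ⧸ (J * J) := Ideal.Quotient.mkₐ R _
  have hdmul : ∀ a c, d (a * c) = algebraMap R A (Coalgebra.counit a) * d c +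
      d a * algebraMap R A (Coalgebra.counit c) + d a * d c := by
    intro a c
    let du : WithConv (C →ₐ[R] A) :=
      toConv (y : C →ₐ[R] A) * toConv ((x : C →ₐ[R] A).comp (HopfAlgebra.antipodeAlgHom R C))
    have hdu : ∀ c, d c = du c - algebraMap R A (Coalgebra.counit c) := by
      intro c
      have : Y * Xi = toConv du.ofConv.toLinearMap := by
        simp only [du, Y, Xi, pt, ptInv, AlgHom.toLinearMap_convMul, ofConv_toConv]
      rw [hd, this]
      rfl
    simp only [hdu, map_mul, Bialgebra.counit_mul]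
    ring
  have hb1 : b₀ 1 = 0 := by
    show l (d 1) = 0
    have : d 1 = 0 := by
      rw [hd]
      show (Y * Xi) 1 - _ = 0
      simp [hY, hXi, pt, ptInv, LinearMap.convMul_apply, Algebra.TensorProduct.one_def]
    rw [this, map_zero]
  have hmemR : ∀ z, z ∈ Ideal.map (algebraMap R R) (J * J) → q z = 0 := fun z hz => by
    rw [Algebra.algebraMap_self, Ideal.map_id] at hz
    exact Ideal.Quotient.eq_zero_iff_mem.2 hz
  let u : C →ₐ[R] R ⧸ (J * J) :=
    AlgHom.ofLinearMap (q.toLinearMap ∘ₗ ((1 : W[R]) + b₀).ofConv)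
      (by
        show q (algebraMap R R (Coalgebra.counit (1 : C)) + b₀ 1) = 1
        rw [hb1, Bialgebra.counit_one, map_one, add_zero, map_one])
      (by
        intro a c
        show q (algebraMap R R (Coalgebra.counit (a * c)) + b₀ (a * c)) =
          q (algebraMap R R (Coalgebra.counit a) + b₀ a) * q (algebraMap R R (Coalgebra.counit c) + b₀ c)
        rw [← map_mul, ← sub_eq_zero, ← map_sub]
        refine hmemR _ ?_
        have e : b₀ (a * c) = Coalgebra.counit (R := R) a * b₀ c + b₀ a * Coalgebra.counit (R := R) c +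
            l (d a * d c) := by
          show l (d (a * c)) = _ * l (d c) + l (d a) * _ + _
          rw [hdmul, mul_comm (d a) (algebraMap R A _), ← Algebra.smul_def, ← Algebra.smul_def, map_add,
            map_add, map_smul, map_smul, smul_eq_mul, smul_eq_mul]
          ring
        rw [show algebraMap R R (Coalgebra.counit (a * c)) + b₀ (a * c) -
            (algebraMap R R (Coalgebra.counit a) + b₀ a) * (algebraMap R R (Coalgebra.counit c) + b₀ c) =
            l (d a * d c) - b₀ a * b₀ c by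
          rw [e, Bialgebra.counit_mul]; simp; ring]
        refine Ideal.sub_mem _ (map_mem_map l ?_) ?_
        · rw [Ideal.map_mul]; exact Ideal.mul_mem_mul (hdv a) (hdv c)
        · rw [Ideal.map_mul]; exact Ideal.mul_mem_mul (hbv a) (hbv c))
  have hnil : IsNilpotent (J * J) := by
    obtain ⟨n, hn⟩ := hJ
    exact ⟨n, by rw [mul_pow, hn, zero_mul]⟩
  let g : C →ₐ[R] R := Algebra.FormallySmooth.lift (J * J) hnil u
  have hg : ∀ c, g c - (algebraMap R R (Coalgebra.counit c) + b₀ c) ∈ J * J := fun c => by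
    refine (Ideal.Quotient.mk_eq_mk_iff_sub_mem _ _).1 ?_
    show Ideal.Quotient.mk (J * J) (g c) = _
    rw [Algebra.FormallySmooth.mk_lift]
    rfl
  refine ⟨g, fun c => ?_, ?_⟩
  · have h := add_mem (Ideal.mul_le_left (hg c)) (show b₀ c ∈ J by
      have := hbv c
      rwa [Algebra.algebraMap_self, Ideal.map_id] at this)
    simpa [sub_add_eq_sub_sub] using h
  · set G := pt ((Algebra.ofId R A).comp g) with hG
    set Gi := ptInv ((Algebra.ofId R A).comp g) with hGi
    set E := G - 1 - B with hE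
    have hEv : Val (J * J) E := by
      have h0 : Val (J * J) (pt g - 1 - b₀) := fun c => by
        rw [Algebra.algebraMap_self, Ideal.map_id]
        show g c - algebraMap R R (Coalgebra.counit c) - b₀ c ∈ J * J
        rw [sub_sub]
        exact hg c
      have := h0.ph (Algebra.ofId R A)
      rwa [map_sub, map_sub, map_one, ph_pt] at this
    have hXX : Xi * X = 1 := by rw [hX, hXi, ptInv_mul]
    have hGG : G * Gi = 1 := by rw [hG, hGi, pt_mul_inv]
    have e : Y - G * X * Gi =
        ((d + X * B * Xi - B) * X + ((1 + d) * X * E - E * X + d * X * B)) * Gi := by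
      have e' : Y * G - G * X = (d + X * B * Xi - B) * X + ((1 + d) * X * E - E * X + d * X * B) := by
        have hG' : G = 1 + B + E := by rw [hE]; abel
        have e5 : (d + X * B * Xi - B) * X = d * X + X * B - B * X := by
          rw [sub_mul, add_mul, _root_.mul_assoc (X * B), hXX, _root_.mul_one]
        rw [hYd, e5, hG']
        noncomm_ring
      rw [← e', sub_mul, _root_.mul_assoc Y G Gi, hGG, _root_.mul_one]
    rw [e]
    exact ((key.mul_right _).add (((hEv.mul_left _).sub (hEv.mul_right _)).add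
      ((hdv.mul_right _).mul hBv))).mul_right _

end

variable {A₁ : Type u} [CommRing A₁] [Bialgebra R A₁] {A₂ : Type u} [CommRing A₂] [Bialgebra R A₂]

/-- Lifting compatibly with a given homomorphism: conjugate the lift. -/
theorem exists_relative [Algebra.FormallySmooth R C] (l : A₁ →ₗ[R] R) (h1 : l 1 = 1) (hr : IsRightInt l)
    {I : Ideal R} (hI : IsNilpotent I) (α : A₂ →ₐc[R] A₁) (β : C →ₐc[R] A₁) (γ : C →ₐc[R] A₂)
    (h : ∀ c, α (γ c) - β c ∈ Ideal.map (algebraMap R A₁) I) :
    ∃ γ' : C →ₐc[R] A₂, (∀ c, γ' c - γ c ∈ Ideal.map (algebraMap R A₂) I) ∧ ∀ c, α (γ' c) = β c := by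
  have key : ∀ k : ℕ, ∃ γ' : C →ₐc[R] A₂, (∀ c, γ' c - γ c ∈ Ideal.map (algebraMap R A₂) I) ∧
      Val (I ^ 2 ^ k) (pt (β : C →ₐ[R] A₁) - pt ((α.comp γ' : C →ₐc[R] A₁) : C →ₐ[R] A₁)) := by
    intro k
    induction k with
    | zero =>
      refine ⟨γ, fun c => by simp, fun c => ?_⟩
      have := neg_mem (h c)
      rw [neg_sub] at this
      simpa [pt] using this
    | succ k ih =>
      obtain ⟨γ', hγ, hβ⟩ := ih
      have hle : I ^ 2 ^ k ≤ I := Ideal.pow_le_self (by positivity)
      obtain ⟨n, hn⟩ := hI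
      obtain ⟨g, hg, hstep⟩ := exists_conj_step l h1 hr (J := I ^ 2 ^ k)
        ⟨n, by rw [← pow_mul, mul_comm, pow_mul, hn]; exact zero_pow (by positivity)⟩ _ β hβ
      obtain ⟨φ, hφ⟩ := exists_conj g γ'
      refine ⟨φ, fun c => ?_, ?_⟩
      · set G := pt ((Algebra.ofId R A₂).comp g)
        set Gi := ptInv ((Algebra.ofId R A₂).comp g)
        have hG1 : Val I (G - 1) := fun c => by
          show algebraMap R A₂ (g c) - algebraMap R A₂ (Coalgebra.counit c) ∈ _
          rw [← map_sub]
          exact Ideal.mem_map_of_mem _ (hle (hg c))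
        have hGi1 : Val I (Gi - 1) := by
          rw [show Gi - 1 = -(Gi * (G - 1)) by rw [mul_sub, ptInv_mul, _root_.mul_one, neg_sub]]
          exact (hG1.mul_left _).neg
        have h2 := ((hG1.mul_right (pt (γ' : C →ₐ[R] A₂) * Gi)).add (hGi1.mul_left (pt (γ' : C →ₐ[R] A₂)))) c
        have e : (G - 1) * (pt (γ' : C →ₐ[R] A₂) * Gi) + pt (γ' : C →ₐ[R] A₂) * (Gi - 1) =
            pt (φ : C →ₐ[R] A₂) - pt (γ' : C →ₐ[R] A₂) := by
          rw [hφ]; noncomm_ring
        rw [e] at h2
        have h3 : φ c - γ' c ∈ Ideal.map (algebraMap R A₂) I := h2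
        simpa using add_mem h3 (hγ c)
      · have e : pt ((α.comp φ : C →ₐc[R] A₁) : C →ₐ[R] A₁) = pt ((Algebra.ofId R A₁).comp g) *
            pt ((α.comp γ' : C →ₐc[R] A₁) : C →ₐ[R] A₁) * ptInv ((Algebra.ofId R A₁).comp g) := by
          have h' := congrArg (ph (α : A₂ →ₐ[R] A₁)) hφ
          have hα : (α : A₂ →ₐ[R] A₁).comp ((Algebra.ofId R A₂).comp g) = (Algebra.ofId R A₁).comp g :=
            AlgHom.ext fun c => (α : A₂ →ₐ[R] A₁).commutes _
          rw [map_mul, map_mul, ph_pt, ph_pt, ph_pt, ph_ptInv, hα] at h'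
          exact h'
        rw [e, pow_succ, pow_mul, pow_two]
        exact hstep
  obtain ⟨N, hN⟩ := hI
  obtain ⟨γ', hγ, hβ⟩ := key N
  refine ⟨γ', hγ, fun c => ?_⟩
  have hle : I ^ 2 ^ N = (⊥ : Ideal R) :=
    le_bot_iff.1 ((Ideal.pow_le_pow_right Nat.lt_two_pow_self.le).trans_eq hN)
  rw [hle] at hβ
  have h0 := hβ c
  rw [Ideal.map_bot, Ideal.mem_bot] at h0
  exact (sub_eq_zero.1 h0).symm

end Groth.Agent.MultType
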