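import Groth.Agent.MultType.GroupLikeLift

/-!
Groups of multiplicative type modulo nil ideals.
-/

universe u

open TensorProduct SGA3b
open scoped TensorProduct

namespace Groth.Agent.MultType

/-- A group split on a cover and diagonalisable modulo a nil ideal is diagonalisable. -/
theorem isDiag_of_nil {R : Type u} [CommRing R] {A : Type u} [CommRing A] [HopfAlgebra R A] (I : Ideal R)
    (hI : ∀ x ∈ I, IsNilpotent x) (U : Cover R) (hU : ∀ i, IsDiag (U.T i) (U.T i ⊗[R] A))
    (h0 : IsDiag (R ⧸ I) ((R ⧸ I) ⊗[R] A)) : IsDiag R A := by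
  classical
  obtain ⟨M, _, ⟨e₀⟩⟩ := h0
  haveI : ∀ i, IsScalarTower R R (U.T i) := fun i => IsScalarTower.left R
  have hK : I ≤ nilradical R := fun x hx => mem_nilradical.2 (hI x hx)
  let ld : R ⊗[R] A ≃ₐc[R] A := Bialgebra.TensorProduct.lid R A
  choose y hy hyq using fun m : M => exists_groupLike_lift (R := R) (B := A) U hU I hK
    (e₀.symm (MonoidAlgebra.single m 1)) ((MonoidAlgebra.isGroupLikeElem_single_one m).map e₀.symm)
  let q := Algebra.TensorProduct.map (Ideal.Quotient.mkₐ R I) (AlgHom.id R A)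
  have hq : ∀ w : R ⊗[R] A, q w = (1 : R ⧸ I) ⊗ₜ[R] ld w := by
    intro w
    induction w using TensorProduct.induction_on with
    | zero => simp
    | tmul r a =>
      show (algebraMap R (R ⧸ I) r) ⊗ₜ[R] a = (1 : R ⧸ I) ⊗ₜ[R] (r • a)
      rw [TensorProduct.tmul_smul, TensorProduct.smul_tmul', Algebra.smul_def, _root_.mul_one]
    | add a b ha hb => simp only [map_add, ha, hb, TensorProduct.tmul_add]
  let x : M → A := fun m => ld (y m)
  have hx : ∀ m, IsGroupLikeElem R (x m) := fun m => (hy m).map ld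
  have hx0 : ∀ m, (1 : R ⧸ I) ⊗ₜ[R] x m = e₀.symm (MonoidAlgebra.single m 1) := fun m =>
    (hq (y m)).symm.trans (hyq m)
  have eqA : ∀ {a b : A}, IsGroupLikeElem R a → IsGroupLikeElem R b →
      (1 : R ⧸ I) ⊗ₜ[R] a = (1 : R ⧸ I) ⊗ₜ[R] b → a = b := by
    intro a b ha hb hab
    refine sub_eq_zero.1 (U.detect _ fun i => ?_)
    let mk := Ideal.Quotient.mkₐ R (I.map (algebraMap R (U.T i)))
    let σ : (R ⧸ I) →ₐ[R] U.T i ⧸ I.map (algebraMap R (U.T i)) :=
      Ideal.Quotient.liftₐ I (Algebra.ofId R _) fun r hr =>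
        Ideal.Quotient.eq_zero_iff_mem.2 (Ideal.mem_map_of_mem _ hr)
    have hl : ∀ z : A, IsGroupLikeElem R z → IsGroupLikeElem (U.T i) ((1 : U.T i) ⊗ₜ[R] z) := fun z hz => by
      have := isGroupLikeElem_map (Algebra.ofId R (U.T i)) (hz.map (ld.symm : A →ₐc[R] R ⊗[R] A))
      rw [show (ld.symm : A →ₐc[R] R ⊗[R] A) z = (1 : R) ⊗ₜ[R] z from rfl] at this
      simpa [Algebra.ofId_apply] using this
    have h2 := mem_map_ker mk Ideal.Quotient.mk_surjective ((1 : U.T i) ⊗ₜ[R] a - (1 : U.T i) ⊗ₜ[R] b) (by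
      have h3 := congr(Algebra.TensorProduct.map σ (AlgHom.id R A) $hab)
      simp only [Algebra.TensorProduct.map_tmul, map_one, AlgHom.id_apply] at h3
      rw [map_sub, sub_eq_zero]
      simpa using h3)
    rw [show RingHom.ker mk = I.map (algebraMap R (U.T i)) from Ideal.Quotient.mkₐ_ker R _] at h2
    rw [TensorProduct.tmul_sub, groupLike_eq_of_nil (hU i) (hl a ha) (hl b hb) _
      (Ideal.map_le_iff_le_comap.2 fun r hr => mem_nilradical.2 ((hI r hr).map _)) h2, sub_self]
  let θ : M →* A :=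
    { toFun := x
      map_one' := eqA (hx 1) IsGroupLikeElem.one (by
        rw [hx0, ← MonoidAlgebra.one_def, map_one, Algebra.TensorProduct.one_def])
      map_mul' := fun a b => eqA (hx _) ((hx a).mul (hx b)) (by
        rw [hx0, show (1 : R ⧸ I) ⊗ₜ[R] (x a * x b) = ((1 : R ⧸ I) ⊗ₜ[R] x a) * ((1 : R ⧸ I) ⊗ₜ[R] x b) by simp,
          hx0, hx0, ← map_mul, MonoidAlgebra.single_mul_single, _root_.mul_one]) }
  let φ : MonoidAlgebra R M →ₐc[R] A :=
    BialgHom.ofAlgHom (MonoidAlgebra.lift R A M θ)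
      (by ext m; simp [θ, (hx m).counit_eq_one]) (by ext m; simp [θ, (hx m).comul_eq_tmul_self])
  have hφ : ∀ m, φ (MonoidAlgebra.single m 1) = x m := fun m => by simp [φ, θ]
  let f₀ := Algebra.TensorProduct.map (AlgHom.id (R ⧸ I) (R ⧸ I)) (φ : MonoidAlgebra R M →ₐ[R] A)
  let θ' : M →* (R ⧸ I) ⊗[R] MonoidAlgebra R M :=
    (Algebra.TensorProduct.includeRight : MonoidAlgebra R M →ₐ[R] _).toMonoidHom.comp (MonoidAlgebra.of R M)
  let H : (R ⧸ I) ⊗[R] A →ₐ[R ⧸ I] (R ⧸ I) ⊗[R] MonoidAlgebra R M :=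
    (MonoidAlgebra.lift (R ⧸ I) _ M θ').comp (e₀ : (R ⧸ I) ⊗[R] A →ₐc[R ⧸ I] MonoidAlgebra (R ⧸ I) M).toAlgHom
  have hHx : ∀ m, H ((1 : R ⧸ I) ⊗ₜ[R] x m) = (1 : R ⧸ I) ⊗ₜ[R] MonoidAlgebra.single m 1 := fun m => by
    rw [hx0]
    show MonoidAlgebra.lift (R ⧸ I) _ M θ' (e₀ (e₀.symm (MonoidAlgebra.single m 1))) = _
    rw [show e₀ (e₀.symm (MonoidAlgebra.single m 1)) = MonoidAlgebra.single m 1 from e₀.apply_symm_apply _]
    simp [θ']
  have hHf : H.comp f₀ = AlgHom.id _ _ := Algebra.TensorProduct.ext (by ext) (MonoidAlgebra.algHom_ext'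
    (MonoidHom.ext fun m => by simp [f₀, hφ, hHx]) (by ext))
  have hfH : ∀ z, f₀ (H z) = z := by
    intro z
    obtain ⟨z, rfl⟩ : ∃ w, e₀.symm w = z := ⟨e₀ z, e₀.symm_apply_apply z⟩
    induction z using MonoidAlgebra.induction_linear with
    | zero => simp
    | add p r hp hr => simp only [map_add, hp, hr]
    | single m t =>
      rw [show (MonoidAlgebra.single m t : MonoidAlgebra (R ⧸ I) M) = t • MonoidAlgebra.single m 1 by simp,
        map_smul, map_smul, map_smul, ← hx0, hHx]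
      simp [f₀, hφ]
  have hbij : ∀ i, Function.Bijective
      (Algebra.TensorProduct.map (AlgHom.id (U.T i) (U.T i)) (φ : MonoidAlgebra R M →ₐ[R] A)) := by
    intro i
    let K := I.map (algebraMap R (U.T i))
    refine bijective_of_nil (R := R) (hU i) (isDiag_tensor (U.T i) ⟨M, inferInstance, ⟨BialgEquiv.refl R _⟩⟩) K
      (Ideal.map_le_iff_le_comap.2 fun r hr => mem_nilradical.2 ((hI r hr).map _)) φ ?_
    let T' := U.T i ⧸ K
    letI : Algebra (R ⧸ I) T' := (Ideal.Quotient.lift I (algebraMap R T') fun r hr =>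
      Ideal.Quotient.eq_zero_iff_mem.2 (Ideal.mem_map_of_mem _ hr)).toAlgebra
    haveI : IsScalarTower R (R ⧸ I) T' := IsScalarTower.of_algebraMap_eq fun r => rfl
    let ε₀ : (R ⧸ I) ⊗[R] MonoidAlgebra R M ≃ₐ[R ⧸ I] (R ⧸ I) ⊗[R] A :=
      AlgEquiv.ofAlgHom f₀ H (AlgHom.ext hfH) hHf
    let ε' := ((Algebra.TensorProduct.cancelBaseChange R (R ⧸ I) T' T' (MonoidAlgebra R M)).symm.trans
      (Algebra.TensorProduct.congr (AlgEquiv.refl : T' ≃ₐ[T'] T') ε₀)).trans
        (Algebra.TensorProduct.cancelBaseChange R (R ⧸ I) T' T' A)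
    have : ∀ z, Algebra.TensorProduct.map (AlgHom.id T' T') (φ : MonoidAlgebra R M →ₐ[R] A) z = ε' z := by
      intro z
      induction z using TensorProduct.induction_on with
      | zero => simp
      | tmul t c => simp [ε', ε₀, f₀]
      | add a b ha hb => simp only [map_add, ha, hb]
    rw [funext this]
    exact ε'.bijective
  have hinj : Function.Injective φ := by
    rw [injective_iff_map_eq_zero]
    intro z hz
    refine U.detect _ fun i => (hbij i).1 ?_
    rw [map_zero, Algebra.TensorProduct.map_tmul]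
    simp [hz]
  have hsurj : Function.Surjective φ := by
    intro a
    suffices Submodule.Quotient.mk (p := LinearMap.range (φ : MonoidAlgebra R M →ₐ[R] A).toLinearMap) a = 0 by
      exact (Submodule.Quotient.mk_eq_zero _).1 this
    refine U.detect _ fun i => ?_
    obtain ⟨w, hw⟩ := (hbij i).2 ((1 : U.T i) ⊗ₜ[R] a)
    have key : ∀ w, (LinearMap.range (φ : MonoidAlgebra R M →ₐ[R] A).toLinearMap).mkQ.lTensor (U.T i)
        (Algebra.TensorProduct.map (AlgHom.id (U.T i) (U.T i)) (φ : MonoidAlgebra R M →ₐ[R] A) w) = 0 := by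
      intro w
      induction w using TensorProduct.induction_on with
      | zero => simp
      | tmul t c =>
        have h0 : Submodule.Quotient.mk (p := LinearMap.range (φ : MonoidAlgebra R M →ₐ[R] A).toLinearMap)
            ((φ : MonoidAlgebra R M →ₐ[R] A) c) = 0 :=
          (Submodule.Quotient.mk_eq_zero _).2 (LinearMap.mem_range.2 ⟨c, rfl⟩)
        rw [Algebra.TensorProduct.map_tmul, LinearMap.lTensor_tmul, Submodule.mkQ_apply, h0, TensorProduct.tmul_zero]
      | add a b ha hb => simp only [map_add, ha, hb, add_zero]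
    have := key w
    rw [hw, LinearMap.lTensor_tmul] at this
    exact this
  exact ⟨M, inferInstance, ⟨(BialgEquiv.ofBijective φ ⟨hinj, hsurj⟩).symm⟩⟩

/-- The base change of a cover. -/
noncomputable def Cover.baseChange {R : Type u} [CommRing R] (U : Cover R) (R' : Type u) [CommRing R'] [Algebra R R'] :
    Cover R' where
  ι := U.ι
  T i := R' ⊗[R] U.T i
  detect {N} _ _ x hx := by
    letI : Module R N := Module.compHom N (algebraMap R R')
    haveI : IsScalarTower R R' N := IsScalarTower.of_algebraMap_smul fun r n => rfl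
    refine U.detect x fun i => ?_
    let f : (R' ⊗[R] U.T i) ⊗[R'] N →ₗ[R'] N ⊗[R] U.T i :=
      (TensorProduct.AlgebraTensorModule.cancelBaseChange R R' R' N (U.T i)).toLinearMap ∘ₗ
        (TensorProduct.comm R' (R' ⊗[R] U.T i) N).toLinearMap
    have h := congrArg (fun z => TensorProduct.comm R N (U.T i) (f z)) (hx i)
    simpa [f, Algebra.TensorProduct.one_def] using h

lemma Cover.baseChange_diag {R : Type u} [CommRing R] (U : Cover R) (R' : Type u) [CommRing R'] [Algebra R R']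
    {A : Type u} [CommRing A] [HopfAlgebra R A] (hU : ∀ i, IsDiag (U.T i) (U.T i ⊗[R] A)) (i : U.ι) :
    IsDiag (R' ⊗[R] U.T i) ((R' ⊗[R] U.T i) ⊗[R'] (R' ⊗[R] A)) :=
  isDiag_congr (cbc (R := R) (A := A) R' (R' ⊗[R] U.T i)).symm
    (isDiag_of_algHom (Algebra.TensorProduct.includeRight : U.T i →ₐ[R] R' ⊗[R] U.T i) (hU i))

/-- An étale ff algebra over `L ⧸ I` splitting `B` lifts to one over `L`. -/
lemma exists_splitting_lift_nil {L : Type u} [CommRing L] (I : Ideal L) (hI : ∀ x ∈ I, IsNilpotent x)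
    (B : Type u) [CommRing B] [HopfAlgebra L B] (U : Cover L) (hU : ∀ i, IsDiag (U.T i) (U.T i ⊗[L] B))
    (R₀ : Type u) [CommRing R₀] [Algebra L R₀] [Algebra (L ⧸ I) R₀] [IsScalarTower L (L ⧸ I) R₀]
    [Algebra.Etale (L ⧸ I) R₀] [Module.FaithfullyFlat (L ⧸ I) R₀]
    (h : IsDiag R₀ (R₀ ⊗[L] B)) :
    ∃ (R' : Type u) (_ : CommRing R') (_ : Algebra L R'), Algebra.Etale L R' ∧ Module.FaithfullyFlat L R' ∧
      IsDiag R' (R' ⊗[L] B) ∧ (Module.Finite (L ⧸ I) R₀ → Module.Finite L R') := by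
  obtain ⟨R', _, _, _, Φ, hΦ, hker⟩ := Hensel.exists_etale_lift_of_quotient (I := I) R₀
  have hn' : I.map (algebraMap L R') ≤ nilradical R' :=
    Ideal.map_le_iff_le_comap.2 fun r hr => mem_nilradical.2 ((hI r hr).map (algebraMap L R'))
  have hn : ∀ x ∈ I.map (algebraMap L R'), IsNilpotent x := fun x hx => mem_nilradical.1 (hn' hx)
  have hflat : Module.Flat L R' := Algebra.Smooth.flat L R'
  have hff : Module.FaithfullyFlat L R' := by
    refine { submodule_ne_top := fun {m} hm htop => ?_ }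
    have hIm : I ≤ m := fun x hx => by
      obtain ⟨n, hn⟩ := hI x hx
      exact hm.isPrime.mem_of_pow_mem n (hn ▸ m.zero_mem)
    have hm' : (m.map (Ideal.Quotient.mk I)).IsMaximal := by
      refine Ideal.IsMaximal.map_of_surjective_of_ker_le Ideal.Quotient.mk_surjective ?_
      rw [Ideal.mk_ker]; exact hIm
    apply Module.FaithfullyFlat.submodule_ne_top (M := R₀) hm'
    rw [Ideal.smul_top_eq_map] at htop ⊢
    have h1 : (1 : R') ∈ (m.map (algebraMap L R') : Ideal R') := by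
      have : (1 : R') ∈ (Submodule.restrictScalars L (m.map (algebraMap L R'))) := by rw [htop]; trivial
      exact this
    have h2 := Ideal.mem_map_of_mem Φ.toRingHom h1
    rw [Ideal.map_map, map_one, show Φ.toRingHom.comp (algebraMap L R') = algebraMap L R₀ from Φ.comp_algebraMap,
      IsScalarTower.algebraMap_eq L (L ⧸ I) R₀, ← Ideal.map_map, ← Ideal.eq_top_iff_one] at h2
    have h3 : Ideal.map (algebraMap (L ⧸ I) R₀) (m.map (Ideal.Quotient.mk I)) = ⊤ := h2
    rw [h3]
    rfl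
  let eΦ : (R' ⧸ I.map (algebraMap L R')) ≃ₐ[L] R₀ :=
    (Ideal.quotientEquivAlgOfEq L hker.symm).trans (Ideal.quotientKerAlgEquivOfSurjective hΦ)
  refine ⟨R', inferInstance, inferInstance, inferInstance, hff, ?_, fun hfin => ?_⟩
  · refine isDiag_of_nil (I.map (algebraMap L R')) hn (U.baseChange R') (U.baseChange_diag R' hU) ?_
    exact isDiag_congr (cbc (R := L) (A := B) R' (R' ⧸ I.map (algebraMap L R'))).symm
      (isDiag_of_algHom eΦ.symm.toAlgHom h)
  · haveI : Module.Finite L R₀ := Module.Finite.trans (L ⧸ I) R₀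
    haveI : Module.Finite L (R' ⧸ I.map (algebraMap L R')) := Module.Finite.equiv eΦ.symm.toLinearEquiv
    haveI : Algebra.IsIntegral L R' := ⟨fun x => by
      obtain ⟨p, hp, hpx⟩ := Algebra.IsIntegral.isIntegral (R := L) (Ideal.Quotient.mkₐ L (I.map (algebraMap L R')) x)
      rw [← Polynomial.aeval_def, Polynomial.aeval_algHom_apply, Ideal.Quotient.mkₐ_eq_mk,
        Ideal.Quotient.eq_zero_iff_mem] at hpx
      obtain ⟨n, hn⟩ := hn _ hpx
      exact ⟨p ^ n, hp.pow n, by rw [← Polynomial.aeval_def, map_pow, hn]⟩⟩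
    exact Algebra.IsIntegral.finite

/-- A group of multiplicative type quasi-isotrivial modulo a nil ideal is quasi-isotrivial. -/
theorem isQuasiIsotrivial_of_nil {R : Type u} [CommRing R] {A : Type u} [CommRing A]
    [HopfAlgebra R A] (I : Ideal R) (hI : ∀ x ∈ I, IsNilpotent x) (U : Cover R)
    (hU : ∀ i, IsDiag (U.T i) (U.T i ⊗[R] A))
    (h : IsQuasiIsotrivial (R ⧸ I) ((R ⧸ I) ⊗[R] A)) : IsQuasiIsotrivial R A := by
  obtain ⟨s, hs, h⟩ := h
  refine ⟨Ideal.Quotient.mk I ⁻¹' s, ?_, fun f hf => ?_⟩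
  · rw [Ideal.eq_top_iff_one]
    have h1 : (1 : R ⧸ I) ∈ Ideal.map (Ideal.Quotient.mk I) (Ideal.span (Ideal.Quotient.mk I ⁻¹' s)) := by
      rw [Ideal.map_span, Set.image_preimage_eq s Ideal.Quotient.mk_surjective, hs]; trivial
    obtain ⟨a, ha, ha1⟩ := (Ideal.mem_map_iff_of_surjective _ Ideal.Quotient.mk_surjective).1 h1
    have hu : IsUnit a := by
      have : IsNilpotent (a - 1) := hI _ (Ideal.Quotient.eq.1 (ha1.trans (map_one _).symm))
      simpa using this.isUnit_add_one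
    have htop := Ideal.eq_top_of_isUnit_mem _ ha hu
    rw [htop]; trivial
  · obtain ⟨R₀, _, _, _, _, hd⟩ := h (Ideal.Quotient.mk I f) hf
    let L := Localization.Away f
    let L₀ := Localization.Away (Ideal.Quotient.mk I f)
    let K : Ideal L := I.map (algebraMap R L)
    let ψ : L →+* L₀ := IsLocalization.Away.lift f (g := (algebraMap (R ⧸ I) L₀).comp (Ideal.Quotient.mk I))
      (IsLocalization.Away.algebraMap_isUnit (Ideal.Quotient.mk I f))
    letI : Algebra L L₀ := ψ.toAlgebra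
    haveI : IsScalarTower R L L₀ := IsScalarTower.of_algebraMap_eq fun r => by
      show _ = ψ (algebraMap R L r)
      rw [IsLocalization.Away.lift_eq]
      rfl
    have hψ : Function.Surjective ψ := by
      intro x
      obtain ⟨⟨r, ⟨_, k, rfl⟩⟩, hx⟩ := IsLocalization.surj (Submonoid.powers (Ideal.Quotient.mk I f)) x
      obtain ⟨r, rfl⟩ := Ideal.Quotient.mk_surjective r
      refine ⟨IsLocalization.mk' L r ⟨f ^ k, pow_mem (Submonoid.mem_powers f) k⟩, ?_⟩
      refine ((IsLocalization.Away.algebraMap_isUnit (Ideal.Quotient.mk I f)).pow k).mul_left_injective ?_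
      show ψ _ * _ = x * _
      have h1 : algebraMap (R ⧸ I) L₀ (Ideal.Quotient.mk I f) ^ k = ψ (algebraMap R L (f ^ k)) := by
        rw [IsLocalization.Away.lift_eq, map_pow, RingHom.comp_apply]
      rw [h1, ← map_mul, IsLocalization.mk'_spec, IsLocalization.Away.lift_eq, ← h1, ← map_pow]
      exact hx.symm
    have hker : RingHom.ker ψ = K := by
      refine le_antisymm (fun x hx => ?_) (Ideal.map_le_iff_le_comap.2 fun a ha => ?_)
      · obtain ⟨⟨r, ⟨_, k, rfl⟩⟩, hrx⟩ := IsLocalization.surj (Submonoid.powers f) x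
        have h1 : algebraMap (R ⧸ I) L₀ (Ideal.Quotient.mk I r) = 0 := by
          have := congr(ψ $hrx)
          rw [map_mul, show ψ x = 0 from hx, zero_mul, IsLocalization.Away.lift_eq] at this
          exact this.symm
        obtain ⟨⟨_, j, rfl⟩, hj⟩ := (IsLocalization.map_eq_zero_iff (Submonoid.powers (Ideal.Quotient.mk I f)) L₀ _).1 h1
        have h2 : f ^ j * r ∈ I := Ideal.Quotient.eq_zero_iff_mem.1 (by rw [map_mul, map_pow]; exact hj)
        have hu : IsUnit (algebraMap R L (f ^ j * f ^ k)) := by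
          rw [map_mul, map_pow, map_pow]
          exact ((IsLocalization.Away.algebraMap_isUnit f).pow j).mul ((IsLocalization.Away.algebraMap_isUnit f).pow k)
        refine (K.unit_mul_mem_iff_mem hu).1 ?_
        rw [map_mul, mul_assoc, mul_comm (algebraMap R L (f ^ k)) x, hrx, ← map_mul]
        exact Ideal.mem_map_of_mem _ h2
      · show ψ (algebraMap R L a) = 0
        rw [IsLocalization.Away.lift_eq, RingHom.comp_apply, Ideal.Quotient.eq_zero_iff_mem.2 ha, map_zero]
    let eq : L ⧸ K ≃+* L₀ :=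
      (Ideal.quotEquivOfEq hker.symm).trans (RingHom.quotientKerEquivOfSurjective hψ)
    letI : Algebra L R₀ := ((algebraMap L₀ R₀).comp ψ).toAlgebra
    haveI : IsScalarTower L L₀ R₀ := IsScalarTower.of_algebraMap_eq' rfl
    letI : Algebra (L ⧸ K) R₀ := ((algebraMap L₀ R₀).comp eq.toRingHom).toAlgebra
    haveI : IsScalarTower L (L ⧸ K) R₀ := ⟨fun a b z => by
      obtain ⟨b, rfl⟩ := Ideal.Quotient.mk_surjective b
      change algebraMap L₀ R₀ (eq (Ideal.Quotient.mk K (a * b))) * z =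
        algebraMap L₀ R₀ (ψ a) * (algebraMap L₀ R₀ (eq (Ideal.Quotient.mk K b)) * z)
      rw [← mul_assoc, ← map_mul, map_mul (Ideal.Quotient.mk K), map_mul eq]
      rfl⟩
    letI : Algebra (L ⧸ K) L₀ := eq.toRingHom.toAlgebra
    haveI : IsScalarTower (L ⧸ K) L₀ R₀ := IsScalarTower.of_algebraMap_eq' rfl
    haveI : Algebra.Etale (L ⧸ K) R₀ := by
      haveI : Algebra.Etale (L ⧸ K) L₀ :=
        Algebra.Etale.of_equiv (AlgEquiv.ofRingEquiv (f := eq) (fun _ => rfl))
      exact Algebra.Etale.comp (L ⧸ K) L₀ R₀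
    haveI : Module.FaithfullyFlat (L ⧸ K) R₀ := by
      haveI : Module.FaithfullyFlat (L ⧸ K) L₀ := Module.FaithfullyFlat.of_linearEquiv (L ⧸ K) (L ⧸ K)
        (AlgEquiv.ofRingEquiv (f := eq) (fun _ => rfl) : (L ⧸ K) ≃ₐ[L ⧸ K] L₀).toLinearEquiv.symm
      exact Module.FaithfullyFlat.trans (L ⧸ K) L₀ R₀
    letI : Algebra R R₀ := ((algebraMap L₀ R₀).comp (algebraMap R L₀)).toAlgebra
    haveI : IsScalarTower R L₀ R₀ := IsScalarTower.of_algebraMap_eq' rfl
    haveI : IsScalarTower R L R₀ := IsScalarTower.of_algebraMap_eq fun r => by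
      show algebraMap L₀ R₀ (algebraMap R L₀ r) = algebraMap L₀ R₀ (ψ (algebraMap R L r))
      rw [IsScalarTower.algebraMap_apply R L L₀]
      rfl
    letI : Algebra (R ⧸ I) R₀ := ((algebraMap L₀ R₀).comp (algebraMap (R ⧸ I) L₀)).toAlgebra
    haveI : IsScalarTower (R ⧸ I) L₀ R₀ := IsScalarTower.of_algebraMap_eq' rfl
    haveI : IsScalarTower R (R ⧸ I) R₀ := IsScalarTower.of_algebraMap_eq fun r => by
      show algebraMap L₀ R₀ (algebraMap R L₀ r) = algebraMap L₀ R₀ (algebraMap (R ⧸ I) L₀ (algebraMap R (R ⧸ I) r))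
      rw [IsScalarTower.algebraMap_apply R (R ⧸ I) L₀]
    have hd' : IsDiag R₀ (R₀ ⊗[L] (L ⊗[R] A)) := by
      refine isDiag_congr ?_ hd
      exact ((cbc (R := R ⧸ I) (A := (R ⧸ I) ⊗[R] A) L₀ R₀).trans (cbc (R := R) (A := A) (R ⧸ I) R₀)).trans
        (cbc (R := R) (A := A) L R₀).symm
    have hK' : K ≤ nilradical L :=
      Ideal.map_le_iff_le_comap.2 fun r hr => mem_nilradical.2 ((hI r hr).map (algebraMap R L))
    have hK : ∀ x ∈ K, IsNilpotent x := fun x hx => mem_nilradical.1 (hK' hx)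
    obtain ⟨R', _, _, he, hff, hd'', -⟩ :=
      exists_splitting_lift_nil K hK (L ⊗[R] A) (U.baseChange L) (U.baseChange_diag L hU) R₀ hd'
    exact ⟨R', inferInstance, inferInstance, he, hff, hd''⟩

end Groth.Agent.MultType
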