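import Groth.Agent.MultType.Algebraise
import Groth.Agent.MultType.HenselLift
import Groth.Agent.MultType.DeformQI
import Mathlib.RingTheory.Henselian

/-!
The isotrivial open and closed subgroup of a formally isotrivial group over a complete Noetherian ring.
-/

universe u

open TensorProduct SGA3b
open scoped TensorProduct

namespace Groth.Agent.MultType

/-- An idempotent of a group algebra with coefficients in an ideal of the radical vanishes. -/
lemma idempotent_eq_zero {R : Type u} [CommRing R] {I : Ideal R} (hI : I ≤ Ideal.jacobson ⊥) {M : Type u}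
    [CommGroup M] [Group.FG M] {w : MonoidAlgebra R M} (hw : IsIdempotentElem w) (hwI : ∀ m, w.coeff m ∈ I) :
    w = 0 := by
  classical
  obtain ⟨n, hn, hsep⟩ := exists_separating_pow ((w.coeff.support ×ˢ w.coeff.support).image fun p => p.1⁻¹ * p.2)
  let P : Subgroup M := (powMonoidHom n : M →* M).range
  haveI : Finite (M ⧸ P) := CommGroup.finite_of_fg_torsion _ fun x => by
    induction x using QuotientGroup.induction_on with
    | H k => exact isOfFinOrder_iff_pow_eq_one.2 ⟨n, hn, (QuotientGroup.eq_one_iff _).2 ⟨k, rfl⟩⟩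
  let B := MonoidAlgebra R (M ⧸ P)
  haveI : Module.Finite R B := Module.Finite.of_basis (MonoidAlgebra.basis (M ⧸ P) R)
  have hmem : qn n w ∈ I.map (algebraMap R B) := by
    rw [← MonoidAlgebra.sum_single w, Finsupp.sum, map_sum]
    refine Ideal.sum_mem _ fun m _ => ?_
    rw [qn_single, show (MonoidAlgebra.single (m : M ⧸ P) (w.coeff m) : B) =
      algebraMap R B (w.coeff m) * MonoidAlgebra.single (m : M ⧸ P) 1 by rw [← Algebra.smul_def, MonoidAlgebra.smul_single', _root_.mul_one]]
    exact Ideal.mul_mem_right _ _ (Ideal.mem_map_of_mem _ (hwI m))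
  have h0 : qn n w = 0 := Hensel.idempotent_eq_of_sub_mem_jacobson (hw.map (qn (R' := R) (M := M) n))
    IsIdempotentElem.zero (by rw [sub_zero]; exact Hensel.map_le_jacobson_of_isIntegral hI hmem)
  refine MonoidAlgebra.ext (Finsupp.ext fun m => ?_)
  show w.coeff m = 0
  by_contra hm
  have h1 : (qn n w).coeff (m : M ⧸ P) = w.coeff m := by
    conv_lhs => rw [← MonoidAlgebra.sum_single w, Finsupp.sum, map_sum]
    rw [MonoidAlgebra.coeff_sum, Finsupp.coe_finsetSum, Finset.sum_apply,
      Finset.sum_eq_single m (fun k hk hkm => ?_) (fun h => absurd (Finsupp.mem_support_iff.2 hm) h)]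
    · rw [qn_single, MonoidAlgebra.coeff_single, Finsupp.single_eq_same]
    · rw [qn_single, MonoidAlgebra.coeff_single, Finsupp.single_eq_of_ne]
      intro he
      exact hkm (inv_mul_eq_one.1 (hsep _ (Finset.mem_image.2 ⟨(k, m),
        Finset.mem_product.2 ⟨hk, Finsupp.mem_support_iff.2 hm⟩, rfl⟩) (QuotientGroup.eq.1 he.symm)))
  rw [h0] at h1
  exact hm h1.symm

variable {A : Type u} [CommRing A] {C : Type u} [CommRing C] [Algebra A C] {S : Type u} [CommRing S] [Algebra A S]
  {M : Type u} [CommGroup M]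

/-- Coefficients of the image of an element of an extended ideal. -/
lemma coeff_mem_of_mem_map {X : Type u} [CommRing X] [Algebra A X] (g : X →ₐ[A] MonoidAlgebra S M) {I : Ideal A}
    {x : X} (hx : x ∈ I.map (algebraMap A X)) (m : M) : (g x).coeff m ∈ I.map (algebraMap A S) := by
  have h : x ∈ I • (⊤ : Submodule A X) := by rw [Ideal.smul_top_eq_map]; exact hx
  refine Submodule.smul_induction_on (p := fun z : X => (g z).coeff m ∈ I.map (algebraMap A S)) h (fun a ha z _ => ?_)
    (fun x y hx hy => ?_)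
  · rw [map_smul, ← algebraMap_smul S a, MonoidAlgebra.coeff_smul, Finsupp.smul_apply, smul_eq_mul]
    exact Ideal.mul_mem_right _ _ (Ideal.mem_map_of_mem _ ha)
  · rw [map_add, MonoidAlgebra.coeff_add, Finsupp.add_apply]
    exact Ideal.add_mem _ hx hy

variable (ψ : S ⊗[A] C →ₐ[S] MonoidAlgebra S M) (hψ : Function.Surjective ψ) {e : S ⊗[A] C} (he : IsIdempotentElem e)
  (hker : RingHom.ker ψ = Ideal.span {e})

include hψ he hker in
/-- The kernel stays generated by the idempotent after base change. -/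
lemma mul_one_sub_eq_zero_of_map {T : Type u} [CommRing T] [Algebra A T] (g : S →ₐ[A] T) {x : T ⊗[A] C}
    (hx : Algebra.TensorProduct.lift (Algebra.ofId T (MonoidAlgebra T M))
      ((MonoidAlgebra.mapAlgHom M g).comp ((ψ.restrictScalars A).comp Algebra.TensorProduct.includeRight))
      (fun _ _ => Commute.all _ _) x = 0) :
    x * (1 - Algebra.TensorProduct.map g (AlgHom.id A C) e) = 0 := by
  classical
  let gC := Algebra.TensorProduct.map g (AlgHom.id A C)
  choose γ hγ using fun m : M => hψ (MonoidAlgebra.single m 1)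
  let σ : MonoidAlgebra S M →ₗ[S] S ⊗[A] C :=
    (MonoidAlgebra.basis M S).constr S fun m => (1 - e) * γ m
  have hσ : ∀ y, σ (ψ y) = (1 - e) * y := by
    have h1 : ∀ w, ∃ y, ψ y = w ∧ σ w = (1 - e) * y := by
      intro w
      induction w using MonoidAlgebra.induction_linear with
      | zero => exact ⟨0, map_zero ψ, by simp⟩
      | add p q hp hq =>
        obtain ⟨y, hy, hy'⟩ := hp
        obtain ⟨z, hz, hz'⟩ := hq
        exact ⟨y + z, by rw [map_add, hy, hz], by rw [map_add, hy', hz', mul_add]⟩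
      | single m s =>
        refine ⟨s • γ m, by rw [map_smul, hγ]; simp, ?_⟩
        rw [show (MonoidAlgebra.single m s : MonoidAlgebra S M) = s • MonoidAlgebra.basis M S m by simp,
          map_smul, Module.Basis.constr_basis, mul_smul_comm]
    intro y
    obtain ⟨z, hz, hz'⟩ := h1 (ψ y)
    rw [hz', ← sub_eq_zero, ← mul_sub]
    obtain ⟨t, ht⟩ := Ideal.mem_span_singleton'.1
      (hker.le (show z - y ∈ RingHom.ker ψ by rw [RingHom.mem_ker, map_sub, hz, sub_self]))
    rw [← ht, mul_left_comm, sub_mul, one_mul, he.eq, sub_self, mul_zero]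
  let L : MonoidAlgebra T M →ₗ[T] T ⊗[A] C :=
    (MonoidAlgebra.basis M T).constr T fun m => gC ((1 - e) * γ m)
  have hgs : ∀ (s : S) (y : S ⊗[A] C), gC (s • y) = g s • gC y := by
    intro s y
    induction y using TensorProduct.induction_on with
    | zero => simp
    | tmul a b => simp [gC, TensorProduct.smul_tmul']
    | add a b ha hb => simp only [smul_add, map_add, ha, hb]
  have hL : ∀ w, L (MonoidAlgebra.mapAlgHom M g w) = gC (σ w) := by
    intro w
    induction w using MonoidAlgebra.induction_linear with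
    | zero => simp
    | add p q hp hq => simp only [map_add, hp, hq]
    | single m s =>
      rw [show MonoidAlgebra.mapAlgHom M g (MonoidAlgebra.single m s) = MonoidAlgebra.single m (g s) from MonoidAlgebra.mapRingHom_single (g : S →+* T) m s,
        show (MonoidAlgebra.single m (g s) : MonoidAlgebra T M) = g s • MonoidAlgebra.basis M T m by simp,
        show (MonoidAlgebra.single m s : MonoidAlgebra S M) = s • MonoidAlgebra.basis M S m by simp,
        map_smul, map_smul, Module.Basis.constr_basis, Module.Basis.constr_basis, hgs]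
  have key : ∀ x, L (Algebra.TensorProduct.lift (Algebra.ofId T (MonoidAlgebra T M))
      ((MonoidAlgebra.mapAlgHom M g).comp ((ψ.restrictScalars A).comp Algebra.TensorProduct.includeRight))
      (fun _ _ => Commute.all _ _) x) = x * (1 - gC e) := by
    intro x
    induction x using TensorProduct.induction_on with
    | zero => simp
    | add a b ha hb => rw [map_add, map_add, ha, hb, add_mul]
    | tmul t c =>
      rw [show t ⊗ₜ[A] c = t • ((1 : T) ⊗ₜ[A] c) by simp [TensorProduct.smul_tmul'], map_smul, map_smul,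
        Algebra.TensorProduct.lift_tmul, map_one, one_mul, AlgHom.comp_apply, hL, AlgHom.comp_apply,
        AlgHom.restrictScalars_apply, hσ, map_mul, map_sub, map_one, smul_mul_assoc, mul_comm (1 - gC e)]
      simp [gC]
  rw [← key, hx, map_zero]

/-- The isotrivial part of a formally isotrivial group. -/
theorem exists_split_part {A : Type u} [CommRing A] [IsNoetherianRing A] {I : Ideal A} [IsAdicComplete I A]
    {C : Type u} [CommRing C] [HopfAlgebra A C] (hft : Algebra.FiniteType A C)
    (hflat : ∀ k, Module.Flat (A ⧸ I ^ k) ((A ⧸ I ^ k) ⊗[A] C))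
    (h0 : IsIsotrivial (A ⧸ I) ((A ⧸ I) ⊗[A] C)) :
    ∃ (e : C) (S : Type u) (_ : CommRing S) (_ : Algebra A S) (M : Type u) (_ : CommGroup M)
      (ψ : S ⊗[A] C →ₐc[S] MonoidAlgebra S M),
      Algebra.Etale A S ∧ Module.Finite A S ∧ Module.FaithfullyFlat A S ∧ (Nontrivial S → Group.FG M) ∧
      IsIdempotentElem e ∧ e ∈ Ideal.map (algebraMap A C) I ∧ Function.Surjective ψ ∧
      RingHom.ker (ψ : S ⊗[A] C →ₐ[S] MonoidAlgebra S M) = Ideal.span {(1 : S) ⊗ₜ[A] e} := by
  classical
  haveI := hft
  obtain ⟨R₀, _, _, _, _, _, hd₀⟩ := h0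
  obtain ⟨S, _, _, hSfin, hSet, ⟨ε⟩⟩ := Hensel.exists_finite_etale_lift (A := A) (I := I) R₀
  haveI : Module.FinitePresentation A S := Module.finitePresentation_of_finite A S
  haveI : Module.Projective A S := Module.Flat.projective_of_finitePresentation
  have hIA : I ≤ Ideal.jacobson ⊥ := IsAdicComplete.le_jacobson_bot I
  haveI : Module.FaithfullyFlat A S := ⟨fun {m} hm htop => by
    have hIm : I ≤ m := hIA.trans (sInf_le ⟨bot_le, hm⟩)
    have hm' : m.map (Ideal.Quotient.mk I) ≠ ⊤ := by
      intro h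
      have := congrArg (Ideal.comap (Ideal.Quotient.mk I)) h
      rw [Ideal.comap_map_of_surjective' _ Ideal.Quotient.mk_surjective, Ideal.mk_ker, Ideal.comap_top,
        sup_eq_left.2 hIm] at this
      exact hm.ne_top this
    obtain ⟨m', hm'1, hle⟩ := Ideal.exists_le_maximal _ hm'
    refine Module.FaithfullyFlat.submodule_ne_top (M := R₀) hm'1 ?_
    rw [Ideal.smul_top_eq_map] at htop ⊢
    have h1 : (1 : S) ∈ m.map (algebraMap A S) :=
      (show Ideal.map (algebraMap A S) m = ⊤ from Submodule.restrictScalars_injective A S S htop) ▸ Submodule.mem_top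
    letI : Algebra A R₀ := ((algebraMap (A ⧸ I) R₀).comp (algebraMap A (A ⧸ I))).toAlgebra
    haveI : IsScalarTower A (A ⧸ I) R₀ := IsScalarTower.of_algebraMap_eq' rfl
    let F : S →ₐ[A] R₀ := (ε.toAlgHom.restrictScalars A).comp Algebra.TensorProduct.includeRight
    have h2 := Ideal.mem_map_of_mem F.toRingHom h1
    rw [map_one, Ideal.map_map, show F.toRingHom.comp (algebraMap A S) = algebraMap A R₀ from F.comp_algebraMap,
      show algebraMap A R₀ = (algebraMap (A ⧸ I) R₀).comp (Ideal.Quotient.mk I) from rfl, ← Ideal.map_map] at h2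
    have h3 := (Ideal.eq_top_iff_one _).2 (Ideal.map_mono (f := algebraMap (A ⧸ I) R₀) hle h2)
    rw [h3]
    rfl⟩
  set IS := I.map (algebraMap A S)
  haveI : IsNoetherianRing S := IsNoetherianRing.of_finite A S
  haveI : IsHausdorff I S := ⟨fun x hx => S5271.sep_of_projective I S x fun k => SModEq.zero.1 (hx k)⟩
  haveI : IsPrecomplete I S := S5271.isPrecomplete_of_projective I S
  haveI : IsAdicComplete I S := ⟨⟩
  haveI : IsAdicComplete IS S := (IsAdicComplete.map_algebraMap_iff _ _).2 inferInstance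
  haveI : Algebra.FiniteType S (S ⊗[A] C) := inferInstance
  have hflatS : ∀ k, Module.Flat (S ⧸ IS ^ k) ((S ⧸ IS ^ k) ⊗[S] (S ⊗[A] C)) := by
    intro k
    let π : (A ⧸ I ^ k) →ₐ[A] S ⧸ IS ^ k := Ideal.Quotient.liftₐ (I ^ k) (Algebra.ofId A _) fun a ha => by
      show algebraMap A (S ⧸ IS ^ k) a = 0
      rw [IsScalarTower.algebraMap_apply A S, Ideal.Quotient.algebraMap_eq, Ideal.Quotient.eq_zero_iff_mem,
        ← Ideal.map_pow]
      exact Ideal.mem_map_of_mem _ ha
    letI : Algebra (A ⧸ I ^ k) (S ⧸ IS ^ k) := π.toRingHom.toAlgebra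
    haveI : IsScalarTower A (A ⧸ I ^ k) (S ⧸ IS ^ k) := IsScalarTower.of_algebraMap_eq fun r => (π.commutes r).symm
    haveI := hflat k
    exact Module.Flat.of_linearEquiv
      ((Algebra.TensorProduct.cancelBaseChange A (A ⧸ I ^ k) (S ⧸ IS ^ k) (S ⧸ IS ^ k) C).toLinearEquiv.trans
        (Algebra.TensorProduct.cancelBaseChange A S (S ⧸ IS ^ k) (S ⧸ IS ^ k) C).toLinearEquiv.symm).symm
  have hd : IsDiag (S ⧸ IS) ((S ⧸ IS) ⊗[S] (S ⊗[A] C)) := by
    letI : Algebra A R₀ := ((algebraMap (A ⧸ I) R₀).comp (algebraMap A (A ⧸ I))).toAlgebra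
    haveI : IsScalarTower A (A ⧸ I) R₀ := IsScalarTower.of_algebraMap_eq' rfl
    let π : (A ⧸ I) →ₐ[A] S ⧸ IS := Ideal.Quotient.liftₐ I (Algebra.ofId A _) fun a ha => by
      show algebraMap A (S ⧸ IS) a = 0
      rw [IsScalarTower.algebraMap_apply A S, Ideal.Quotient.algebraMap_eq, Ideal.Quotient.eq_zero_iff_mem]
      exact Ideal.mem_map_of_mem _ ha
    let F : (A ⧸ I) ⊗[A] S →ₐ[A] S ⧸ IS :=
      Algebra.TensorProduct.lift π (IsScalarTower.toAlgHom A S _) fun _ _ => Commute.all _ _
    let g : R₀ →ₐ[A] S ⧸ IS := F.comp (ε.symm.toAlgHom.restrictScalars A)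
    exact isDiag_congr' (cbc (R := A) (A := C) S (S ⧸ IS)).symm
      (isDiag_of_algHom g (isDiag_congr' (cbc (R := A) (A := C) (A ⧸ I) R₀) hd₀))
  obtain ⟨M, _, ⟨e₀⟩⟩ := hd
  obtain ⟨ψ, hψ, eS, heS, heI, hker⟩ := exists_algebraise (I := IS) (C := S ⊗[A] C) inferInstance hflatS e₀
  let ψa : S ⊗[A] C →ₐ[S] MonoidAlgebra S M := ψ
  have hFG : Nontrivial S → Group.FG M := fun _ =>
    Group.fg_iff_monoid_fg.2 (MonoidAlgebra.finiteType_iff_fg.1
      ((inferInstance : Algebra.FiniteType S (S ⊗[A] C)).of_surjective ψa hψ))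
  -- the idempotent descends
  let T := S ⊗[A] S
  haveI : Module.Finite A T := inferInstance
  let il : S →ₐ[A] T := Algebra.TensorProduct.includeLeft
  let ir : S →ₐ[A] T := Algebra.TensorProduct.includeRight
  have hIT : I.map (algebraMap A T) ≤ Ideal.jacobson ⊥ := Hensel.map_le_jacobson_of_isIntegral hIA
  have heI' : eS ∈ I.map (algebraMap A (S ⊗[A] C)) := by
    rw [IsScalarTower.algebraMap_eq A S (S ⊗[A] C), ← Ideal.map_map]
    exact heI
  have hmem : ∀ g : S →ₐ[A] T,
      Algebra.TensorProduct.map g (AlgHom.id A C) eS ∈ I.map (algebraMap A (T ⊗[A] C)) := fun g => by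
    have := Ideal.mem_map_of_mem (Algebra.TensorProduct.map g (AlgHom.id A C)).toRingHom heI'
    rwa [Ideal.map_map, show (Algebra.TensorProduct.map g (AlgHom.id A C)).toRingHom.comp
      (algebraMap A (S ⊗[A] C)) = algebraMap A (T ⊗[A] C) from
        (Algebra.TensorProduct.map g (AlgHom.id A C)).comp_algebraMap] at this
  have heq : ∀ g g' : S →ₐ[A] T, Algebra.TensorProduct.map g' (AlgHom.id A C) eS *
      (1 - Algebra.TensorProduct.map g (AlgHom.id A C) eS) = 0 := by
    intro g g'
    rcases subsingleton_or_nontrivial S with hS | hS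
    · haveI : Subsingleton (T ⊗[A] C) := by
        haveI : Subsingleton T := Module.subsingleton S _
        exact Module.subsingleton T _
      exact Subsingleton.elim _ _
    haveI := hFG hS
    refine mul_one_sub_eq_zero_of_map ψa hψ heS hker g ?_
    let Lg : T ⊗[A] C →ₐ[T] MonoidAlgebra T M := Algebra.TensorProduct.lift (Algebra.ofId T (MonoidAlgebra T M))
      ((MonoidAlgebra.mapAlgHom M g).comp ((ψa.restrictScalars A).comp Algebra.TensorProduct.includeRight))
      fun _ _ => Commute.all _ _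
    show Lg _ = 0
    exact idempotent_eq_zero hIT ((heS.map (Algebra.TensorProduct.map g' (AlgHom.id A C))).map Lg) fun m =>
      coeff_mem_of_mem_map (Lg.restrictScalars A) (hmem g') m
  have hlr : Algebra.TensorProduct.map il (AlgHom.id A C) eS = Algebra.TensorProduct.map ir (AlgHom.id A C) eS := by
    have h1 := heq il ir
    have h2 := heq ir il
    rw [mul_sub, mul_one, sub_eq_zero] at h1 h2
    rw [h2, mul_comm]
    exact h1.symm
  obtain ⟨e, he⟩ := exists_tmul_eq eS hlr
  have hinj : Function.Injective fun c : C => (1 : S) ⊗ₜ[A] c :=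
    Module.FaithfullyFlat.tensorProduct_mk_injective (A := A) (B := S) C
  refine ⟨e, S, inferInstance, inferInstance, M, inferInstance, ψ, hSet, hSfin, inferInstance, hFG, ?_, ?_, hψ, by
    rw [he]; exact hker⟩
  · refine hinj ?_
    show (1 : S) ⊗ₜ[A] (e * e) = (1 : S) ⊗ₜ[A] e
    rw [he, show (1 : S) ⊗ₜ[A] (e * e) = ((1 : S) ⊗ₜ[A] e) * ((1 : S) ⊗ₜ[A] e) by simp, he]
    exact heS.eq
  · let q : C →ₗ[A] C ⧸ (I • (⊤ : Submodule A C)) := Submodule.mkQ _
    have h1 : eS ∈ I • (⊤ : Submodule A (S ⊗[A] C)) := by rw [Ideal.smul_top_eq_map]; exact heI'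
    have h2 : q.lTensor S eS = 0 := by
      refine Submodule.smul_induction_on (p := fun z => q.lTensor S z = 0) h1 (fun a ha z _ => ?_)
        (fun x y hx hy => by rw [map_add, hx, hy, add_zero])
      rw [map_smul]
      generalize q.lTensor S z = w
      induction w using TensorProduct.induction_on with
      | zero => simp
      | add p r hp hr => rw [smul_add, hp, hr, add_zero]
      | tmul s c =>
        obtain ⟨c, rfl⟩ := Submodule.Quotient.mk_surjective _ c
        rw [← TensorProduct.tmul_smul, ← Submodule.Quotient.mk_smul,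
          (Submodule.Quotient.mk_eq_zero _).2 (Submodule.smul_mem_smul ha Submodule.mem_top), TensorProduct.tmul_zero]
    rw [← he, LinearMap.lTensor_tmul] at h2
    have h3 : q e = 0 := Module.FaithfullyFlat.tensorProduct_mk_injective (A := A) (B := S) _
      (h2.trans (TensorProduct.tmul_zero _ _).symm)
    have h4 := (Submodule.Quotient.mk_eq_zero _).1 h3
    rw [Ideal.smul_top_eq_map] at h4
    exact h4

/-- The subgroup cut out by the idempotent. -/
theorem isIsotrivial_split_part {A : Type u} [CommRing A] {I : Ideal A} (hI : I ≤ Ideal.jacobson ⊥)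
    {C : Type u} [CommRing C] [HopfAlgebra A C] {e : C} (he : IsIdempotentElem e)
    (heI : e ∈ Ideal.map (algebraMap A C) I)
    (S : Type u) [CommRing S] [Algebra A S] [Algebra.Etale A S] [Module.Finite A S] [Module.FaithfullyFlat A S]
    {M : Type u} [CommGroup M] (hFG : Nontrivial S → Group.FG M)
    (ψ : S ⊗[A] C →ₐc[S] MonoidAlgebra S M) (hψ : Function.Surjective ψ)
    (hker : RingHom.ker (ψ : S ⊗[A] C →ₐ[S] MonoidAlgebra S M) = Ideal.span {(1 : S) ⊗ₜ[A] e}) :
    ∃ _ : (Ideal.span {e}).IsHopfIdeal A, IsIsotrivial A (C ⧸ Ideal.span {e}) ∧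
      Nonempty ((S ⊗[A] (C ⧸ Ideal.span {e})) ≃ₐc[S] MonoidAlgebra S M) := by
  classical
  set eS : S ⊗[A] C := (1 : S) ⊗ₜ[A] e
  have heS : IsIdempotentElem eS := he.map (Algebra.TensorProduct.includeRight : C →ₐ[A] S ⊗[A] C)
  let ψa : S ⊗[A] C →ₐ[S] MonoidAlgebra S M := ψ
  have hIS : I.map (algebraMap A S) ≤ Ideal.jacobson ⊥ := Hensel.map_le_jacobson_of_isIntegral hI
  have hinj : ∀ (N : Type u) [AddCommGroup N] [Module A N], Function.Injective fun c : N => (1 : S) ⊗ₜ[A] c :=
    fun N _ _ => Module.FaithfullyFlat.tensorProduct_mk_injective (A := A) (B := S) N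
  have hεe : Coalgebra.counit (R := A) e = 0 := by
    have h1 := Ideal.mem_map_of_mem (Bialgebra.counitAlgHom A C : C →+* A) heI
    rw [Ideal.map_map, show (Bialgebra.counitAlgHom A C : C →+* A).comp (algebraMap A C) = RingHom.id A from
      (Bialgebra.counitAlgHom A C).comp_algebraMap, Ideal.map_id] at h1
    exact Hensel.idempotent_eq_of_sub_mem_jacobson (he.map (Bialgebra.counitAlgHom A C))
      IsIdempotentElem.zero (by rw [sub_zero]; exact hI h1)
  -- idempotents in `IC` die on the subgroup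
  have hkill : ∀ f : C, IsIdempotentElem f → f ∈ Ideal.map (algebraMap A C) I → f * (1 - e) = 0 := by
    intro f hf hfI
    refine hinj C ?_
    show (1 : S) ⊗ₜ[A] (f * (1 - e)) = (1 : S) ⊗ₜ[A] 0
    rw [TensorProduct.tmul_zero]
    rcases subsingleton_or_nontrivial S with hS | hS
    · haveI : Subsingleton (S ⊗[A] C) := Module.subsingleton S _
      exact Subsingleton.elim _ _
    haveI := hFG hS
    let Φ : C →ₐ[A] MonoidAlgebra S M := (ψa.restrictScalars A).comp Algebra.TensorProduct.includeRight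
    have h0 : ψa ((1 : S) ⊗ₜ[A] f) = 0 :=
      idempotent_eq_zero hIS (hf.map Φ) fun m => coeff_mem_of_mem_map Φ hfI m
    obtain ⟨t, ht⟩ := Ideal.mem_span_singleton'.1 (hker.le h0)
    rw [show (1 : S) ⊗ₜ[A] (f * (1 - e)) = ((1 : S) ⊗ₜ[A] f) * ((1 : S) ⊗ₜ[A] 1 - eS) by
      simp [eS, TensorProduct.tmul_sub, mul_sub], ← Algebra.TensorProduct.one_def, ← ht, mul_assoc, mul_sub,
      mul_one, heS.eq, sub_self, mul_zero]
  have hΔ : Coalgebra.comul (R := A) e * ((1 - e) ⊗ₜ[A] (1 - e)) = 0 := by
    choose γ hγ using fun m : M => hψ (MonoidAlgebra.single m 1)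
    let σ : MonoidAlgebra S M →ₗ[S] S ⊗[A] C :=
      (MonoidAlgebra.basis M S).constr S fun m => (1 - eS) * γ m
    have hσ : ∀ y, σ (ψa y) = (1 - eS) * y := by
      have h1 : ∀ w, ∃ y, ψa y = w ∧ σ w = (1 - eS) * y := by
        intro w
        induction w using MonoidAlgebra.induction_linear with
        | zero => exact ⟨0, map_zero ψa, by simp⟩
        | add p q hp hq =>
          obtain ⟨y, hy, hy'⟩ := hp
          obtain ⟨z, hz, hz'⟩ := hq
          exact ⟨y + z, by rw [map_add, hy, hz], by rw [map_add, hy', hz', mul_add]⟩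
        | single m s =>
          refine ⟨s • γ m, by rw [map_smul, show ψa (γ m) = _ from hγ m]; simp, ?_⟩
          rw [show (MonoidAlgebra.single m s : MonoidAlgebra S M) = s • MonoidAlgebra.basis M S m by simp,
            map_smul, Module.Basis.constr_basis, mul_smul_comm]
      intro y
      obtain ⟨z, hz, hz'⟩ := h1 (ψa y)
      rw [hz', ← sub_eq_zero, ← mul_sub]
      obtain ⟨t, ht⟩ := Ideal.mem_span_singleton'.1
        (hker.le (show z - y ∈ RingHom.ker ψa by rw [RingHom.mem_ker, map_sub, hz, sub_self]))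
      rw [← ht, mul_left_comm, sub_mul, one_mul, heS.eq, sub_self, mul_zero]
    have hy : TensorProduct.map (ψa.toLinearMap) (ψa.toLinearMap) (Coalgebra.comul (R := S) eS) = 0 := by
      have h1 := CoalgHomClass.map_comp_comul_apply ψ eS
      rw [show ψ eS = 0 from hker.ge (Ideal.mem_span_singleton_self eS), map_zero] at h1
      exact h1
    have h2 : ((1 - eS) ⊗ₜ[S] (1 - eS)) * Coalgebra.comul (R := S) eS = 0 := by
      have h3 := congrArg (TensorProduct.map σ σ) hy
      rw [map_zero] at h3
      rw [← h3]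
      generalize Coalgebra.comul (R := S) eS = z
      induction z using TensorProduct.induction_on with
      | zero => simp
      | tmul a b => simp [hσ]
      | add a b ha hb => rw [mul_add, map_add, map_add, ha, hb]
    let K : (S ⊗[A] C) ⊗[S] (S ⊗[A] C) →ₐ[S] S ⊗[A] (C ⊗[A] C) :=
      Algebra.TensorProduct.lift (j₁ (R := A) (A := C) S) (j₂ (R := A) (A := C) S) fun _ _ => Commute.all _ _
    have hK : ∀ z, K z = kap S z := by
      intro z
      induction z using TensorProduct.induction_on with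
      | zero => simp
      | tmul a b => rw [kap_tmul]; simp [K]
      | add a b ha hb => simp only [map_add, ha, hb]
    have h4 := congrArg K h2
    rw [map_mul, map_zero, hK (Coalgebra.comul (R := S) eS), kap_comul] at h4
    refine hinj (C ⊗[A] C) ?_
    show (1 : S) ⊗ₜ[A] (_ : C ⊗[A] C) = (1 : S) ⊗ₜ[A] 0
    rw [TensorProduct.tmul_zero, ← h4, show (1 : S) ⊗ₜ[A] (Coalgebra.comul (R := A) e * ((1 - e) ⊗ₜ[A] (1 - e))) =
      ((1 : S) ⊗ₜ[A] ((1 - e) ⊗ₜ[A] (1 - e))) * ((1 : S) ⊗ₜ[A] Coalgebra.comul (R := A) e) by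
        rw [Algebra.TensorProduct.tmul_mul_tmul, one_mul, mul_comm]]
    congr 1
    · simp [K, eS, j₁, j₂, Algebra.TensorProduct.one_def, ← TensorProduct.tmul_sub]
  have hmk : Ideal.Quotient.mk (Ideal.span {e}) (1 - e) = 1 := by
    rw [map_sub, map_one, Ideal.Quotient.eq_zero_iff_mem.2 (Ideal.mem_span_singleton_self e), sub_zero]
  haveI hH : (Ideal.span {e}).IsHopfIdeal A :=
    { counit_eq_zero := fun x hx => by
        obtain ⟨t, rfl⟩ := Ideal.mem_span_singleton'.1 hx
        show Bialgebra.counitAlgHom A C (t * e) = 0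
        rw [map_mul, show Bialgebra.counitAlgHom A C e = 0 from hεe, mul_zero]
      map_mkQ_comul_eq_zero := fun x hx => by
        obtain ⟨t, rfl⟩ := Ideal.mem_span_singleton'.1 hx
        let P := Algebra.TensorProduct.map (Ideal.Quotient.mkₐ A (Ideal.span {e})) (Ideal.Quotient.mkₐ A (Ideal.span {e}))
        show P (Coalgebra.comul (R := A) (t * e)) = 0
        have h1 := congrArg P hΔ
        rw [map_mul, map_zero, Algebra.TensorProduct.map_tmul, Ideal.Quotient.mkₐ_eq_mk, hmk,
          ← Algebra.TensorProduct.one_def, mul_one] at h1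
        rw [Bialgebra.comul_mul, map_mul, h1, mul_zero]
      antipode_mem := fun x hx => by
        obtain ⟨t, rfl⟩ := Ideal.mem_span_singleton'.1 hx
        have hSe : HopfAlgebra.antipodeAlgHom A C e ∈ Ideal.map (algebraMap A C) I := by
          have := Ideal.mem_map_of_mem (HopfAlgebra.antipodeAlgHom A C).toRingHom heI
          rwa [Ideal.map_map, show (HopfAlgebra.antipodeAlgHom A C).toRingHom.comp (algebraMap A C) =
            algebraMap A C from (HopfAlgebra.antipodeAlgHom A C).comp_algebraMap] at this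
        have h1 := hkill _ (he.map (HopfAlgebra.antipodeAlgHom A C)) hSe
        rw [mul_sub, mul_one, sub_eq_zero] at h1
        show HopfAlgebra.antipodeAlgHom A C (t * e) ∈ Ideal.span {e}
        rw [map_mul, h1, ← mul_assoc]
        exact Ideal.mul_mem_left _ _ (Ideal.mem_span_singleton_self e) }
  let Φ : C →ₐ[A] MonoidAlgebra S M := (ψa.restrictScalars A).comp Algebra.TensorProduct.includeRight
  let Θa : S ⊗[A] (C ⧸ Ideal.span {e}) →ₐ[S] MonoidAlgebra S M :=
    Algebra.TensorProduct.lift (Algebra.ofId S _)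
      (Ideal.Quotient.liftₐ (Ideal.span {e}) Φ fun x hx => by
        obtain ⟨t, rfl⟩ := Ideal.mem_span_singleton'.1 hx
        rw [map_mul, show Φ e = 0 from hker.ge (Ideal.mem_span_singleton_self eS), mul_zero])
      fun _ _ => Commute.all _ _
  let Pr : S ⊗[A] C →ₐc[S] S ⊗[A] (C ⧸ Ideal.span {e}) :=
    Bialgebra.TensorProduct.map (BialgHom.id S S) (Bialgebra.Quotient.mkBialgHom (R := A) (Ideal.span {e}))
  have hPr : Function.Surjective Pr := by
    intro z
    induction z using TensorProduct.induction_on with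
    | zero => exact ⟨0, map_zero Pr⟩
    | tmul s c =>
      obtain ⟨c, rfl⟩ := Ideal.Quotient.mk_surjective c
      exact ⟨s ⊗ₜ c, rfl⟩
    | add p q hp hq =>
      obtain ⟨p, rfl⟩ := hp
      obtain ⟨q, rfl⟩ := hq
      exact ⟨p + q, map_add Pr p q⟩
  have hΘPr : ∀ y, Θa (Pr y) = ψ y := by
    intro y
    induction y using TensorProduct.induction_on with
    | zero => simp
    | add p q hp hq => simp only [map_add, hp, hq]
    | tmul s c =>
      rw [show s ⊗ₜ[A] c = s • ((1 : S) ⊗ₜ[A] c) by simp [TensorProduct.smul_tmul'], map_smul, map_smul, map_smul]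
      congr 1
      show Θa ((1 : S) ⊗ₜ[A] Ideal.Quotient.mk _ c) = _
      simp [Θa, Φ, ψa, ← Algebra.TensorProduct.one_def, ← MonoidAlgebra.one_def]
      all_goals rfl
  let Θ : S ⊗[A] (C ⧸ Ideal.span {e}) →ₐc[S] MonoidAlgebra S M :=
    BialgHom.ofAlgHom Θa
      (AlgHom.ext fun z => by
        obtain ⟨y, rfl⟩ := hPr z
        show Coalgebra.counit (R := S) (Θa (Pr y)) = Coalgebra.counit (R := S) (Pr y)
        rw [hΘPr, CoalgHomClass.counit_comp_apply, CoalgHomClass.counit_comp_apply])
      (AlgHom.ext fun z => by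
        obtain ⟨y, rfl⟩ := hPr z
        show Algebra.TensorProduct.map Θa Θa (Coalgebra.comul (R := S) (Pr y)) = Coalgebra.comul (R := S) (Θa (Pr y))
        rw [hΘPr, ← CoalgHomClass.map_comp_comul_apply ψ y, ← CoalgHomClass.map_comp_comul_apply Pr y]
        generalize Coalgebra.comul (R := S) y = w
        induction w using TensorProduct.induction_on with
        | zero => simp
        | tmul a b => simp [hΘPr]
        | add a b ha hb => simp only [map_add, ha, hb])
  have hΘ : Function.Bijective Θ := by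
    refine ⟨(injective_iff_map_eq_zero Θ).2 fun z hz => ?_, fun w => ?_⟩
    · obtain ⟨y, rfl⟩ := hPr z
      obtain ⟨t, rfl⟩ := Ideal.mem_span_singleton'.1 (hker.le (show ψ y = 0 from (hΘPr y).symm.trans hz))
      rw [map_mul, show Pr eS = (1 : S) ⊗ₜ[A] Ideal.Quotient.mk _ e from rfl,
        Ideal.Quotient.eq_zero_iff_mem.2 (Ideal.mem_span_singleton_self e), TensorProduct.tmul_zero, mul_zero]
    · obtain ⟨y, rfl⟩ := hψ w
      exact ⟨Pr y, hΘPr y⟩
  exact ⟨hH, ⟨S, inferInstance, inferInstance, inferInstance, inferInstance, inferInstance, M, inferInstance,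
    ⟨BialgEquiv.ofBijective Θ hΘ⟩⟩, ⟨BialgEquiv.ofBijective Θ hΘ⟩⟩

end Groth.Agent.MultType
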