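import Groth.Agent.MultType.HenselDiag

/-!
Spreading out a splitting from a local ring.
-/

universe u

open TensorProduct SGA3b MonoidAlgebra
open scoped TensorProduct

namespace Groth.Agent.MultType

/-- The group algebra of a finitely generated abelian group is finitely presented. -/
lemma finitePresentation_monoidAlgebra (R : Type u) [CommRing R] (M : Type u) [CommGroup M] [Group.FG M] :
    Algebra.FinitePresentation R (MonoidAlgebra R M) := by
  haveI : Monoid.FG M := Group.fg_iff_monoid_fg.1 inferInstance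
  haveI : Algebra.FiniteType ℤ (MonoidAlgebra ℤ M) := MonoidAlgebra.finiteType_iff_fg.2 inferInstance
  haveI : Algebra.FinitePresentation ℤ (MonoidAlgebra ℤ M) := Algebra.FinitePresentation.of_finiteType.1 inferInstance
  exact Algebra.FinitePresentation.equiv (MonoidAlgebra.scalarTensorEquiv ℤ R (M := M))

variable {R : Type u} [CommRing R] {S : Type u} [CommRing S] [Algebra R S] {q : Ideal S} [q.IsPrime]

/-- The map from a principal localisation to the local ring. -/
noncomputable def awayToLocal (s : S) (hs : s ∉ q) : Localization.Away s →ₐ[R] Localization.AtPrime q :=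
  IsLocalization.liftAlgHom (M := Submonoid.powers s) (f := IsScalarTower.toAlgHom R S (Localization.AtPrime q))
    fun ⟨_, k, hk⟩ => by
      subst hk
      simpa using (IsLocalization.map_units (Localization.AtPrime q) (⟨s, hs⟩ : q.primeCompl)).pow k

lemma awayToLocal_algebraMap (s : S) (hs : s ∉ q) (a : S) :
    awayToLocal (R := R) s hs (algebraMap S (Localization.Away s) a) = algebraMap S (Localization.AtPrime q) a :=
  IsLocalization.lift_eq _ _

/-- Transition maps between principal localisations. -/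
lemma exists_away_hom {s s' : S} (hs : s ∉ q) (hs' : s' ∉ q) (h : s ∣ s') :
    ∃ ρ : Localization.Away s →ₐ[R] Localization.Away s',
      (awayToLocal (R := R) s' hs').comp ρ = awayToLocal s hs ∧ ∀ a, ρ (algebraMap S _ a) = algebraMap S _ a := by
  have hu : IsUnit (algebraMap S (Localization.Away s') s) :=
    isUnit_of_dvd_unit ((algebraMap S (Localization.Away s')).map_dvd h) (IsLocalization.Away.algebraMap_isUnit s')
  let ρ : Localization.Away s →ₐ[R] Localization.Away s' :=
    IsLocalization.liftAlgHom (M := Submonoid.powers s) (f := IsScalarTower.toAlgHom R S (Localization.Away s'))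
      fun ⟨_, k, hk⟩ => by
        subst hk
        simpa using hu.pow k
  have hρ : ∀ a, ρ (algebraMap S _ a) = algebraMap S _ a := fun a => IsLocalization.lift_eq _ a
  refine ⟨ρ, IsLocalization.algHom_ext (Submonoid.powers s) (AlgHom.ext fun a => ?_), hρ⟩
  show awayToLocal s' hs' (ρ (algebraMap S _ a)) = awayToLocal s hs (algebraMap S _ a)
  rw [hρ, awayToLocal_algebraMap, awayToLocal_algebraMap]

variable {N : Type u} [CommRing N] [Algebra R N]

lemma map_map_left {X Y Z : Type u} [CommRing X] [Algebra R X] [CommRing Y] [Algebra R Y] [CommRing Z] [Algebra R Z]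
    (f : X →ₐ[R] Y) (g : Y →ₐ[R] Z) (z : X ⊗[R] N) :
    Algebra.TensorProduct.map g (AlgHom.id R N) (Algebra.TensorProduct.map f (AlgHom.id R N) z) =
      Algebra.TensorProduct.map (g.comp f) (AlgHom.id R N) z := by
  induction z using TensorProduct.induction_on with
  | zero => simp
  | tmul a b => simp
  | add a b ha hb => simp only [map_add, ha, hb]

/-- Finitely many elements lift to a principal localisation. -/
lemma exists_lift_away (F : Finset (Localization.AtPrime q ⊗[R] N)) :
    ∃ (s : S) (hs : s ∉ q), ∀ z ∈ F, ∃ x : Localization.Away s ⊗[R] N,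
      Algebra.TensorProduct.map (awayToLocal (R := R) s hs) (AlgHom.id R N) x = z := by
  classical
  have one : ∀ z : Localization.AtPrime q ⊗[R] N, ∃ (s : S) (hs : s ∉ q), ∀ s' (hs' : s' ∉ q), s ∣ s' →
      ∃ x : Localization.Away s' ⊗[R] N, Algebra.TensorProduct.map (awayToLocal (R := R) s' hs') (AlgHom.id R N) x = z := by
    intro z
    induction z using TensorProduct.induction_on with
    | zero => exact ⟨1, fun h => ‹q.IsPrime›.ne_top ((Ideal.eq_top_iff_one q).2 h), fun _ _ _ => ⟨0, map_zero _⟩⟩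
    | tmul l n =>
      obtain ⟨⟨a, t⟩, hat⟩ := IsLocalization.surj q.primeCompl l
      refine ⟨t, t.2, fun s' hs' hd => ?_⟩
      obtain ⟨ρ, hρ, hρa⟩ := exists_away_hom (R := R) t.2 hs' hd
      let v : Localization.Away (t : S) := IsLocalization.Away.invSelf (t : S)
      refine ⟨ρ (algebraMap S _ a * v) ⊗ₜ n, ?_⟩
      rw [Algebra.TensorProduct.map_tmul, AlgHom.id_apply, ← AlgHom.comp_apply, hρ]
      congr 1
      refine (IsLocalization.map_units (Localization.AtPrime q) t).mul_right_cancel ?_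
      simp only at hat
      rw [hat, ← awayToLocal_algebraMap (R := R) (t : S) t.2 a, ← awayToLocal_algebraMap (R := R) (t : S) t.2 t,
        ← map_mul, mul_assoc, mul_comm v, IsLocalization.Away.mul_invSelf, _root_.mul_one]
    | add x y hx hy =>
      obtain ⟨s, hs, hx⟩ := hx
      obtain ⟨t, ht, hy⟩ := hy
      refine ⟨s * t, fun h => ((‹q.IsPrime›.mem_or_mem h).elim hs ht), fun s' hs' hd => ?_⟩
      obtain ⟨x', hx'⟩ := hx s' hs' (dvd_trans (dvd_mul_right s t) hd)
      obtain ⟨y', hy'⟩ := hy s' hs' (dvd_trans (dvd_mul_left t s) hd)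
      exact ⟨x' + y', by rw [map_add, hx', hy']⟩
  choose t ht hz using one
  have hs : (∏ z ∈ F, t z) ∉ q := fun h => by
    obtain ⟨z, -, hzq⟩ := ‹q.IsPrime›.prod_mem_iff.1 h
    exact ht z hzq
  exact ⟨_, hs, fun z hzF => hz z _ hs (Finset.dvd_prod_of_mem t hzF)⟩

/-- Finitely many relations hold on a principal localisation. -/
lemma exists_kill_away {s : S} (hs : s ∉ q) {ι : Type*} (F : Finset ι) (z : ι → Localization.Away s ⊗[R] N)
    (hz : ∀ i ∈ F, Algebra.TensorProduct.map (awayToLocal (R := R) s hs) (AlgHom.id R N) (z i) = 0) :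
    ∃ (s' : S) (hs' : s' ∉ q) (ρ : Localization.Away s →ₐ[R] Localization.Away s'), s ∣ s' ∧
      (awayToLocal (R := R) s' hs').comp ρ = awayToLocal s hs ∧ (∀ a, ρ (algebraMap S _ a) = algebraMap S _ a) ∧
      ∀ i ∈ F, Algebra.TensorProduct.map ρ (AlgHom.id R N) (z i) = 0 := by
  classical
  let toA : S →ₐ[R] Localization.Away s := IsScalarTower.toAlgHom R S _
  have clear_den : ∀ w : Localization.Away s ⊗[R] N, ∃ (k : ℕ) (v : S ⊗[R] N),
      Algebra.TensorProduct.map toA (AlgHom.id R N) v = algebraMap S (Localization.Away s) (s ^ k) • w := by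
    intro w
    induction w using TensorProduct.induction_on with
    | zero => exact ⟨0, 0, by simp⟩
    | tmul a n =>
      obtain ⟨⟨b, _, k, rfl⟩, hb⟩ := IsLocalization.surj (Submonoid.powers s) a
      refine ⟨k, b ⊗ₜ n, ?_⟩
      rw [Algebra.TensorProduct.map_tmul, AlgHom.id_apply, TensorProduct.smul_tmul', smul_eq_mul, mul_comm]
      exact congrArg (· ⊗ₜ n) hb.symm
    | add x y hx hy =>
      obtain ⟨k, v, hv⟩ := hx
      obtain ⟨l, w, hw⟩ := hy
      refine ⟨k + l, s ^ l • v + s ^ k • w, ?_⟩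
      have hsm : ∀ (r : S) (u : S ⊗[R] N), Algebra.TensorProduct.map toA (AlgHom.id R N) (r • u) =
          algebraMap S (Localization.Away s) r • Algebra.TensorProduct.map toA (AlgHom.id R N) u := by
        intro r u
        induction u using TensorProduct.induction_on with
        | zero => simp
        | tmul p n => simp [toA, TensorProduct.smul_tmul', Algebra.smul_def]
        | add p n hp hn => simp only [smul_add, map_add, hp, hn]
      rw [map_add, hsm, hsm, hv, hw, smul_smul, smul_smul, ← map_mul, ← map_mul, ← pow_add, ← pow_add,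
        add_comm l k, smul_add]
  haveI : IsLocalizedModule q.primeCompl (TensorProduct.mk S (Localization.AtPrime q) (S ⊗[R] N) 1) :=
    (isLocalizedModule_iff_isBaseChange q.primeCompl (Localization.AtPrime q) _).2
      (TensorProduct.isBaseChange S (S ⊗[R] N) (Localization.AtPrime q))
  have key : ∀ i ∈ F, ∃ t ∉ q, ∀ s' (ρ : Localization.Away s →ₐ[R] Localization.Away s'),
      t ∣ s' → (∀ a, ρ (algebraMap S _ a) = algebraMap S _ a) →
      Algebra.TensorProduct.map ρ (AlgHom.id R N) (z i) = 0 := by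
    intro i hi
    obtain ⟨k, v, hv⟩ := clear_den (z i)
    have hsm : ∀ {T : Type u} [CommRing T] [Algebra R T] (f : Localization.Away s →ₐ[R] T) (r : Localization.Away s)
        (u : Localization.Away s ⊗[R] N), Algebra.TensorProduct.map f (AlgHom.id R N) (r • u) =
          f r • Algebra.TensorProduct.map f (AlgHom.id R N) u := by
      intro T _ _ f r u
      induction u using TensorProduct.induction_on with
      | zero => simp
      | tmul p n => simp [TensorProduct.smul_tmul']
      | add p n hp hn => simp only [smul_add, map_add, hp, hn]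
    have h0 : Algebra.TensorProduct.map (IsScalarTower.toAlgHom R S (Localization.AtPrime q)) (AlgHom.id R N) v = 0 := by
      have := congrArg (Algebra.TensorProduct.map (awayToLocal (R := R) s hs) (AlgHom.id R N)) hv
      rw [map_map_left, hsm, hz i hi, smul_zero] at this
      rwa [show (awayToLocal (R := R) s hs).comp toA = IsScalarTower.toAlgHom R S (Localization.AtPrime q) from
        AlgHom.ext fun a => awayToLocal_algebraMap s hs a] at this
    have h1 : TensorProduct.mk S (Localization.AtPrime q) (S ⊗[R] N) 1 v = 0 := by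
      apply (TensorProduct.AlgebraTensorModule.cancelBaseChange R S S (Localization.AtPrime q) N).injective
      rw [map_zero]
      refine Eq.trans ?_ h0
      clear hv h0
      induction v using TensorProduct.induction_on with
      | zero => simp
      | tmul a n => simp [Algebra.smul_def]
      | add p n hp hn => simp only [map_add, hp, hn]
    obtain ⟨t, ht⟩ := IsLocalizedModule.exists_of_eq (S := q.primeCompl) (h1.trans (map_zero _).symm)
    rw [smul_zero] at ht
    refine ⟨t, t.2, fun s' ρ hd hρ => ?_⟩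
    have h2 := congrArg (Algebra.TensorProduct.map ρ (AlgHom.id R N)) hv
    rw [map_map_left, hsm, show ρ.comp toA = IsScalarTower.toAlgHom R S (Localization.Away s') from AlgHom.ext hρ,
      hρ] at h2
    have hu : IsUnit (algebraMap S (Localization.Away s') (t : S)) :=
      isUnit_of_dvd_unit ((algebraMap S (Localization.Away s')).map_dvd hd) (IsLocalization.Away.algebraMap_isUnit s')
    have hsu : IsUnit (algebraMap S (Localization.Away s') (s ^ k)) := by
      have hus : IsUnit (algebraMap S (Localization.Away s) s) := IsLocalization.Away.algebraMap_isUnit s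
      have := (hus.map ρ).pow k
      rw [hρ, ← map_pow] at this
      exact this
    have h3 : algebraMap S (Localization.Away s') (t : S) •
        Algebra.TensorProduct.map (IsScalarTower.toAlgHom R S (Localization.Away s')) (AlgHom.id R N) v = 0 := by
      rw [← map_zero (Algebra.TensorProduct.map (IsScalarTower.toAlgHom R S (Localization.Away s')) (AlgHom.id R N)),
        ← ht, Submonoid.smul_def]
      clear h2 hv h0 h1 ht
      induction v using TensorProduct.induction_on with
      | zero => simp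
      | tmul a n => simp [TensorProduct.smul_tmul', Algebra.smul_def]
      | add p n hp hn => simp only [smul_add, map_add, hp, hn]
    rw [hu.smul_eq_zero, h2, hsu.smul_eq_zero] at h3
    exact h3
  choose t ht hkill using key
  let s' := s * ∏ i ∈ F.attach, t i.1 i.2
  have hs' : s' ∉ q := fun h => (‹q.IsPrime›.mem_or_mem h).elim hs fun h' => by
    obtain ⟨i, -, hi⟩ := ‹q.IsPrime›.prod_mem_iff.1 h'
    exact ht i.1 i.2 hi
  obtain ⟨ρ, hρ, hρa⟩ := exists_away_hom (R := R) hs hs' (dvd_mul_right s _)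
  exact ⟨s', hs', ρ, dvd_mul_right s _, hρ, hρa, fun i hi => hkill i hi s' ρ
    (dvd_mul_of_dvd_right (Finset.dvd_prod_of_mem (fun j : F => t j.1 j.2) (Finset.mem_attach F ⟨i, hi⟩)) s) hρa⟩

set_option maxHeartbeats 1000000 in
theorem exists_isDiag_away {A : Type u} [CommRing A] [HopfAlgebra R A]
    [Algebra.FinitePresentation S (S ⊗[R] A)] (h : IsDiag (Localization.AtPrime q) (Localization.AtPrime q ⊗[R] A)) :
    ∃ s ∉ q, IsDiag (Localization.Away s) (Localization.Away s ⊗[R] A) := by
  classical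
  obtain ⟨M, _, ⟨e⟩⟩ := h
  let L := Localization.AtPrime q
  haveI : Algebra.FiniteType L (L ⊗[R] A) := by
    haveI : Algebra.FiniteType L (L ⊗[S] (S ⊗[R] A)) := inferInstance
    exact this.equiv (Algebra.TensorProduct.cancelBaseChange R S L L A)
  haveI : Group.FG M := Group.fg_iff_monoid_fg.2 (MonoidAlgebra.finiteType_iff_fg.1
    ((inferInstance : Algebra.FiniteType L (L ⊗[R] A)).equiv (e : (L ⊗[R] A) ≃ₐ[L] MonoidAlgebra L M)))
  obtain ⟨r, g, hg⟩ : ∃ (r : ℕ) (g : Fin r → M), Submodule.span ℤ (Set.range fun j => Additive.ofMul (g j)) = ⊤ := by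
    haveI : AddGroup.FG (Additive M) := inferInstance
    haveI : Module.Finite ℤ (Additive M) := Module.Finite.iff_addGroup_fg.2 inferInstance
    obtain ⟨r, g, hg⟩ := Module.Finite.exists_fin (R := ℤ) (M := Additive M)
    exact ⟨r, fun j => Additive.toMul (g j), by simpa using hg⟩
  let γ : M → L ⊗[R] A := fun m => e.symm (single m 1)
  have hγ : ∀ m, IsGroupLikeElem L (γ m) := fun m => (MonoidAlgebra.isGroupLikeElem_single_one m).map e.symm
  have hγmul : ∀ a b, γ (a * b) = γ a * γ b := fun a b => by simp [γ, ← map_mul]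
  have hγone : γ 1 = 1 := by simp [γ, ← MonoidAlgebra.one_def]
  -- generators and coefficients
  haveI : Algebra.FiniteType S (S ⊗[R] A) := inferInstance
  obtain ⟨G, hG⟩ := (inferInstance : Algebra.FiniteType S (S ⊗[R] A)).out
  let toL : S ⊗[R] A →ₐ[R] L ⊗[R] A := Algebra.TensorProduct.map (IsScalarTower.toAlgHom R S L) (AlgHom.id R A)
  let mons : Finset M := G.biUnion fun b => (e (toL b)).coeff.support
  let cs : Finset L := G.biUnion fun b => (e (toL b)).coeff.support.image fun m => (e (toL b)).coeff m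
  obtain ⟨s₁, hs₁, hlift⟩ := exists_lift_away (N := A)
    ((Finset.univ.image fun j => γ (g j)) ∪ (Finset.univ.image fun j => γ (g j)⁻¹) ∪
      cs.image fun c => c ⊗ₜ[R] (1 : A))
  let L₁ := Localization.Away s₁
  let ψ₁ : L₁ →ₐ[R] L := awayToLocal (R := R) s₁ hs₁
  choose x hx using fun j => hlift (γ (g j))
    (Finset.mem_union_left _ (Finset.mem_union_left _ (Finset.mem_image.2 ⟨j, Finset.mem_univ j, rfl⟩)))
  choose y hy using fun j => hlift (γ (g j)⁻¹)
    (Finset.mem_union_left _ (Finset.mem_union_right _ (Finset.mem_image.2 ⟨j, Finset.mem_univ j, rfl⟩)))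
  choose c hc using fun p : {l : L // l ∈ cs} => hlift (p.1 ⊗ₜ[R] (1 : A))
    (Finset.mem_union_right _ (Finset.mem_image.2 ⟨p.1, p.2, rfl⟩))
  -- exponents
  let l : (Fin r → ℤ) →ₗ[ℤ] Additive M := Fintype.linearCombination ℤ fun j => Additive.ofMul (g j)
  have hl : Function.Surjective l := by
    rw [← LinearMap.range_eq_top, Fintype.range_linearCombination, hg]
  choose w hw using fun m : M => hl (Additive.ofMul m)
  obtain ⟨rel, hrel⟩ : (LinearMap.ker l).FG := IsNoetherian.noetherian _
  -- words as monomials in the lifts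
  let word : ∀ {T : Type u} [CommRing T] (a b : Fin r → T) (v : Fin r → ℤ), T := fun a b v =>
    ∏ j, a j ^ (v j).toNat * b j ^ (-(v j)).toNat
  have hword : ∀ {T T' : Type u} [CommRing T] [CommRing T'] (f : T →+* T') (a b : Fin r → T) (v : Fin r → ℤ),
      f (word a b v) = word (fun j => f (a j)) (fun j => f (b j)) v := fun f a b v => by
    simp [word, map_prod]
  have hγpow : ∀ (m : M) (k : ℕ), γ (m ^ k) = γ m ^ k := fun m k => by
    induction k with
    | zero => simp [hγone]
    | succ k ih => rw [pow_succ, pow_succ, hγmul, ih]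
  have hwordL : ∀ v, word (fun j => γ (g j)) (fun j => γ (g j)⁻¹) v = γ (Additive.toMul (l v)) := by
    intro v
    have : Additive.toMul (l v) = ∏ j, g j ^ (v j).toNat * (g j)⁻¹ ^ (-(v j)).toNat := by
      rw [Fintype.linearCombination_apply, toMul_sum]
      refine Finset.prod_congr rfl fun j _ => ?_
      rw [toMul_zsmul, toMul_ofMul, inv_pow, ← zpow_natCast, ← zpow_natCast (g j) (-(v j)).toNat, ← zpow_neg,
        ← zpow_add]
      congr 1
      omega
    rw [this]
    simp only [word, map_mul, ← hγpow, ← hγmul]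
    induction (Finset.univ : Finset (Fin r)) using Finset.induction with
    | empty => simp [hγone]
    | insert a t ha ih => rw [Finset.prod_insert ha, Finset.prod_insert ha, ih, hγmul, hγmul, hγmul]
  -- equalities to kill
  let q₁ : L₁ ⊗[R] A →ₐ[R] L ⊗[R] A := Algebra.TensorProduct.map ψ₁ (AlgHom.id R A)
  have hq₁w : ∀ v, q₁ (word x y v) = γ (Additive.toMul (l v)) := fun v => by
    rw [show q₁ (word x y v) = word (fun j => q₁ (x j)) (fun j => q₁ (y j)) v from hword q₁.toRingHom x y v,
      ← hwordL]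
    simp only [q₁, ψ₁, hx, hy]
  let εA : L₁ ⊗[R] A →ₐ[R] L₁ ⊗[R] A := ((Algebra.TensorProduct.includeLeft :
    L₁ →ₐ[R] L₁ ⊗[R] A).comp ((jε (R := R) (A := A) L₁).restrictScalars R))
  let liftG : ∀ b ∈ G, L₁ ⊗[R] A := fun b hb =>
    Algebra.TensorProduct.map (IsScalarTower.toAlgHom R S L₁) (AlgHom.id R A) b -
      ∑ m : {m // m ∈ (e (toL b)).coeff.support},
        c ⟨(e (toL b)).coeff m.1, Finset.mem_biUnion.2 ⟨b, hb, Finset.mem_image.2 ⟨m.1, m.2, rfl⟩⟩⟩ * word x y (w m.1)
  let E : (Fin r ⊕ Fin r) ⊕ (rel ⊕ (G ⊕ {z : L // z ∈ cs})) → L₁ ⊗[R] A := Sum.elim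
    (Sum.elim (fun j => εA (x j) - 1) (fun j => x j * y j - 1))
    (Sum.elim (fun v => word x y v.1 - 1) (Sum.elim (fun b => liftG b.1 b.2) fun z => c z - εA (c z)))
  have hjε : ∀ (z : L₁ ⊗[R] A), jε (R := R) (A := A) L (q₁ z) = ψ₁ (jε (R := R) (A := A) L₁ z) := by
    intro z
    induction z using TensorProduct.induction_on with
    | zero => simp
    | tmul a b => simp [jε, q₁]
    | add p n hp hn => simp only [map_add, hp, hn]
  have hE : ∀ i ∈ (Finset.univ : Finset ((Fin r ⊕ Fin r) ⊕ (rel ⊕ (G ⊕ {z : L // z ∈ cs})))), q₁ (E i) = 0 := by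
    intro i _
    rcases i with (j | j) | v | b | z
    · show q₁ (εA (x j) - 1) = 0
      rw [map_sub, map_one, sub_eq_zero]
      show (ψ₁ (jε (R := R) (A := A) L₁ (x j))) ⊗ₜ[R] (1 : A) = 1
      rw [← hjε, show q₁ (x j) = γ (g j) from hx j, ((isGroupLikeElem_iff _).1 (hγ _)).1]
      rfl
    · show q₁ (x j * y j - 1) = 0
      rw [map_sub, map_mul, map_one, show q₁ (x j) = γ (g j) from hx j, show q₁ (y j) = γ (g j)⁻¹ from hy j,
        ← hγmul, mul_inv_cancel, hγone, sub_self]
    · show q₁ (word x y v.1 - 1) = 0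
      have hv : l v.1 = 0 := by
        have : v.1 ∈ Submodule.span ℤ (rel : Set (Fin r → ℤ)) := Submodule.subset_span v.2
        rw [hrel] at this
        exact this
      rw [map_sub, map_one, hq₁w, hv, toMul_zero, hγone, sub_self]
    · show q₁ (liftG b.1 b.2) = 0
      simp only [liftG, map_sub, map_sum, map_mul]
      rw [sub_eq_zero, map_map_left, show ψ₁.comp (IsScalarTower.toAlgHom R S L₁) = IsScalarTower.toAlgHom R S L from
        AlgHom.ext fun a => awayToLocal_algebraMap s₁ hs₁ a]
      show toL b.1 = _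
      refine (e.symm_apply_apply (toL b.1)).symm.trans ?_
      conv_lhs => rw [← MonoidAlgebra.sum_single (e (toL b.1)), Finsupp.sum, ← Finset.sum_coe_sort, map_sum]
      refine Finset.sum_congr rfl fun m _ => ?_
      rw [hq₁w, show q₁ (c _) = _ from hc _, hw, toMul_ofMul,
        show (single m.1 ((e (toL b.1)).coeff m.1) : MonoidAlgebra L M) = (e (toL b.1)).coeff m.1 • single m.1 1 by simp,
        map_smul]
      simp only [γ]
      exact Algebra.smul_def (R := L) ((e (toL b.1)).coeff m.1) (e.symm (single m.1 1))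
    · show q₁ (c z - εA (c z)) = 0
      rw [map_sub, sub_eq_zero]
      show q₁ (c z) = ψ₁ (jε (R := R) (A := A) L₁ (c z)) ⊗ₜ[R] (1 : A)
      rw [← hjε, show q₁ (c z) = _ from hc z]
      simp [jε]
  -- comultiplication
  let δ : Fin r → L₁ ⊗[R] (A ⊗[R] A) := fun j => jΔ L₁ (x j) - j₁ L₁ (x j) * j₂ L₁ (x j)
  have natj : ∀ {T T' : Type u} [CommRing T] [Algebra R T] [CommRing T'] [Algebra R T'] (f : T →ₐ[R] T')
      (φ : A →ₐ[R] A ⊗[R] A) (z : T ⊗[R] A),
      Algebra.TensorProduct.map (AlgHom.id T' T') φ (Algebra.TensorProduct.map f (AlgHom.id R A) z) =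
        Algebra.TensorProduct.map f (AlgHom.id R (A ⊗[R] A)) (Algebra.TensorProduct.map (AlgHom.id T T) φ z) := by
    intro T T' _ _ _ _ f φ z
    induction z using TensorProduct.induction_on with
    | zero => simp
    | tmul a b => simp
    | add p n hp hn => simp only [map_add, hp, hn]
  have hδ : ∀ j ∈ (Finset.univ : Finset (Fin r)),
      Algebra.TensorProduct.map ψ₁ (AlgHom.id R (A ⊗[R] A)) (δ j) = 0 := by
    intro j _
    simp only [δ, map_sub, map_mul]
    unfold jΔ j₁ j₂
    rw [← natj, ← natj, ← natj, sub_eq_zero]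
    simp only [hx, ψ₁]
    exact ((isGroupLikeElem_iff _).1 (hγ _)).2
  obtain ⟨s₂, hs₂, ρ₂, -, hρ₂, hρ₂a, hk₂⟩ := exists_kill_away (N := A) hs₁ Finset.univ E hE
  obtain ⟨s₃, hs₃, ρ₃, -, hρ₃, hρ₃a, hk₃⟩ := exists_kill_away (N := A ⊗[R] A) hs₂ Finset.univ
    (fun j => Algebra.TensorProduct.map ρ₂ (AlgHom.id R (A ⊗[R] A)) (δ j))
    (fun j hj => by rw [map_map_left, hρ₂]; exact hδ j hj)
  let L₂ := Localization.Away s₃
  let ρ : L₁ →ₐ[R] L₂ := ρ₃.comp ρ₂
  have hρ : (awayToLocal (R := R) s₃ hs₃).comp ρ = ψ₁ := by rw [← AlgHom.comp_assoc, hρ₃, hρ₂]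
  let p : L₁ ⊗[R] A →ₐ[R] L₂ ⊗[R] A := Algebra.TensorProduct.map ρ (AlgHom.id R A)
  have hk : ∀ i, p (E i) = 0 := fun i => by
    show Algebra.TensorProduct.map (ρ₃.comp ρ₂) _ (E i) = 0
    rw [← map_map_left, hk₂ i (Finset.mem_univ i), map_zero]
  let ψ₂ : L₂ →ₐ[R] L := awayToLocal (R := R) s₃ hs₃
  let q₂ : L₂ ⊗[R] A →ₐ[R] L ⊗[R] A := Algebra.TensorProduct.map ψ₂ (AlgHom.id R A)
  have hgl : ∀ j, IsGroupLikeElem L₂ (p (x j)) := by
    intro j
    rw [isGroupLikeElem_iff]
    constructor
    · have h := hk (Sum.inl (Sum.inl j))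
      simp only [E, Sum.elim_inl, map_sub, map_one, sub_eq_zero] at h
      have h1 := congrArg (jε (R := R) (A := A) L₂) h
      have hsimp : jε (R := R) (A := A) L₂ (p (εA (x j))) = ρ (jε (R := R) (A := A) L₁ (x j)) := by
        show jε (R := R) (A := A) L₂ (Algebra.TensorProduct.map ρ (AlgHom.id R A)
          ((jε (R := R) (A := A) L₁ (x j)) ⊗ₜ[R] (1 : A))) = _
        simp [jε]
      rw [hsimp, map_one] at h1
      rw [← h1]
      induction x j using TensorProduct.induction_on with
      | zero => simp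
      | tmul a b => simp [jε, p]
      | add u v hu hv => simp only [map_add, hu, hv]
    · have h := hk₃ j (Finset.mem_univ j)
      rw [map_map_left] at h
      simp only [δ, map_sub, map_mul, sub_eq_zero] at h
      unfold jΔ j₁ j₂ at h ⊢
      rw [natj, natj, natj]
      exact h
  let U : Fin r → (L₂ ⊗[R] A)ˣ := fun j => Units.mkOfMulEqOne (p (x j)) (p (y j)) (by
    have h := hk (Sum.inl (Sum.inr j))
    simp only [E, Sum.elim_inl, Sum.elim_inr, map_sub, map_mul, map_one, sub_eq_zero] at h
    exact h)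
  letI : CommGroup (L₂ ⊗[R] A)ˣ := Units.instCommGroupUnits
  letI : Module ℤ (Additive (L₂ ⊗[R] A)ˣ) := AddCommGroup.toIntModule _
  let l₀ : (Fin r → ℤ) →ₗ[ℤ] Additive (L₂ ⊗[R] A)ˣ := Fintype.linearCombination ℤ fun j => Additive.ofMul (U j)
  have hl₀ : ∀ v, ((Additive.toMul (l₀ v) : (L₂ ⊗[R] A)ˣ) : L₂ ⊗[R] A) = p (word x y v) := by
    intro v
    rw [show p (word x y v) = word (fun j => p (x j)) (fun j => p (y j)) v from hword p.toRingHom x y v,
      Fintype.linearCombination_apply, toMul_sum, Units.coe_prod]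
    refine Finset.prod_congr rfl fun j _ => ?_
    rw [toMul_zsmul, toMul_ofMul]
    conv_lhs => rw [show v j = ((v j).toNat : ℤ) + -((-(v j)).toNat : ℤ) by omega, zpow_add, zpow_neg, zpow_natCast,
      zpow_natCast, ← inv_pow]
    simp [U]
    rfl
  have hker : LinearMap.ker l ≤ LinearMap.ker l₀ := by
    rw [← hrel, Submodule.span_le]
    intro v hv
    have h := hk (Sum.inr (Sum.inl ⟨v, hv⟩))
    simp only [E, Sum.elim_inl, Sum.elim_inr, map_sub, map_one, sub_eq_zero] at h
    rw [← hl₀] at h
    exact Additive.toMul.injective (Units.ext h)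
  have hfac : ∀ v v', l v = l v' → l₀ v = l₀ v' := fun v v' hvv => sub_eq_zero.1 (by
    rw [← map_sub]; exact hker (by rw [LinearMap.mem_ker, map_sub, hvv, sub_self]))
  let θ : M →* L₂ ⊗[R] A :=
    { toFun := fun m => ((Additive.toMul (l₀ (w m)) : (L₂ ⊗[R] A)ˣ) : L₂ ⊗[R] A)
      map_one' := by rw [hfac (w 1) 0 (by rw [hw, map_zero, ofMul_one]), map_zero]; rfl
      map_mul' := fun a b => by
        rw [hfac (w (a * b)) (w a + w b) (by rw [map_add, hw, hw, hw, ofMul_mul]), map_add]; rfl }
  have hθgl : ∀ m, IsGroupLikeElem L₂ (θ m) := by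
    intro m
    show IsGroupLikeElem L₂ ((Additive.toMul (l₀ (w m)) : (L₂ ⊗[R] A)ˣ) : L₂ ⊗[R] A)
    rw [Fintype.linearCombination_apply, toMul_sum, Units.coe_prod]
    refine (groupLikeSubmonoid L₂ (L₂ ⊗[R] A)).prod_mem fun j _ => ?_
    rw [toMul_zsmul, toMul_ofMul]
    show IsGroupLikeElem L₂ _
    have hU : IsGroupLikeElem L₂ (U j : L₂ ⊗[R] A) := hgl j
    cases w m j with
    | ofNat k => simp only [Int.ofNat_eq_natCast, zpow_natCast, Units.val_pow_eq_pow_val]; exact hU.pow
    | negSucc k =>
      simp only [zpow_negSucc, isGroupLikeElem_unitsInv, Units.val_pow_eq_pow_val]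
      exact hU.pow
  have hq₂p : ∀ z, q₂ (p z) = q₁ z := fun z => by
    show Algebra.TensorProduct.map _ _ (Algebra.TensorProduct.map _ _ z) = _
    rw [map_map_left, hρ]
  have hθL : ∀ m, q₂ (θ m) = γ m := fun m => by
    show q₂ ((Additive.toMul (l₀ (w m)) : (L₂ ⊗[R] A)ˣ) : L₂ ⊗[R] A) = γ m
    rw [hl₀, hq₂p, hq₁w, hw, toMul_ofMul]
  let f : MonoidAlgebra L₂ M →ₐ[L₂] L₂ ⊗[R] A := MonoidAlgebra.lift L₂ (L₂ ⊗[R] A) M θ
  have hf1 : ∀ m, f (single m 1) = θ m := fun m => by simp [f]
  have hwordf : ∀ v, p (word x y v) ∈ f.range := fun v =>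
    ⟨single (Additive.toMul (l v)) 1, by
      show f (single _ 1) = _
      rw [hf1, ← hl₀]
      show ((Additive.toMul (l₀ (w _)) : (L₂ ⊗[R] A)ˣ) : L₂ ⊗[R] A) = _
      rw [hfac (w (Additive.toMul (l v))) v (by rw [hw, ofMul_toMul])]⟩
  have hcf : ∀ z, p (c z) ∈ f.range := fun z => by
    have h := hk (Sum.inr (Sum.inr (Sum.inr z)))
    simp only [E, Sum.elim_inr, map_sub, sub_eq_zero] at h
    rw [h]
    exact ⟨algebraMap L₂ (MonoidAlgebra L₂ M) (ρ (jε (R := R) (A := A) L₁ (c z))), by
      show f (algebraMap L₂ _ _) = _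
      rw [AlgHom.commutes]
      rfl⟩
  have hGf : ∀ b ∈ G, Algebra.TensorProduct.map (IsScalarTower.toAlgHom R S L₂) (AlgHom.id R A) b ∈ f.range := by
    intro b hb
    have h := hk (Sum.inr (Sum.inr (Sum.inl ⟨b, hb⟩)))
    simp only [E, Sum.elim_inr, Sum.elim_inl, liftG, map_sub, map_sum, sub_eq_zero] at h
    rw [show p _ = Algebra.TensorProduct.map (ρ.comp (IsScalarTower.toAlgHom R S L₁)) (AlgHom.id R A) b from
      map_map_left _ _ b] at h
    have hρS : ρ.comp (IsScalarTower.toAlgHom R S L₁) = IsScalarTower.toAlgHom R S L₂ := by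
      refine AlgHom.ext fun a => ?_
      show ρ₃ (ρ₂ (algebraMap S L₁ a)) = algebraMap S L₂ a
      rw [hρ₂a, hρ₃a]
    rw [hρS] at h
    rw [h]
    refine Subalgebra.sum_mem _ fun m _ => ?_
    rw [map_mul]
    exact Subalgebra.mul_mem _ (hcf _) (hwordf _)
  have hfsurj : Function.Surjective f := by
    intro z
    show z ∈ f.range
    induction z using TensorProduct.induction_on with
    | zero => exact Subalgebra.zero_mem _
    | add u v hu hv => exact Subalgebra.add_mem _ hu hv
    | tmul t a =>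
      rw [show t ⊗ₜ[R] a = t • ((1 : L₂) ⊗ₜ[R] a) by simp [TensorProduct.smul_tmul']]
      refine Subalgebra.smul_mem _ ?_ t
      let toL₂ : S ⊗[R] A →ₐ[S] L₂ ⊗[R] A :=
        Algebra.TensorProduct.map (IsScalarTower.toAlgHom S S L₂) (AlgHom.id R A)
      have htoL₂ : ∀ u, toL₂ u = Algebra.TensorProduct.map (IsScalarTower.toAlgHom R S L₂) (AlgHom.id R A) u := by
        intro u
        induction u using TensorProduct.induction_on with
        | zero => simp
        | tmul p q => simp [toL₂]
        | add p q hp hq => simp only [map_add, hp, hq]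
      have hle : Algebra.adjoin S (G : Set (S ⊗[R] A)) ≤ (f.range.restrictScalars S).comap toL₂ :=
        Algebra.adjoin_le fun b hb => by
          show toL₂ b ∈ f.range
          rw [htoL₂]
          exact hGf b hb
      rw [hG] at hle
      have h2 : toL₂ ((1 : S) ⊗ₜ[R] a) ∈ f.range := hle (Algebra.mem_top (x := (1 : S) ⊗ₜ[R] a))
      rwa [show toL₂ ((1 : S) ⊗ₜ[R] a) = (1 : L₂) ⊗ₜ[R] a by rw [htoL₂]; simp] at h2
  -- the kernel
  haveI : Algebra.FinitePresentation L₂ (L₂ ⊗[R] A) :=
    Algebra.FinitePresentation.equiv (Algebra.TensorProduct.cancelBaseChange R S L₂ L₂ A)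
  haveI := finitePresentation_monoidAlgebra L₂ M
  obtain ⟨K, hK⟩ := Algebra.FinitePresentation.ker_fG_of_surjective f hfsurj
  let sc := MonoidAlgebra.scalarTensorEquiv R L₂ (M := M)
  let scL := MonoidAlgebra.scalarTensorEquiv R L (M := M)
  have hscnat : ∀ u, scL (Algebra.TensorProduct.map ψ₂ (AlgHom.id R (MonoidAlgebra R M)) u) = mapAlgHom M ψ₂ (sc u) := by
    intro u
    induction u using TensorProduct.induction_on with
    | zero => simp
    | add p q hp hq => simp only [map_add, hp, hq]
    | tmul t z =>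
      induction z using MonoidAlgebra.induction_linear with
      | zero => simp
      | add p q hp hq => simp only [TensorProduct.tmul_add, map_add, hp, hq]
      | single m a =>
        simp [sc, scL]
  have hfL : ∀ z, q₂ (f z) = e.symm (mapAlgHom M ψ₂ z) := by
    intro z
    induction z using MonoidAlgebra.induction_linear with
    | zero => simp
    | add p q hp hq => simp only [map_add, hp, hq]
    | single m t =>
      rw [show mapAlgHom M ψ₂ (single m t) = single m (ψ₂ t) from mapRingHom_single (ψ₂ : L₂ →+* L) m t,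
        show (single m t : MonoidAlgebra L₂ M) = algebraMap L₂ _ t * single m 1 by simp,
        show (single m (ψ₂ t) : MonoidAlgebra L M) = algebraMap L _ (ψ₂ t) * single m 1 by simp,
        map_mul f, AlgHom.commutes, map_mul q₂, hf1, hθL, map_mul e.symm, AlgHomClass.commutes e.symm]
      rw [show algebraMap L₂ (L₂ ⊗[R] A) t = t ⊗ₜ[R] (1 : A) from rfl]
      simp [q₂, γ]
  have hKL : ∀ z ∈ K, Algebra.TensorProduct.map ψ₂ (AlgHom.id R (MonoidAlgebra R M)) (sc.symm z) = 0 := by
    intro z hz
    apply scL.injective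
    rw [map_zero, hscnat, AlgEquiv.apply_symm_apply]
    apply EquivLike.injective e.symm
    rw [map_zero, ← hfL, show f z = 0 from (hK.le (Ideal.subset_span hz) : z ∈ RingHom.ker f.toRingHom), map_zero]
  obtain ⟨s₄, hs₄, ρ₄, -, -, -, hk₄⟩ := exists_kill_away (N := MonoidAlgebra R M) hs₃ K (fun z => sc.symm z) hKL
  let L₃ := Localization.Away s₄
  let P : L₂ ⊗[R] A →ₐ[R] L₃ ⊗[R] A := Algebra.TensorProduct.map ρ₄ (AlgHom.id R A)
  let θ₃ : M →* L₃ ⊗[R] A := (P : L₂ ⊗[R] A →* L₃ ⊗[R] A).comp θ
  have hθ₃ : ∀ m, IsGroupLikeElem L₃ (θ₃ m) := fun m => isGroupLikeElem_map ρ₄ (hθgl m)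
  let φ₃ : MonoidAlgebra L₃ M →ₐc[L₃] L₃ ⊗[R] A :=
    BialgHom.ofAlgHom (MonoidAlgebra.lift L₃ (L₃ ⊗[R] A) M θ₃)
      (by ext m; simp [(hθ₃ m).counit_eq_one]) (by ext m; simp [(hθ₃ m).comul_eq_tmul_self])
  let f₃ : MonoidAlgebra L₃ M →ₐ[L₃] L₃ ⊗[R] A := MonoidAlgebra.lift L₃ (L₃ ⊗[R] A) M θ₃
  have hker : RingHom.ker f.toRingHom ≤ RingHom.ker (mapAlgHom M ρ₄).toRingHom := by
    rw [← hK, Ideal.span_le]
    intro z hz
    have h := hk₄ z hz
    have hsc₃ : ∀ u, mapAlgHom M ρ₄ (sc u) =
        MonoidAlgebra.scalarTensorEquiv R L₃ (Algebra.TensorProduct.map ρ₄ (AlgHom.id R (MonoidAlgebra R M)) u) := by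
      intro u
      induction u using TensorProduct.induction_on with
      | zero => simp
      | add p q hp hq => simp only [map_add, hp, hq]
      | tmul t z =>
        induction z using MonoidAlgebra.induction_linear with
        | zero => simp
        | add p q hp hq => simp only [TensorProduct.tmul_add, map_add, hp, hq]
        | single m a =>
          simp [sc]
          rw [ρ₄.commutes]
    show mapAlgHom M ρ₄ z = 0
    rw [← sc.apply_symm_apply z, hsc₃, h, map_zero]
  let g' : L₂ ⊗[R] A →ₐ[R] MonoidAlgebra L₃ M :=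
    (Ideal.Quotient.liftₐ (RingHom.ker f) (mapAlgHom M ρ₄) hker).comp
      (((Ideal.quotientKerAlgEquivOfSurjective hfsurj).symm.toAlgHom).restrictScalars R)
  have hg' : ∀ z, g' (f z) = mapAlgHom M ρ₄ z := fun z => by
    show Ideal.Quotient.liftₐ _ _ hker ((Ideal.quotientKerAlgEquivOfSurjective hfsurj).symm (f z)) = _
    rw [(Ideal.quotientKerAlgEquivOfSurjective hfsurj).symm_apply_eq.2
      (show f z = Ideal.quotientKerAlgEquivOfSurjective hfsurj (Ideal.Quotient.mk _ z) from rfl)]
    rfl
  let inv : L₃ ⊗[R] A →ₐ[L₃] MonoidAlgebra L₃ M :=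
    Algebra.TensorProduct.lift (Algebra.ofId L₃ _) (g'.comp Algebra.TensorProduct.includeRight) fun _ _ => Commute.all _ _
  have hPinv : ∀ u, inv (P u) = g' u := by
    intro u
    induction u using TensorProduct.induction_on with
    | zero => simp
    | add p q hp hq => simp only [map_add, hp, hq]
    | tmul t a =>
      have ht : g' (algebraMap L₂ (L₂ ⊗[R] A) t) = algebraMap L₃ (MonoidAlgebra L₃ M) (ρ₄ t) := by
        rw [← f.commutes, hg']
        simp
      rw [show t ⊗ₜ[R] a = algebraMap L₂ (L₂ ⊗[R] A) t * ((1 : L₂) ⊗ₜ[R] a) by simp, map_mul g', ht]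
      rw [show algebraMap L₂ (L₂ ⊗[R] A) t = t ⊗ₜ[R] (1 : A) from rfl]
      simp [inv, P, MonoidAlgebra.coe_algebraMap, ← MonoidAlgebra.one_def]
  have hPf : ∀ z, f₃ (mapAlgHom M ρ₄ z) = P (f z) := by
    intro z
    induction z using MonoidAlgebra.induction_linear with
    | zero => simp
    | add p q hp hq => simp only [map_add, hp, hq]
    | single m t =>
      rw [show mapAlgHom M ρ₄ (single m t) = single m (ρ₄ t) from mapRingHom_single (ρ₄ : L₂ →+* L₃) m t,
        MonoidAlgebra.lift_single, MonoidAlgebra.lift_single]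
      show ρ₄ t • P (θ m) = P (t • θ m)
      generalize θ m = u
      induction u using TensorProduct.induction_on with
      | zero => simp
      | tmul a b => simp [P, TensorProduct.smul_tmul']
      | add a b ha hb => simp only [smul_add, map_add, ha, hb]
  have h1 : inv.comp f₃ = AlgHom.id _ _ := MonoidAlgebra.algHom_ext' (MonoidHom.ext fun m => by
    show inv (f₃ (single m 1)) = single m 1
    rw [MonoidAlgebra.lift_single, one_smul]
    show inv (P (θ m)) = _
    rw [hPinv, ← hf1, hg']
    exact (mapRingHom_single (ρ₄ : L₂ →+* L₃) m 1).trans (by rw [map_one])) (by ext)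
  have h2 : f₃.comp inv = AlgHom.id _ _ := Algebra.TensorProduct.ext (by ext) (AlgHom.ext fun a => by
    show f₃ (inv ((1 : L₃) ⊗ₜ[R] a)) = (1 : L₃) ⊗ₜ[R] a
    obtain ⟨z, hz⟩ := hfsurj ((1 : L₂) ⊗ₜ[R] a)
    rw [show inv ((1 : L₃) ⊗ₜ[R] a) = g' ((1 : L₂) ⊗ₜ[R] a) by simp [inv, ← MonoidAlgebra.one_def], ← hz, hg', hPf,
      hz]
    simp [P])
  exact ⟨s₄, hs₄, M, inferInstance, ⟨(BialgEquiv.ofBijective φ₃
    ⟨Function.LeftInverse.injective (fun z => congr($h1 z)), Function.RightInverse.surjective (fun z => congr($h2 z))⟩).symm⟩⟩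

end Groth.Agent.MultType
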